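import Cfsg.Agent.Lib.Linear.Criteria

/-!
# SL_n over a field
* `slTvSet`, `closure_slTvSet` : SL_n is generated by elementary transvections (any index type)
* `transvection_mul_comm`, `commutator_sl_eq_top`, `commutator_sl_eq_top_two`
* `exists_sl_smul_eq` : transitivity on nonzero vectors
* `isSimpleGroup_psl` : PSL_n(F) is simple (n ≥ 3)
-/

set_option autoImplicit false

open Matrix MulAction
open scoped LinearAlgebra.Projectivization commutatorElement

namespace Cfsg.Agent.Linear

variable {ι F : Type*} [Fintype ι] [DecidableEq ι] [Field F]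

/-- The elementary transvections in `SL ι F`. -/
def slTvSet (ι F : Type*) [Fintype ι] [DecidableEq ι] [Field F] :
    Set (SpecialLinearGroup ι F) :=
  {g | ∃ (i j : ι) (hij : i ≠ j) (c : F), g = SpecialLinearGroup.transvection hij c}

theorem transvection_smul_apply {i j : ι} (hij : i ≠ j) (c : F) (v : ι → F) (k : ι) :
    (SpecialLinearGroup.transvection hij c • v) k = v k + if k = i then c * v j else 0 := by
  change ((1 + Matrix.single i j c : Matrix ι ι F) *ᵥ v) k = _
  by_cases hk : k = i
  · subst hk; simp [Matrix.add_mulVec, Matrix.single_mulVec_eq]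
  · simp [Matrix.add_mulVec, Matrix.single_mulVec_eq, hk]

theorem diag2n_smul_apply {i j : ι} (hij : i ≠ j) {a : F} (ha : a ≠ 0) (v : ι → F) (k : ι) :
    (SpecialLinearGroup.diag2n hij a ha • v) k =
      (if k = i then a else if k = j then a⁻¹ else 1) * v k := by
  change ((SpecialLinearGroup.diag2n hij a ha : SpecialLinearGroup ι F).1 *ᵥ v) k = _
  rw [SpecialLinearGroup.diag2n_coe, Matrix.mulVec_diagonal]

theorem sl_ext_smul {g h : SpecialLinearGroup ι F} (H : ∀ v : ι → F, g • v = h • v) : g = h :=
  Subtype.ext (Matrix.mulVec_injective (funext fun v => H v))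

theorem diag2n_eq {i j : ι} (hij : i ≠ j) {a : F} (ha : a ≠ 0) :
    SpecialLinearGroup.diag2n hij a ha =
      SpecialLinearGroup.transvection hij a * SpecialLinearGroup.transvection hij.symm (-a⁻¹) *
      SpecialLinearGroup.transvection hij a * SpecialLinearGroup.transvection hij (-1) *
      SpecialLinearGroup.transvection hij.symm 1 * SpecialLinearGroup.transvection hij (-1) := by
  refine sl_ext_smul fun v => funext fun k => ?_
  simp only [mul_smul, transvection_smul_apply, diag2n_smul_apply]
  by_cases hki : k = i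
  · subst hki
    simp [hij, hij.symm]
    field_simp
    ring
  · by_cases hkj : k = j
    · subst hkj
      simp [hij, hij.symm]
      field_simp
      ring
    · simp [hki, hkj]

theorem closure_slTvSet : Subgroup.closure (slTvSet ι F) = ⊤ := by
  refine (Subgroup.eq_top_iff' _).2 fun M => ?_
  cases subsingleton_or_nontrivial ι with
  | inl h => rw [Subsingleton.elim M 1]; exact one_mem _
  | inr h =>
    have hT : ∀ (i j : ι) (hij : i ≠ j) (c : F),
        SpecialLinearGroup.transvection hij c ∈ Subgroup.closure (slTvSet ι F) :=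
      fun i j hij c => Subgroup.subset_closure ⟨i, j, hij, c, rfl⟩
    refine SpecialLinearGroup.diagonal_transvection_induction'
      (fun g => g ∈ Subgroup.closure (slTvSet ι F)) M (fun i j hij c hc => ?_) hT
      fun _ _ => mul_mem
    rw [diag2n_eq hij hc]
    exact mul_mem (mul_mem (mul_mem (mul_mem (mul_mem (hT _ _ _ _) (hT _ _ _ _)) (hT _ _ _ _))
      (hT _ _ _ _)) (hT _ _ _ _)) (hT _ _ _ _)

theorem transvection_mul_comm {i j k : ι} (hik : i ≠ k) (hkj : k ≠ j) (hij : i ≠ j) (a b : F) :
    ⁅SpecialLinearGroup.transvection hik a, SpecialLinearGroup.transvection hkj b⁆ =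
      SpecialLinearGroup.transvection hij (a * b) := by
  rw [commutatorElement_def, SpecialLinearGroup.transvection_inv,
    SpecialLinearGroup.transvection_inv]
  refine sl_ext_smul fun v => funext fun l => ?_
  simp only [mul_smul, transvection_smul_apply]
  by_cases hli : l = i
  · subst hli; simp [hik, hkj, hij, hik.symm, hkj.symm, hij.symm]; ring
  · by_cases hlk : l = k
    · subst hlk; simp [hik.symm, hkj.symm, hij.symm]
    · simp [hli, hlk]

theorem diag2n_transvection_comm {i j : ι} (hij : i ≠ j) {a : F} (ha : a ≠ 0) (b : F) :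
    ⁅SpecialLinearGroup.diag2n hij a ha, SpecialLinearGroup.transvection hij b⁆ =
      SpecialLinearGroup.transvection hij (b * (a ^ 2 - 1)) := by
  rw [commutatorElement_def, mul_inv_eq_iff_eq_mul, mul_inv_eq_iff_eq_mul]
  refine sl_ext_smul fun v => funext fun l => ?_
  simp only [mul_smul, transvection_smul_apply, diag2n_smul_apply]
  by_cases hli : l = i
  · subst hli; simp [hij, hij.symm]; field_simp; ring
  · by_cases hlj : l = j
    · subst hlj; simp [hij, hij.symm]
    · simp [hli, hlj]

theorem exists_third (h : 3 ≤ Fintype.card ι) (i j : ι) : ∃ k, i ≠ k ∧ k ≠ j := by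
  by_contra hc
  have : (Finset.univ : Finset ι) ⊆ {i, j} := by
    intro k _
    simp only [Finset.mem_insert, Finset.mem_singleton]
    by_contra hk
    exact hc ⟨k, fun e => hk (.inl e.symm), fun e => hk (.inr e)⟩
  have := (Finset.card_le_card this).trans Finset.card_le_two
  simp at this; omega

theorem transvection_mem_commutatorSet (h : 3 ≤ Fintype.card ι ∨ ∃ x : F, x ≠ 0 ∧ x ^ 2 ≠ 1)
    {i j : ι} (hij : i ≠ j) (c : F) :
    SpecialLinearGroup.transvection hij c ∈ commutatorSet (SpecialLinearGroup ι F) := by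
  rcases h with h | ⟨a, ha, ha2⟩
  · obtain ⟨k, hik, hkj⟩ := exists_third h i j
    exact ⟨_, _, by rw [transvection_mul_comm hik hkj hij c 1, mul_one]⟩
  · exact ⟨_, _, by rw [diag2n_transvection_comm hij ha (c / (a ^ 2 - 1)),
      div_mul_cancel₀ c (sub_ne_zero_of_ne ha2)]⟩

/-- `SL_n(F)` is perfect for `n ≥ 3`, or if `F` has an element `x ≠ 0` with `x² ≠ 1`. -/
theorem commutator_sl_eq_top (h : 3 ≤ Fintype.card ι ∨ ∃ x : F, x ≠ 0 ∧ x ^ 2 ≠ 1) :
    commutator (SpecialLinearGroup ι F) = ⊤ := by
  refine commutator_eq_top_of_closure closure_slTvSet ?_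
  rintro _ ⟨i, j, hij, c, rfl⟩
  rw [commutator_eq_closure]
  exact Subgroup.subset_closure (transvection_mem_commutatorSet h hij c)

/-- `SL_n(F)` is transitive on nonzero vectors, `n ≥ 2`. -/
theorem exists_sl_smul_eq [Nontrivial ι] {u v : ι → F} (hu : u ≠ 0) (hv : v ≠ 0) :
    ∃ g : SpecialLinearGroup ι F, g • u = v := by
  obtain ⟨i, j, hij⟩ := exists_pair_ne ι
  have key : ∀ w : ι → F, w ≠ 0 →
      ∃ g : SpecialLinearGroup ι F, g • (Pi.single i 1 : ι → F) = w := by
    intro w hw
    obtain ⟨g, hg⟩ := MulAction.exists_smul_eq (SpecialLinearGroup ι F)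
      (Projectivization.mk F (Pi.single i 1 : ι → F) (by simp)) (Projectivization.mk F w hw)
    rw [Projectivization.smul_mk, Projectivization.mk_eq_mk_iff] at hg
    obtain ⟨a, ha⟩ := hg
    refine ⟨g * SpecialLinearGroup.diag2n hij ((a⁻¹ : Fˣ) : F) (Units.ne_zero _), ?_⟩
    have he : SpecialLinearGroup.diag2n hij ((a⁻¹ : Fˣ) : F) (Units.ne_zero _) •
        (Pi.single i 1 : ι → F) = ((a⁻¹ : Fˣ) : F) • Pi.single i 1 := by
      funext k
      rw [diag2n_smul_apply]
      by_cases hk : k = i
      · subst hk; simp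
      · simp [hk]
    rw [mul_smul, he, smul_comm, ← ha, ← Units.smul_def, inv_smul_smul]
  obtain ⟨g₁, hg₁⟩ := key u hu
  obtain ⟨g₂, hg₂⟩ := key v hv
  exact ⟨g₂ * g₁⁻¹, by rw [mul_smul, ← hg₁, inv_smul_smul, hg₂]⟩

/-- The root groups of `SL_n` on projective space form an Iwasawa structure. -/
noncomputable def slIwasawa :
    IwasawaStructure (SpecialLinearGroup ι F) (ℙ F (ι → F)) where
  T p := SpecialLinearGroup.lineStab p.submodule
  is_comm p := by
    rw [← Projectivization.mk_rep p, Projectivization.submodule_mk]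
    exact SpecialLinearGroup.lineStab_isMulCommutative_of_span p.rep p.rep_nonzero
  is_conj g p := by
    rw [PSL.smul_submodule, SpecialLinearGroup.lineStab_smul]
  is_generator := by
    refine top_unique (closure_slTvSet (ι := ι) (F := F) ▸ (Subgroup.closure_le _).2 ?_)
    rintro _ ⟨i, j, hij, c, rfl⟩
    have := SL2Gen.transvection_mem_lineStab hij c
    rw [← Projectivization.submodule_mk (K := F) _ (Pi.single_ne_zero_iff.2 one_ne_zero)] at this
    exact Subgroup.mem_iSup_of_mem _ this

theorem isSimpleGroup_psl (h : 3 ≤ Fintype.card ι) :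
    IsSimpleGroup (ProjectiveSpecialLinearGroup ι F) := by
  have : Nontrivial ι := Fintype.one_lt_card_iff_nontrivial.1 (by omega)
  obtain ⟨i, j, hij⟩ := exists_pair_ne ι
  have : Nontrivial (ℙ F (ι → F)) :=
    ⟨⟨Projectivization.mk F (Pi.single i 1) (by simp),
      Projectivization.mk F (Pi.single j 1) (by simp), fun e => by
        obtain ⟨a, ha⟩ := (Projectivization.mk_eq_mk_iff' F _ _ _ _).1 e
        simpa [hij] using congrFun ha i⟩⟩
  refine isSimpleGroup_quotient_center_of_iwasawa (commutator_sl_eq_top (.inl h)) slIwasawa ?_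
  intro g hg
  rw [← Projectivization.SL_mulAction_ker, MonoidHom.mem_ker]
  exact Equiv.ext hg

/-- Nontriviality of the centre quotient and faithfulness: `PSL` embeds in permutations of
projective space. -/
theorem nonempty_psl_perm_embedding :
    ∃ φ : ProjectiveSpecialLinearGroup ι F →* Equiv.Perm (ℙ F (ι → F)), Function.Injective φ :=
  ⟨_, ProjectiveSpecialLinearGroup.toPermHom_injective⟩

end Cfsg.Agent.Linear
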