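import Cfsg.Agent.Lib.Linear.SLn

/-!
# Tools for the small isomorphisms
* `slMapEquiv`, `pslMapEquiv` : change of field along a ring isomorphism
* `closure_pslTwo_prime` : PSL_2(p) is generated by the two unipotents with entry 1
* `altTriple`, `closure_altTriple` : the alternating group is generated by (0 1 k)
* `exists_hom_of_compat_maps` : homomorphism from a relation on finite sets
* `smul_projMk_eq` : proportionality test for images of projective points
-/

set_option autoImplicit false

open Matrix
open scoped LinearAlgebra.Projectivization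

namespace Cfsg.Agent.Linear

/-! ## Change of field -/

section ringEquiv

variable {ι F K : Type*} [Fintype ι] [DecidableEq ι] [Field F] [Field K]

/-- `SL` along a ring isomorphism. -/
def slMapEquiv (e : F ≃+* K) : SpecialLinearGroup ι F ≃* SpecialLinearGroup ι K where
  toFun := SpecialLinearGroup.map e.toRingHom
  invFun := SpecialLinearGroup.map e.symm.toRingHom
  left_inv g := by ext i j; simp
  right_inv g := by ext i j; simp
  map_mul' := map_mul _

theorem map_center_mulEquiv {G H : Type*} [Group G] [Group H] (e : G ≃* H) :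
    (Subgroup.center G).map e.toMonoidHom = Subgroup.center H := by
  ext x
  simp only [Subgroup.mem_map, Subgroup.mem_center_iff]
  refine ⟨fun ⟨y, hy, hxy⟩ z => ?_, fun hx => ⟨e.symm x, fun z => ?_, by simp⟩⟩
  · rw [← hxy, ← e.apply_symm_apply z]
    simp only [MulEquiv.coe_toMonoidHom, ← map_mul, hy]
  · apply e.injective
    simp only [map_mul, MulEquiv.apply_symm_apply, hx]

/-- `PSL` along a ring isomorphism. -/
noncomputable def pslMapEquiv (e : F ≃+* K) :
    ProjectiveSpecialLinearGroup ι F ≃* ProjectiveSpecialLinearGroup ι K :=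
  QuotientGroup.congr _ _ (slMapEquiv e) (map_center_mulEquiv _)

end ringEquiv

/-! ## Generation of `PSL_2(p)` -/

theorem closure_slTwo_prime (p : ℕ) [Fact p.Prime] :
    Subgroup.closure ({SpecialLinearGroup.transvection (zero_ne_one' (Fin 2)) 1,
      SpecialLinearGroup.transvection (zero_ne_one' (Fin 2)).symm 1} :
        Set (SpecialLinearGroup (Fin 2) (ZMod p))) = ⊤ := by
  refine top_unique (closure_slTvSet (ι := Fin 2) (F := ZMod p) ▸ (Subgroup.closure_le _).2 ?_)
  rintro _ ⟨i, j, hij, c, rfl⟩
  have key : ∀ (k : ℕ), SpecialLinearGroup.transvection hij (k : ZMod p) =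
      (SpecialLinearGroup.transvection hij 1) ^ k := by
    intro k
    induction k with
    | zero => simp
    | succ k ih => rw [Nat.cast_succ, SpecialLinearGroup.transvection_add, pow_succ, ih]
  rw [← ZMod.natCast_zmod_val c, key]
  refine pow_mem (Subgroup.subset_closure ?_) _
  fin_cases i <;> fin_cases j <;> first | exact absurd rfl hij | simp

theorem closure_pslTwo_prime (p : ℕ) [Fact p.Prime] :
    Subgroup.closure ({QuotientGroup.mk (SpecialLinearGroup.transvection (zero_ne_one' (Fin 2)) 1),
      QuotientGroup.mk (SpecialLinearGroup.transvection (zero_ne_one' (Fin 2)).symm 1)} :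
        Set (ProjectiveSpecialLinearGroup (Fin 2) (ZMod p))) = ⊤ := by
  have h := congrArg (Subgroup.map
    (QuotientGroup.mk' (Subgroup.center (SpecialLinearGroup (Fin 2) (ZMod p)))))
    (closure_slTwo_prime p)
  rw [MonoidHom.map_closure, Set.image_pair,
    Subgroup.map_top_of_surjective _ (QuotientGroup.mk'_surjective _)] at h
  exact h

/-! ## Generation of the alternating group -/

/-- The three-cycle sending `0 ↦ 1 ↦ k ↦ 0` or its inverse, as a product of two swaps. -/
def altTriple {n : ℕ} (k : Fin (n + 2)) : Equiv.Perm (Fin (n + 2)) :=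
  Equiv.swap 0 k * Equiv.swap 0 1

theorem mem_closure_altTriple {n : ℕ} {σ : Equiv.Perm (Fin (n + 2))}
    (hσ : σ ∈ alternatingGroup (Fin (n + 2))) :
    σ ∈ Subgroup.closure {g | ∃ k : Fin (n + 2), 2 ≤ k.1 ∧ g = altTriple k} := by
  set S := {g | ∃ k : Fin (n + 2), 2 ≤ k.1 ∧ g = altTriple k} with hS
  set K := Subgroup.closure S with hK
  set t : Equiv.Perm (Fin (n + 2)) := Equiv.swap 0 1 with ht
  have hT : ∀ k : Fin (n + 2), k ≠ 0 → Equiv.swap 0 k * t ∈ K := by
    intro k hk
    by_cases hk1 : k = 1
    · subst hk1; rw [ht, Equiv.swap_mul_self]; exact one_mem _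
    · refine Subgroup.subset_closure ⟨k, ?_, rfl⟩
      have h0 : k.1 ≠ 0 := fun e => hk (Fin.ext e)
      have h1 : k.1 ≠ 1 := fun e => hk1 (Fin.ext e)
      omega
  have main : ∀ τ : Equiv.Perm (Fin (n + 2)), τ ∈ K ∨ τ * t ∈ K := by
    have step : ∀ (τ : Equiv.Perm (Fin (n + 2))) (k : Fin (n + 2)), k ≠ 0 →
        (τ ∈ K ∨ τ * t ∈ K) → (τ * Equiv.swap 0 k ∈ K ∨ τ * Equiv.swap 0 k * t ∈ K) := by
      intro τ k hk h
      rcases h with h | h
      · exact .inr (by rw [mul_assoc]; exact mul_mem h (hT k hk))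
      · refine .inl ?_
        have := mul_mem h (inv_mem (hT k hk))
        simpa [ht, mul_assoc] using this
    intro τ
    induction τ using Equiv.Perm.swap_induction_on' with
    | one => exact .inl (one_mem _)
    | mul_swap τ x y hxy ih =>
      by_cases hx : x = 0
      · subst hx; exact step τ y (Ne.symm hxy) ih
      by_cases hy : y = 0
      · subst hy; rw [Equiv.swap_comm]; exact step τ x hx ih
      have hxy' : Equiv.swap x y =
          Equiv.swap 0 x * Equiv.swap 0 y * Equiv.swap 0 x := by
        rw [Equiv.swap_comm 0 x]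
        refine Equiv.ext fun z => ?_
        simp only [Equiv.Perm.mul_apply, Equiv.swap_apply_def]
        split_ifs <;> simp_all
      rw [hxy', ← mul_assoc, ← mul_assoc]
      exact step _ x hx (step _ y hy (step τ x hx ih))
  rcases main σ with h | h
  · exact h
  · exfalso
    have hle : K ≤ alternatingGroup (Fin (n + 2)) := by
      refine (Subgroup.closure_le _).2 ?_
      rintro _ ⟨k, hk, rfl⟩
      have hk0 : (0 : Fin (n + 2)) ≠ k := fun e => by simp [← e] at hk
      simp [Equiv.Perm.mem_alternatingGroup, altTriple, hk0]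
    have h2 := hle h
    rw [Equiv.Perm.mem_alternatingGroup] at hσ h2
    rw [map_mul, hσ, ht, Equiv.Perm.sign_swap (by simp)] at h2
    exact absurd h2 (by decide)

theorem closure_altTriple {n : ℕ} :
    Subgroup.closure {g : alternatingGroup (Fin (n + 2)) |
      ∃ k : Fin (n + 2), 2 ≤ k.1 ∧ (g : Equiv.Perm (Fin (n + 2))) = altTriple k} = ⊤ := by
  refine (Subgroup.eq_top_iff' _).2 fun σ => ?_
  apply (Subgroup.mem_map_iff_mem (alternatingGroup (Fin (n + 2))).subtype_injective).1
  rw [MonoidHom.map_closure]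
  refine Subgroup.closure_mono ?_ (mem_closure_altTriple σ.2)
  rintro _ ⟨k, hk, rfl⟩
  have hk0 : (0 : Fin (n + 2)) ≠ k := fun e => by simp [← e] at hk
  exact ⟨⟨altTriple k, by simp [Equiv.Perm.mem_alternatingGroup, altTriple, hk0]⟩, ⟨k, hk, rfl⟩,
    rfl⟩

/-! ## Homomorphisms from relations -/

/-- As `exists_hom_of_compat`, for finite sets, where it suffices that the generators map the
relation into itself. -/
theorem exists_hom_of_compat_maps {G H Z Y : Type*} [Group G] [Group H] [MulAction H Y]
    [FaithfulSMul H Y] [Finite Z] [Finite Y] (ρ : G →* Equiv.Perm Z) (R : Z → Y → Prop)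
    (hR : ∀ y y', (∀ z, R z y ↔ R z y') → y = y') {S : Set G} (hS : Subgroup.closure S = ⊤)
    (hgen : ∀ s ∈ S, ∃ h : H, ∀ z y, R z y → R (ρ s z) (h • y)) :
    ∃ f : G →* H, ∀ g z y, R (ρ g z) (f g • y) ↔ R z y := by
  letI : MulAction G Z := MulAction.compHom Z ρ
  refine exists_hom_of_compat (G := G) (Z := Z) R hR hS fun s hs => ?_
  obtain ⟨h, hh⟩ := hgen s hs
  refine ⟨h, fun z y => ⟨fun hr => ?_, hh z y⟩⟩
  let Φ : {p : Z × Y // R p.1 p.2} → {p : Z × Y // R p.1 p.2} :=
    fun p => ⟨(ρ s p.1.1, h • p.1.2), hh _ _ p.2⟩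
  have hi : Function.Injective Φ := fun p q e => by
    have e' := congrArg Subtype.val e
    simp only [Φ, Prod.mk.injEq] at e'
    exact Subtype.ext (Prod.ext ((ρ s).injective e'.1) (smul_left_cancel h e'.2))
  obtain ⟨⟨⟨z', y'⟩, hr'⟩, e⟩ := Finite.injective_iff_surjective.1 hi ⟨(s • z, h • y), hr⟩
  have e' := congrArg Subtype.val e
  simp only [Φ, Prod.mk.injEq] at e'
  have hz : z' = z := (ρ s).injective e'.1
  have hy : y' = y := smul_left_cancel h e'.2
  subst hz hy
  exact hr'

/-- Permutations acting on Boolean predicates. -/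
def predHom (n : ℕ) : Equiv.Perm (Fin n) →* Equiv.Perm (Fin n → Bool) where
  toFun σ := σ.arrowCongr (Equiv.refl _)
  map_one' := rfl
  map_mul' _ _ := rfl

theorem predHom_apply {n : ℕ} (σ : Equiv.Perm (Fin n)) (s : Fin n → Bool) (i : Fin n) :
    predHom n σ s i = s (σ.symm i) := rfl

/-- The bits of a number as a predicate. -/
def maskPred (n t : ℕ) : Fin n → Bool := fun i => t.testBit i

theorem smul_projMk_eq {F : Type*} [Field F] (M : SpecialLinearGroup (Fin 2) F)
    {v w : Fin 2 → F} (hv : v ≠ 0) (hw : w ≠ 0)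
    (h : (M.1 *ᵥ v) 0 * w 1 = (M.1 *ᵥ v) 1 * w 0) :
    M • Projectivization.mk F v hv = Projectivization.mk F w hw := by
  rw [Projectivization.smul_mk]
  refine (Projectivization.mk_eq_mk_iff' F _ _ _ _).2 ?_
  change ∃ a : F, a • w = M.1 *ᵥ v
  set u := M.1 *ᵥ v
  by_cases h0 : w 0 = 0
  · have h1 : w 1 ≠ 0 := fun e => hw (funext fun i => by fin_cases i <;> simp [h0, e])
    have hu0 : u 0 = 0 := by simpa [h0, h1] using h
    refine ⟨u 1 / w 1, funext fun i => ?_⟩
    fin_cases i <;> simp [h0, hu0, h1]
  · refine ⟨u 0 / w 0, funext fun i => ?_⟩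
    fin_cases i
    · simp [h0]
    · change u 0 / w 0 * w 1 = u 1
      rw [div_mul_eq_mul_div, h]
      simp [h0]

end Cfsg.Agent.Linear
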