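import Cfsg.Agent.EqLemmas

/-!
# Criteria used for the classical groups
* `commutator_eq_top_of_closure`
* `isSimpleGroup_quotient_center_of_iwasawa` : Iwasawa's criterion for `G/Z(G)`
* `nonempty_mulEquiv_of_injective`, `nonempty_mulEquiv_perm`, `nonempty_mulEquiv_alternating`
* `exists_hom_of_compat` : a homomorphism from a relation respected by generators
-/

set_option autoImplicit false

open scoped Pointwise
open MulAction Subgroup

namespace Cfsg.Agent.Linear

theorem commutator_eq_top_of_closure {G : Type*} [Group G] {S : Set G}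
    (hS : Subgroup.closure S = ⊤) (h : ∀ s ∈ S, s ∈ commutator G) : commutator G = ⊤ :=
  top_unique (hS ▸ (Subgroup.closure_le _).2 h)

/-- Iwasawa's criterion for `G / Z(G)`: a perfect group with a quasiprimitive action whose
kernel is central, and an Iwasawa structure. -/
theorem isSimpleGroup_quotient_center_of_iwasawa {G α : Type*} [Group G] [MulAction G α]
    [IsQuasiPreprimitive G α] [Nontrivial α] (hperf : commutator G = ⊤)
    (I : IwasawaStructure G α) (hker : ∀ g : G, (∀ a : α, g • a = a) → g ∈ center G) :
    IsSimpleGroup (G ⧸ center G) := by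
  have hne : center G ≠ ⊤ := by
    intro htop
    have hc : commutator G = ⊥ := by
      rw [commutator_def, commutator_eq_bot_iff_le_centralizer, coe_top, centralizer_univ, htop]
    have h1 : ∀ g : G, g = 1 := fun g => by
      rw [← Subgroup.mem_bot, ← hc, hperf]; trivial
    obtain ⟨a, b, hab⟩ := exists_pair_ne α
    obtain ⟨g, hg⟩ := MulAction.exists_smul_eq G a b
    rw [h1 g, one_smul] at hg
    exact hab hg
  have : Nontrivial (G ⧸ center G) := by
    obtain ⟨g, hg⟩ : ∃ g, g ∉ center G := by
      by_contra h
      exact hne (eq_top_iff' _ |>.2 fun g => Classical.byContradiction fun hg => h ⟨g, hg⟩)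
    exact ⟨⟨(g : G ⧸ center G), 1, fun h => hg ((QuotientGroup.eq_one_iff g).1 h)⟩⟩
  refine IsSimpleGroup.mk fun N hN => ?_
  set M := N.comap (QuotientGroup.mk' (center G)) with hM
  have hMN : M.map (QuotientGroup.mk' (center G)) = N :=
    map_comap_eq_self_of_surjective (QuotientGroup.mk'_surjective _) N
  by_cases hfix : fixedPoints M α = .univ
  · left
    rw [← hMN, Subgroup.map_eq_bot_iff, QuotientGroup.ker_mk']
    intro g hg
    exact hker g fun a => (Set.eq_univ_iff_forall.1 hfix a) ⟨g, hg⟩
  · right
    have : M = ⊤ := top_unique (hperf ▸ I.commutator_le M hfix)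
    rw [← hMN, this, map_top_of_surjective _ (QuotientGroup.mk'_surjective _)]

/-- Two injective homomorphisms into one group, equal finite orders, generators of the first
land in the image of the second. -/
theorem nonempty_mulEquiv_of_injective {G H P : Type*} [Group G] [Group H] [Group P] [Finite H]
    (φ : G →* P) (ψ : H →* P) (hφ : Function.Injective φ) (hψ : Function.Injective ψ)
    (hcard : Nat.card G = Nat.card H) {S : Set G} (hS : Subgroup.closure S = ⊤)
    (hgen : ∀ s ∈ S, φ s ∈ ψ.range) : Nonempty (G ≃* H) := by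
  have hle : φ.range ≤ ψ.range := by
    rintro _ ⟨g, rfl⟩
    exact ((Subgroup.closure_le (ψ.range.comap φ)).2 hgen) (hS ▸ Subgroup.mem_top g)
  have hc1 := Nat.card_congr (MonoidHom.ofInjective hφ).toEquiv
  have hc2 := Nat.card_congr (MonoidHom.ofInjective hψ).toEquiv
  have : Finite ψ.range := Finite.of_equiv H (MonoidHom.ofInjective hψ).toEquiv
  have heq : φ.range = ψ.range := Subgroup.eq_of_le_of_card_ge hle (by omega)
  exact ⟨(MonoidHom.ofInjective hφ).trans
    ((MulEquiv.subgroupCongr heq).trans (MonoidHom.ofInjective hψ).symm)⟩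

theorem nonempty_mulEquiv_perm {G α : Type*} [Group G] [Fintype α] [DecidableEq α]
    (φ : G →* Equiv.Perm α) (hφ : Function.Injective φ)
    (hcard : Nat.card G = (Fintype.card α).factorial) : Nonempty (G ≃* Equiv.Perm α) :=
  ⟨MulEquiv.ofBijective φ ((Nat.bijective_iff_injective_and_card φ).2
    ⟨hφ, by rw [hcard, Nat.card_eq_fintype_card, Fintype.card_perm]⟩)⟩

theorem nonempty_mulEquiv_alternating {G α : Type*} [Group G] [Fintype α] [DecidableEq α]
    (φ : G →* Equiv.Perm α) (hφ : Function.Injective φ)
    (hcard : 2 * Nat.card G = (Fintype.card α).factorial) :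
    Nonempty (G ≃* alternatingGroup α) := by
  have hc : Nat.card φ.range = Nat.card G :=
    (Nat.card_congr (MonoidHom.ofInjective hφ).toEquiv).symm
  have hpos : 0 < Nat.card G := by
    have := Nat.factorial_pos (Fintype.card α); omega
  have hidx : φ.range.index = 2 := by
    have h := φ.range.card_mul_index
    rw [hc, Nat.card_eq_fintype_card (α := Equiv.Perm α), Fintype.card_perm, ← hcard,
      mul_comm 2] at h
    exact Nat.eq_of_mul_eq_mul_left hpos h
  exact ⟨(MonoidHom.ofInjective hφ).trans
    (MulEquiv.subgroupCongr (Equiv.Perm.eq_alternatingGroup_of_index_eq_two hidx))⟩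

/-- A homomorphism from a relation respected by the generators: if the points of `Y` are
separated by `R` and every generator of `G` has a partner in `H` respecting `R`, there is a
homomorphism `G →* H` respecting `R`. -/
theorem exists_hom_of_compat {G H Z Y : Type*} [Group G] [Group H] [MulAction G Z]
    [MulAction H Y] [FaithfulSMul H Y] (R : Z → Y → Prop)
    (hR : ∀ y y', (∀ z, R z y ↔ R z y') → y = y') {S : Set G} (hS : Subgroup.closure S = ⊤)
    (hgen : ∀ s ∈ S, ∃ h : H, ∀ z y, R (s • z) (h • y) ↔ R z y) :
    ∃ f : G →* H, ∀ g z y, R (g • z) (f g • y) ↔ R z y := by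
  have hex : ∀ g : G, ∃ h : H, ∀ z y, R (g • z) (h • y) ↔ R z y := by
    intro g
    induction hS ▸ Subgroup.mem_top g using Subgroup.closure_induction with
    | mem s hs => exact hgen s hs
    | one => exact ⟨1, fun z y => by simp⟩
    | mul a b _ _ iha ihb =>
      obtain ⟨x, hx⟩ := iha
      obtain ⟨x', hx'⟩ := ihb
      exact ⟨x * x', fun z y => by rw [mul_smul, mul_smul, hx, hx']⟩
    | inv a _ iha =>
      obtain ⟨x, hx⟩ := iha
      exact ⟨x⁻¹, fun z y => by rw [← hx (a⁻¹ • z) (x⁻¹ • y)]; simp⟩
  have huniq : ∀ (g : G) (h h' : H), (∀ z y, R (g • z) (h • y) ↔ R z y) →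
      (∀ z y, R (g • z) (h' • y) ↔ R z y) → h = h' := by
    intro g h h' hh hh'
    refine FaithfulSMul.eq_of_smul_eq_smul (α := Y) fun y => hR _ _ fun z => ?_
    rw [← smul_inv_smul g z, hh, hh']
  choose f hf using hex
  refine ⟨MonoidHom.mk' f fun a b => huniq (a * b) _ _ (hf (a * b)) fun z y => ?_, hf⟩
  rw [mul_smul, mul_smul, hf, hf]

end Cfsg.Agent.Linear
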