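import Cfsg.Agent.Lib.Linear.GenTools
import Cfsg.Agent.Lib.GLOrder.Basic

/-!
# Exceptional isomorphisms of small PSL_2
* `nonempty_slTwo_two`, `nonempty_pslTwo_three`, `nonempty_pslTwo_four`,
  `nonempty_pslTwo_five`, `nonempty_pslTwo_seven`
-/

set_option autoImplicit false

open Matrix
open scoped LinearAlgebra.Projectivization

namespace Cfsg.Agent.Linear

theorem card_projLine (F : Type*) [Field F] [Finite F] :
    Nat.card (ℙ F (Fin 2 → F)) = Nat.card F + 1 :=
  Projectivization.card_of_finrank_two F (Fin 2 → F) (Module.finrank_fin_fun F)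

/-- The projective line of a finite field, numbered. -/
noncomputable def projLineEquiv (F : Type*) [Field F] [Finite F] {n : ℕ}
    (h : Nat.card F + 1 = n) : ℙ F (Fin 2 → F) ≃ Fin n :=
  Nat.equivFinOfCardPos (by rw [card_projLine]; omega) |>.trans
    (finCongr (by rw [card_projLine, h]))

theorem exists_psl_perm {F : Type*} [Field F] [Finite F] {n : ℕ} (h : Nat.card F + 1 = n) :
    ∃ φ : ProjectiveSpecialLinearGroup (Fin 2) F →* Equiv.Perm (Fin n), Function.Injective φ :=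
  ⟨(projLineEquiv F h).permCongrHom.toMonoidHom.comp Projectivization.PSLAction.toPermHom,
    (projLineEquiv F h).permCongrHom.injective.comp
      ProjectiveSpecialLinearGroup.toPermHom_injective⟩

theorem nonempty_slTwo_two {F : Type*} [Field F] [Finite F] (hF : Nat.card F = 2) :
    Nonempty (SpecialLinearGroup (Fin 2) F ≃* Equiv.Perm (Fin 3)) := by
  obtain ⟨φ, hφ⟩ := exists_psl_perm (F := F) (n := 3) (by omega)
  have hS : Nat.card (SpecialLinearGroup (Fin 2) F) = 6 := by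
    rw [Cfsg.Agent.GLOrder.card_SL_two, hF]; norm_num
  have hP : Nat.card (ProjectiveSpecialLinearGroup (Fin 2) F) = 6 := by
    rw [Cfsg.Agent.GLOrder.card_PSL_two, hF]; norm_num
  have : Finite (SpecialLinearGroup (Fin 2) F) := inferInstance
  refine nonempty_mulEquiv_perm (φ.comp (QuotientGroup.mk' _)) (hφ.comp ?_) (by rw [hS]; rfl)
  exact ((Nat.bijective_iff_surjective_and_card _).2
    ⟨QuotientGroup.mk'_surjective _, by rw [hS]; exact hP.symm⟩).1

theorem nonempty_pslTwo_three {F : Type*} [Field F] [Finite F] (hF : Nat.card F = 3) :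
    Nonempty (ProjectiveSpecialLinearGroup (Fin 2) F ≃* alternatingGroup (Fin 4)) := by
  obtain ⟨φ, hφ⟩ := exists_psl_perm (F := F) (n := 4) (by omega)
  refine nonempty_mulEquiv_alternating φ hφ ?_
  rw [Cfsg.Agent.GLOrder.card_PSL_two, hF]; decide

theorem nonempty_pslTwo_four {F : Type*} [Field F] [Finite F] (hF : Nat.card F = 4) :
    Nonempty (ProjectiveSpecialLinearGroup (Fin 2) F ≃* alternatingGroup (Fin 5)) := by
  obtain ⟨φ, hφ⟩ := exists_psl_perm (F := F) (n := 5) (by omega)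
  refine nonempty_mulEquiv_alternating φ hφ ?_
  rw [Cfsg.Agent.GLOrder.card_PSL_two, hF]; decide

/-- Representatives of the projective line over `ZMod p`. -/
def lineRep (p : ℕ) (a : Fin (p + 1)) : Fin 2 → ZMod p :=
  if a.1 < p then ![(a.1 : ZMod p), 1] else ![1, 0]

/-- Proportionality of a moved representative and another one. -/
def LineRel {p : ℕ} (M : Matrix (Fin 2) (Fin 2) (ZMod p)) (a a' : Fin (p + 1)) : Prop :=
  (M *ᵥ lineRep p a) 0 * lineRep p a' 1 = (M *ᵥ lineRep p a) 1 * lineRep p a' 0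

instance instDecidableLineRel {p : ℕ} (M : Matrix (Fin 2) (Fin 2) (ZMod p))
    (a a' : Fin (p + 1)) : Decidable (LineRel M a a') :=
  inferInstanceAs (Decidable (_ = _))

/-- `h` respects the relation `R0` for the matrix `M` acting on the projective line. -/
def LineCompat {p : ℕ} {Y : Type*} (M : Matrix (Fin 2) (Fin 2) (ZMod p))
    (R0 : Fin (p + 1) → Fin (p + 1) → Y → Prop) (π : Y → Y) : Prop :=
  ∀ a b y, R0 a b y → ∃ a' b', LineRel M a a' ∧ LineRel M b b' ∧ R0 a' b' (π y)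

theorem exists_hom_pslTwo_prime (p : ℕ) [Fact p.Prime] (hp : 4 ≤ p) {H Y : Type*} [Group H]
    [MulAction H Y] [FaithfulSMul H Y] [Finite Y] [Finite H]
    (R0 : Fin (p + 1) → Fin (p + 1) → Y → Prop)
    (hne : ∀ a, lineRep p a ≠ 0) (hinj : ∀ a b, LineRel (1 : Matrix (Fin 2) (Fin 2) (ZMod p)) a b → a = b)
    (hsep : ∀ y y', (∀ a b, R0 a b y ↔ R0 a b y') → y = y')
    (h01 h10 : H)
    (hh01 : LineCompat (Matrix.transvection (0 : Fin 2) 1 (1 : ZMod p)) R0 (h01 • ·))
    (hh10 : LineCompat (Matrix.transvection (1 : Fin 2) 0 (1 : ZMod p)) R0 (h10 • ·))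
    (hnt : ∃ a b y, R0 a b y ∧ ∀ a' b', LineRel (Matrix.transvection (0 : Fin 2) 1 (1 : ZMod p)) a a' →
      LineRel (Matrix.transvection (0 : Fin 2) 1 (1 : ZMod p)) b b' → ¬ R0 a' b' y)
    (hcard : Nat.card (ProjectiveSpecialLinearGroup (Fin 2) (ZMod p)) = Nat.card H) :
    Nonempty (ProjectiveSpecialLinearGroup (Fin 2) (ZMod p) ≃* H) := by
  let P : Fin (p + 1) → ℙ (ZMod p) (Fin 2 → ZMod p) :=
    fun a => Projectivization.mk _ (lineRep p a) (hne a)
  have hP : Function.Injective P := fun a b h => hinj a b (by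
    obtain ⟨c, hc⟩ := (Projectivization.mk_eq_mk_iff' _ _ _ _ _).1 h
    rw [LineRel, Matrix.one_mulVec, ← hc]
    simp only [Pi.smul_apply, smul_eq_mul]
    ring)
  let G := ProjectiveSpecialLinearGroup (Fin 2) (ZMod p)
  let Z := ℙ (ZMod p) (Fin 2 → ZMod p) × ℙ (ZMod p) (Fin 2 → ZMod p)
  let ρ : G →* Equiv.Perm Z := MulAction.toPermHom G Z
  let R : Z → Y → Prop := fun z y => ∃ a b, z = (P a, P b) ∧ R0 a b y
  have hR0 : ∀ a b y, R (P a, P b) y ↔ R0 a b y := fun a b y =>
    ⟨fun ⟨a', b', e, h⟩ => by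
      rw [Prod.mk.injEq] at e
      rwa [hP e.1, hP e.2], fun h => ⟨a, b, rfl, h⟩⟩
  have hRsep : ∀ y y', (∀ z, R z y ↔ R z y') → y = y' := fun y y' h =>
    hsep y y' fun a b => by rw [← hR0, ← hR0, h]
  have hmove : ∀ (g : SpecialLinearGroup (Fin 2) (ZMod p)) (a a' : Fin (p + 1)),
      LineRel g.1 a a' → (QuotientGroup.mk g : G) • P a = P a' :=
    fun g a a' h => smul_projMk_eq g (hne a) (hne a') h
  obtain ⟨f, hf⟩ := exists_hom_of_compat_maps (H := H) ρ R hRsep (closure_pslTwo_prime p) (by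
    rintro s (rfl | rfl)
    · refine ⟨h01, fun z y hz => ?_⟩
      obtain ⟨a, b, rfl, h⟩ := hz
      obtain ⟨a', b', ha, hb, h'⟩ := hh01 a b y h
      exact ⟨a', b', Prod.ext (hmove _ _ _ ha) (hmove _ _ _ hb), h'⟩
    · refine ⟨h10, fun z y hz => ?_⟩
      obtain ⟨a, b, rfl, h⟩ := hz
      obtain ⟨a', b', ha, hb, h'⟩ := hh10 a b y h
      exact ⟨a', b', Prod.ext (hmove _ _ _ ha) (hmove _ _ _ hb), h'⟩)
  have hsimple : IsSimpleGroup G :=
    ProjectiveSpecialLinearGroup.rank_two_simple (by rwa [Nat.card_zmod])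
  have hf1 : f.ker ≠ ⊤ := by
    intro htop
    obtain ⟨a, b, y, h, hno⟩ := hnt
    set t : SpecialLinearGroup (Fin 2) (ZMod p) :=
      SpecialLinearGroup.transvection (zero_ne_one' (Fin 2)) 1 with ht
    have h1 : f (QuotientGroup.mk t : G) = 1 := MonoidHom.mem_ker.1 (htop ▸ Subgroup.mem_top _)
    have := (hf (QuotientGroup.mk t : G) (P a, P b) y).2 ((hR0 a b y).2 h)
    rw [h1, one_smul] at this
    obtain ⟨a', b', e, h'⟩ := this
    change ((QuotientGroup.mk t : G) • P a, (QuotientGroup.mk t : G) • P b) = _ at e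
    rw [Prod.mk.injEq] at e
    have back : ∀ c c', (QuotientGroup.mk t : G) • P c = P c' →
        LineRel (Matrix.transvection (0 : Fin 2) 1 (1 : ZMod p)) c c' := by
      intro c c' e
      obtain ⟨k, hk⟩ := (Projectivization.mk_eq_mk_iff' _ _ _ _ _).1 e
      change k • lineRep p c' = t.1 *ᵥ lineRep p c at hk
      unfold LineRel
      rw [show Matrix.transvection (0 : Fin 2) 1 (1 : ZMod p) = t.1 from rfl, ← hk]
      simp only [Pi.smul_apply, smul_eq_mul]
      ring
    exact hno a' b' (back _ _ e.1) (back _ _ e.2) h'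
  have hinjf : Function.Injective f :=
    (MonoidHom.ker_eq_bot_iff f).1 ((hsimple.eq_bot_or_eq_top_of_normal _ inferInstance).resolve_right hf1)
  exact ⟨MulEquiv.ofBijective f ((Nat.bijective_iff_injective_and_card f).2 ⟨hinjf, hcard⟩)⟩

theorem fact_prime_five : Fact (Nat.Prime 5) := ⟨by norm_num⟩

theorem fact_prime_seven : Fact (Nat.Prime 7) := ⟨by norm_num⟩

attribute [local instance] fact_prime_five fact_prime_seven

/-- The five synthemes preserved by `PSL_2(5)`, as pairs of partners. -/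
def fiveRel (a b : Fin 6) (y : Fin 5) : Prop :=
  (a.1, b.1) ∈ [[(0, 1), (2, 4), (3, 5)], [(0, 2), (1, 5), (3, 4)], [(0, 3), (1, 2), (4, 5)],
      [(0, 4), (1, 3), (2, 5)], [(0, 5), (1, 4), (2, 3)]].getD y.1 [] ∨
  (b.1, a.1) ∈ [[(0, 1), (2, 4), (3, 5)], [(0, 2), (1, 5), (3, 4)], [(0, 3), (1, 2), (4, 5)],
      [(0, 4), (1, 3), (2, 5)], [(0, 5), (1, 4), (2, 3)]].getD y.1 []

instance instDecidableFiveRel (a b : Fin 6) (y : Fin 5) : Decidable (fiveRel a b y) :=
  inferInstanceAs (Decidable (_ ∨ _))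

theorem nonempty_pslTwo_five {F : Type*} [Field F] [Fintype F] (hF : Fintype.card F = 5) :
    Nonempty (ProjectiveSpecialLinearGroup (Fin 2) F ≃* alternatingGroup (Fin 5)) := by
  have h5 : Nat.Prime 5 := by norm_num
  obtain ⟨e⟩ := exists_hom_pslTwo_prime 5 (by norm_num) (H := alternatingGroup (Fin 5)) (Y := Fin 5)
    fiveRel (by decide) (by unfold LineRel; decide) (by decide)
    ⟨Equiv.swap 0 2 * Equiv.swap 2 4 * Equiv.swap 4 1 * Equiv.swap 1 3,
      Equiv.Perm.mem_alternatingGroup.2 (by decide)⟩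
    ⟨Equiv.swap 0 2 * Equiv.swap 2 1 * Equiv.swap 1 3 * Equiv.swap 3 4,
      Equiv.Perm.mem_alternatingGroup.2 (by decide)⟩
    (by unfold LineCompat; decide) (by unfold LineCompat; decide) (by decide)
    (by
      rw [nat_card_alternatingGroup, Nat.card_fin, Cfsg.Agent.GLOrder.card_PSL_two, Nat.card_zmod]
      decide)
  exact ⟨(pslMapEquiv (ZMod.ringEquivOfPrime F h5 hF).symm).trans e⟩

/-- The seven bisections of the eight points preserved by `PSL_2(7)`. -/
def sevenRel (a b : Fin 8) (y : Fin 3 → ZMod 2) : Prop :=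
  y ≠ 0 ∧
    ([0, 23, 57, 209, 75, 163, 141, 101].getD ((y 0).val + 2 * (y 1).val + 4 * (y 2).val) 0).testBit a.1 =
    ([0, 23, 57, 209, 75, 163, 141, 101].getD ((y 0).val + 2 * (y 1).val + 4 * (y 2).val) 0).testBit b.1

instance instDecidableSevenRel (a b : Fin 8) (y : Fin 3 → ZMod 2) : Decidable (sevenRel a b y) :=
  inferInstanceAs (Decidable (_ ∧ _))

theorem nonempty_pslTwo_seven {F K : Type*} [Field F] [Fintype F] [Field K] [Fintype K]
    (hF : Fintype.card F = 7) (hK : Fintype.card K = 2) :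
    Nonempty (ProjectiveSpecialLinearGroup (Fin 2) F ≃*
      ProjectiveSpecialLinearGroup (Fin 3) K) := by
  have h7 : Nat.Prime 7 := by norm_num
  have : FaithfulSMul (SpecialLinearGroup (Fin 3) (ZMod 2)) (Fin 3 → ZMod 2) :=
    ⟨fun h => sl_ext_smul h⟩
  have hS : Nat.card (SpecialLinearGroup (Fin 3) (ZMod 2)) = 168 := by
    rw [Cfsg.Agent.GLOrder.card_SL, Nat.card_zmod]; decide
  have hP : Nat.card (ProjectiveSpecialLinearGroup (Fin 3) (ZMod 2)) = 168 := by
    rw [Cfsg.Agent.GLOrder.card_PSL, hS, Nat.card_zmod, Fintype.card_fin]; decide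
  obtain ⟨e⟩ := exists_hom_pslTwo_prime 7 (by norm_num)
    (H := SpecialLinearGroup (Fin 3) (ZMod 2)) (Y := Fin 3 → ZMod 2)
    sevenRel (by decide) (by unfold LineRel; decide) (by decide)
    ⟨!![1, 0, 1; 1, 1, 0; 0, 1, 0], by decide⟩ ⟨!![0, 1, 1; 1, 1, 1; 0, 1, 0], by decide⟩
    (by unfold LineCompat; decide) (by unfold LineCompat; decide) (by decide)
    (by rw [hS, Cfsg.Agent.GLOrder.card_PSL_two, Nat.card_zmod]; decide)
  have e₂ : SpecialLinearGroup (Fin 3) (ZMod 2) ≃* ProjectiveSpecialLinearGroup (Fin 3) (ZMod 2) :=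
    MulEquiv.ofBijective (QuotientGroup.mk' _) ((Nat.bijective_iff_surjective_and_card _).2
      ⟨QuotientGroup.mk'_surjective _, by rw [hS]; exact hP.symm⟩)
  exact ⟨((pslMapEquiv (ZMod.ringEquivOfPrime F h7 hF).symm).trans e).trans
    (e₂.trans (pslMapEquiv (ZMod.ringEquivOfPrime K Nat.prime_two hK)))⟩

end Cfsg.Agent.Linear
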