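import Cfsg.Agent.EqLemmas

/-!
# A computable field with nine elements
* `FNine` : pairs over `ZMod 3` with `i² = -1`, with its `Field` and `Fintype` instances,
  `card_FNine`
-/

set_option autoImplicit false

namespace Cfsg.Agent.Linear

/-- `re + im * i` with `i² = -1`, over `ZMod 3`. -/
@[ext]
structure FNine : Type where
  /-- The real part. -/
  re : ZMod 3
  /-- The imaginary part. -/
  im : ZMod 3
deriving DecidableEq

namespace FNine

/-- `FNine` as pairs. -/
def equivProd : FNine ≃ ZMod 3 × ZMod 3 where
  toFun x := (x.re, x.im)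
  invFun p := ⟨p.1, p.2⟩
  left_inv _ := rfl
  right_inv _ := rfl

instance instFintypeFNine : Fintype FNine := Fintype.ofEquiv _ equivProd.symm

instance instAddFNine : Add FNine := ⟨fun x y => ⟨x.re + y.re, x.im + y.im⟩⟩
instance instMulFNine : Mul FNine :=
  ⟨fun x y => ⟨x.re * y.re - x.im * y.im, x.re * y.im + x.im * y.re⟩⟩
instance instNegFNine : Neg FNine := ⟨fun x => ⟨-x.re, -x.im⟩⟩
instance instZeroFNine : Zero FNine := ⟨⟨0, 0⟩⟩
instance instOneFNine : One FNine := ⟨⟨1, 0⟩⟩
instance instInvFNine : Inv FNine :=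
  ⟨fun x => ⟨x.re * (x.re * x.re + x.im * x.im), -x.im * (x.re * x.re + x.im * x.im)⟩⟩

theorem add_assoc' : ∀ a b c : FNine, a + b + c = a + (b + c) := by decide +kernel
theorem zero_add' : ∀ a : FNine, 0 + a = a := by decide +kernel
theorem neg_add_cancel' : ∀ a : FNine, -a + a = 0 := by decide +kernel
theorem mul_assoc' : ∀ a b c : FNine, a * b * c = a * (b * c) := by decide +kernel
theorem mul_comm' : ∀ a b : FNine, a * b = b * a := by decide +kernel
theorem one_mul' : ∀ a : FNine, 1 * a = a := by decide +kernel
theorem left_distrib' : ∀ a b c : FNine, a * (b + c) = a * b + a * c := by decide +kernel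
theorem mul_inv' : ∀ a : FNine, a ≠ 0 → a * a⁻¹ = 1 := by decide +kernel
theorem inv_zero' : (0 : FNine)⁻¹ = 0 := by decide +kernel

instance instCommRingFNine : CommRing FNine :=
  CommRing.ofMinimalAxioms add_assoc' zero_add' neg_add_cancel' mul_assoc' mul_comm' one_mul'
    left_distrib'

instance instFieldFNine : Field FNine where
  inv := Inv.inv
  exists_pair_ne := ⟨0, 1, by decide +kernel⟩
  mul_inv_cancel := mul_inv'
  inv_zero := inv_zero'
  nnqsmul := _
  qsmul := _

theorem card_FNine : Fintype.card FNine = 9 := by decide +kernel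

end FNine

end Cfsg.Agent.Linear
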