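import Cfsg.Agent.Lib.Linear.GenTools
import Cfsg.Agent.Lib.Linear.FieldNine
import Cfsg.Agent.Lib.GLOrder.Basic

/-!
# `PSL_2(9) ≅ A_6`
* `nonempty_pslTwo_nine`
-/

set_option autoImplicit false

open Matrix
open scoped LinearAlgebra.Projectivization

namespace Cfsg.Agent.Linear

/-- The element of `FNine` with a given code. -/
def nineOfCode (c : ℕ) : FNine := ⟨(c % 3 : ℕ), (c / 3 : ℕ)⟩

/-- Representatives of the ten points. -/
def nineRep (a : Fin 10) : Fin 2 → FNine :=
  if a.1 < 9 then ![nineOfCode a.1, 1] else ![1, 0]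

/-- The bisection of six letters attached to a point. -/
def sixPart (a : Fin 10) : ℕ := [25, 37, 7, 13, 49, 19, 21, 41, 11, 35].getD a.1 0

/-- Proportionality of a moved representative and another one. -/
def NineRel (M : Matrix (Fin 2) (Fin 2) FNine) (a a' : Fin 10) : Prop :=
  (M *ᵥ nineRep a) 0 * nineRep a' 1 = (M *ᵥ nineRep a) 1 * nineRep a' 0

instance instDecidableNineRel (M : Matrix (Fin 2) (Fin 2) FNine) (a a' : Fin 10) :
    Decidable (NineRel M a a') :=
  inferInstanceAs (Decidable (_ = _))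

/-- A three-subset lies in the bisection attached to a point. -/
def SixRel (s : Fin 6 → Bool) (a : Fin 10) : Prop :=
  s = maskPred 6 (sixPart a) ∨ s = maskPred 6 (63 - sixPart a)

instance instDecidableSixPartRel (s : Fin 6 → Bool) (a : Fin 10) : Decidable (SixRel s a) :=
  inferInstanceAs (Decidable (_ ∨ _))

/-- Images in `SL_2(9)` of the three-cycles `(0 1 k)`. -/
def nineWitness (k : Fin 6) : Matrix (Fin 2) (Fin 2) FNine :=
  [1, 1,
    !![nineOfCode 0, nineOfCode 1; nineOfCode 2, nineOfCode 1],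
    !![nineOfCode 3, nineOfCode 6; nineOfCode 2, nineOfCode 7],
    !![nineOfCode 3, nineOfCode 6; nineOfCode 1, nineOfCode 8],
    !![nineOfCode 1, nineOfCode 1; nineOfCode 0, nineOfCode 1]].getD k.1 1

theorem nineWitness_det : ∀ k : Fin 6, (nineWitness k).det = 1 := by decide +kernel

theorem nineRep_ne_zero : ∀ a, nineRep a ≠ 0 := by decide +kernel

theorem nineRel_one_inj : ∀ a b, NineRel 1 a b → a = b := by decide +kernel

theorem sixRel_move : ∀ k : Fin 6, 2 ≤ k.1 → ∀ a : Fin 10, ∃ a' : Fin 10,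
    NineRel (nineWitness k) a a' ∧
      SixRel (predHom 6 (altTriple k) (maskPred 6 (sixPart a))) a' ∧
      SixRel (predHom 6 (altTriple k) (maskPred 6 (63 - sixPart a))) a' := by
  decide +kernel

theorem sixRel_inj : ∀ a b : Fin 10, SixRel (maskPred 6 (sixPart a)) b → a = b := by
  decide +kernel

theorem sixRel_moved : ∃ a : Fin 10,
    ¬ SixRel (predHom 6 (altTriple (2 : Fin 6)) (maskPred 6 (sixPart a))) a := by
  decide +kernel

theorem nonempty_pslTwo_nine {F : Type*} [Field F] [Fintype F] (hF : Fintype.card F = 9) :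
    Nonempty (ProjectiveSpecialLinearGroup (Fin 2) F ≃* alternatingGroup (Fin 6)) := by
  let P : Fin 10 → ℙ FNine (Fin 2 → FNine) :=
    fun a => Projectivization.mk _ (nineRep a) (nineRep_ne_zero a)
  have hP : Function.Injective P := fun a b h => nineRel_one_inj a b (by
    obtain ⟨c, hc⟩ := (Projectivization.mk_eq_mk_iff' _ _ _ _ _).1 h
    rw [NineRel, Matrix.one_mulVec, ← hc]
    simp only [Pi.smul_apply, smul_eq_mul]
    ring)
  have hPs : Function.Surjective P :=
    ((Nat.bijective_iff_injective_and_card P).2 ⟨hP, by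
      rw [Projectivization.card_of_finrank_two FNine (Fin 2 → FNine) (Module.finrank_fin_fun _),
        Nat.card_fin, Nat.card_eq_fintype_card, FNine.card_FNine]⟩).2
  let R : (Fin 6 → Bool) → ℙ FNine (Fin 2 → FNine) → Prop :=
    fun s p => ∃ a, p = P a ∧ SixRel s a
  have hR0 : ∀ s a, R s (P a) ↔ SixRel s a := fun s a =>
    ⟨fun ⟨a', e, h⟩ => by rwa [hP e], fun h => ⟨a, rfl, h⟩⟩
  have hsep : ∀ p q, (∀ s, R s p ↔ R s q) → p = q := by
    intro p q h
    obtain ⟨a, rfl⟩ := hPs p
    obtain ⟨b, rfl⟩ := hPs q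
    rw [sixRel_inj a b ((hR0 _ _).1 ((h _).1 ((hR0 _ _).2 (.inl rfl))))]
  obtain ⟨f, hf⟩ := exists_hom_of_compat_maps
    (H := ProjectiveSpecialLinearGroup (Fin 2) FNine)
    ((predHom 6).comp (alternatingGroup (Fin 6)).subtype) R hsep (closure_altTriple (n := 4)) (by
      rintro g ⟨k, hk, hg⟩
      let M : SpecialLinearGroup (Fin 2) FNine := ⟨nineWitness k, nineWitness_det k⟩
      refine ⟨QuotientGroup.mk M, fun z p hz => ?_⟩
      change R (predHom 6 g.1 z) _
      rw [hg]
      obtain ⟨a, rfl, h⟩ := hz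
      obtain ⟨a', hM, h1, h2⟩ := sixRel_move k hk a
      refine ⟨a', smul_projMk_eq M (nineRep_ne_zero a) (nineRep_ne_zero a') hM, ?_⟩
      rcases h with rfl | rfl
      · exact h1
      · exact h2)
  have : IsSimpleGroup (alternatingGroup (Fin 6)) := alternatingGroup.isSimpleGroup (by simp)
  have hne : f.ker ≠ ⊤ := by
    intro htop
    obtain ⟨a, hno⟩ := sixRel_moved
    let g : alternatingGroup (Fin 6) :=
      ⟨altTriple 2, Equiv.Perm.mem_alternatingGroup.2 (by decide)⟩
    have h1 : f g = 1 := MonoidHom.mem_ker.1 (htop ▸ Subgroup.mem_top g)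
    have := (hf g (maskPred 6 (sixPart a)) (P a)).2 ((hR0 _ _).2 (.inl rfl))
    rw [h1, one_smul] at this
    exact hno ((hR0 _ _).1 this)
  have hinj : Function.Injective f :=
    (MonoidHom.ker_eq_bot_iff f).1
      ((IsSimpleGroup.eq_bot_or_eq_top_of_normal _ inferInstance).resolve_right hne)
  have e : ProjectiveSpecialLinearGroup (Fin 2) FNine ≃* alternatingGroup (Fin 6) :=
    (MulEquiv.ofBijective f ((Nat.bijective_iff_injective_and_card f).2 ⟨hinj, by
      rw [nat_card_alternatingGroup, Nat.card_fin, Cfsg.Agent.GLOrder.card_PSL_two,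
        Nat.card_eq_fintype_card, FNine.card_FNine]
      decide⟩)).symm
  exact ⟨(pslMapEquiv
    (FiniteField.ringEquivOfCardEq (K := F) (K' := FNine) (by rw [hF, FNine.card_FNine]))).trans e⟩

end Cfsg.Agent.Linear
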