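import Cfsg.Agent.Lib.Linear.SpBlocks

/-!
# The Borel subgroup of `spGL m F`
* `spBorel m F`, `spDiag`, `spBorelU_conj`, `mem_spBorel_of_normalizes`
* `spBorelU_maximal_pGroup` : the unipotent subgroup is a Sylow `p`-subgroup
* `exists_eq_mul_spLevi_diag` : torus decomposition
* `eq_top_of_congr_closed` : a GL-congruence invariant group of symmetric matrices
* `eq_spBorelU_of_closed` : no proper nontrivial strongly closed subgroup
-/

set_option autoImplicit false

open Matrix

namespace Cfsg.Agent.Linear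

variable {m : ℕ} {F : Type*} [Field F] [Finite F]

/-- The stabiliser of the standard flag. -/
def spBorel (m : ℕ) (F : Type*) [Field F] [Finite F] : Subgroup (Cfsg.spGL m F) :=
  subgroupOfSubmonoidFinite
    { carrier := {g | blkC g = 0 ∧ ∀ i j, j < i → blkA g i j = 0}
      one_mem' := ⟨blk_one.2.2.1, fun i j h => by rw [blk_one.1]; exact Matrix.one_apply_ne h.ne'⟩
      mul_mem' := fun {g h} hg hh => by
        obtain ⟨ea, eb, ec, ed⟩ := blk_mul g h
        refine ⟨?_, fun i j hij => ?_⟩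
        · rw [ec, hg.1, hh.1]; simp
        · rw [ea, hh.1, Matrix.mul_zero, add_zero, Matrix.mul_apply]
          refine Finset.sum_eq_zero fun k _ => ?_
          rcases lt_or_ge k i with hk | hk
          · rw [hg.2 i k hk, zero_mul]
          · rw [hh.2 k j (hij.trans_le hk), mul_zero] }

theorem mem_spBorel {g : Cfsg.spGL m F} :
    g ∈ spBorel m F ↔ blkC g = 0 ∧ ∀ i j, j < i → blkA g i j = 0 := Iff.rfl

/-- The diagonal of the upper left block, multiplicative on the Borel subgroup. -/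
def spDiag : spBorel m F →* (Fin m → F) where
  toFun g i := blkA g.1 i i
  map_one' := by funext i; simp [blk_one.1]
  map_mul' g h := by
    funext i
    rw [Subgroup.coe_mul, (blk_mul g.1 h.1).1, h.2.1, Matrix.mul_zero, add_zero, Matrix.mul_apply,
      Finset.sum_eq_single i]
    · rfl
    · intro k _ hk
      rcases lt_or_gt_of_ne hk with h' | h'
      · rw [g.2.2 i k h', zero_mul]
      · rw [h.2.2 k i h', mul_zero]
    · simp

theorem spBorelU_le_spBorel : spBorelU m F ≤ spBorel m F :=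
  fun g hg => ⟨hg.1, fun i j h => by rw [hg.2 i j h.le, if_neg h.ne']⟩

theorem mem_spBorelU_iff_diag {g : Cfsg.spGL m F} (hg : g ∈ spBorel m F) :
    g ∈ spBorelU m F ↔ spDiag ⟨g, hg⟩ = 1 := by
  constructor
  · intro h; funext i; exact (h.2 i i le_rfl).trans (if_pos rfl)
  · intro h
    refine ⟨hg.1, fun i j hij => ?_⟩
    rcases lt_or_eq_of_le hij with h' | h'
    · rw [hg.2 i j h', if_neg h'.ne']
    · subst h'; rw [if_pos rfl]; exact congrFun h j

theorem spBorelU_conj {g u : Cfsg.spGL m F} (hg : g ∈ spBorel m F) (hu : u ∈ spBorelU m F) :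
    g * u * g⁻¹ ∈ spBorelU m F := by
  have hu' := spBorelU_le_spBorel hu
  have hc := mul_mem (mul_mem hg hu') (inv_mem hg)
  rw [mem_spBorelU_iff_diag hc]
  have : (⟨g * u * g⁻¹, hc⟩ : spBorel m F) = ⟨g, hg⟩ * ⟨u, hu'⟩ * ⟨g, hg⟩⁻¹ := rfl
  rw [this, map_mul, map_mul, (mem_spBorelU_iff_diag hu').1 hu, mul_one, ← map_mul, mul_inv_cancel,
    map_one]

theorem spLevi_mem_spBorel {A : GL (Fin m) F} (hA : ∀ i j, j < i → A.1 i j = 0) :
    spLevi A ∈ spBorel m F := ⟨blkC_spLevi A, by rw [blkA_spLevi]; exact hA⟩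

theorem spSiegel_mulVec (B : Matrix (Fin m) (Fin m) F) (hB : B.IsSymm)
    (v : Fin m ⊕ Fin m → F) :
    spSiegel B hB • v =
      Sum.elim (v ∘ Sum.inl + B *ᵥ (v ∘ Sum.inr)) (v ∘ Sum.inr) := by
  rw [spGL_smul_eq, spGL_blocks, blkA_spSiegel, blkB_spSiegel, blkC_spSiegel, blkD_spSiegel,
    Matrix.fromBlocks_mulVec]
  simp

theorem spLevi_mulVec (A : GL (Fin m) F) (v : Fin m ⊕ Fin m → F) :
    spLevi A • v = Sum.elim (A.1 *ᵥ (v ∘ Sum.inl)) (((A⁻¹).1)ᵀ *ᵥ (v ∘ Sum.inr)) := by
  rw [spGL_smul_eq, spGL_blocks, blkA_spLevi, blkB_spLevi, blkC_spLevi, blkD_spLevi,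
    Matrix.fromBlocks_mulVec]
  simp

theorem mem_spBorel_of_normalizes {g : Cfsg.spGL m F}
    (hg : ∀ u ∈ spBorelU m F, g⁻¹ * u * g ∈ spBorelU m F) : g ∈ spBorel m F := by
  classical
  -- `Wle j v`: `v` lies in the span of `eL i` for `i < j`
  let Wle : ℕ → Submodule F (Fin m ⊕ Fin m → F) := fun j =>
    { carrier := {v | ∀ i, v (.inr i) = 0 ∧ (j ≤ i.1 → v (.inl i) = 0)}
      add_mem' := fun {a b} ha hb i =>
        ⟨by simp [(ha i).1, (hb i).1], fun h => by simp [(ha i).2 h, (hb i).2 h]⟩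
      zero_mem' := fun i => by simp
      smul_mem' := fun c a ha i => ⟨by simp [(ha i).1], fun h => by simp [(ha i).2 h]⟩ }
  have key : ∀ (j : Fin m) (v : Fin m ⊕ Fin m → F),
      (∀ u ∈ spBorelU m F, u • v - v ∈ Wle j) → v ∈ Wle (j + 1) := by
    intro j v h i
    refine ⟨?_, fun hi => ?_⟩
    · by_cases hij : i = j
      · subst hij
        have hs : (Matrix.single i i (1 : F)).IsSymm := Matrix.transpose_single ..
        have := (h _ (spSiegel_mem_spBorelU hs) i).2 le_rfl
        rw [Pi.sub_apply, spSiegel_mulVec] at this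
        simpa [Matrix.single_mulVec] using this
      · have hs : (Matrix.single i j (1 : F) + Matrix.single j i 1).IsSymm := by
          simp [Matrix.IsSymm, Matrix.transpose_single, add_comm]
        have := (h _ (spSiegel_mem_spBorelU hs) j).2 le_rfl
        rw [Pi.sub_apply, spSiegel_mulVec] at this
        simpa [Matrix.add_mulVec, Matrix.single_mulVec, Ne.symm hij] using this
    · have hji : j < i := by rw [Fin.lt_def]; omega
      have hv : (Pi.single j (1 : F) : Fin m → F) i = 0 := by simp [hji.ne']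
      have hu := spLevi_mem_spBorelU (isUpperUni_colElt i _ hv fun k hk => by
        simp [(hji.trans_le hk).ne'])
      have := (h _ hu j).2 le_rfl
      rw [Pi.sub_apply, spLevi_mulVec] at this
      simpa [colElt, Matrix.add_mulVec, Matrix.vecMulVec_mulVec] using this
  have main : ∀ (n : ℕ) (hn : n ≤ m) (j : Fin m), j.1 < n →
      g • (Pi.single (.inl j) 1 : Fin m ⊕ Fin m → F) ∈ Wle (j + 1) := by
    intro n
    induction n with
    | zero => intro _ j hj; omega
    | succ n ih =>
      intro hn j hj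
      by_cases hjn : j.1 < n
      · exact ih (by omega) j hjn
      refine key j _ fun u hu => ?_
      have hu' := hg u hu
      obtain ⟨hC, hA⟩ := hu'
      have hu2 : u • g • (Pi.single (.inl j) 1 : Fin m ⊕ Fin m → F) =
          g • ((g⁻¹ * u * g) • (Pi.single (.inl j) 1 : Fin m ⊕ Fin m → F)) := by
        simp [mul_smul]
      rw [hu2, ← smul_sub, spGL_mulVec_inl, hC]
      set d := Sum.elim (fun i => blkA (g⁻¹ * u * g) i j)
        (fun i => (0 : Matrix (Fin m) (Fin m) F) i j) - Pi.single (.inl j) 1 with hd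
      have hd' : d = ∑ i, d (.inl i) • (Pi.single (.inl i) 1 : Fin m ⊕ Fin m → F) := by
        funext x
        simp only [Finset.sum_apply, Pi.smul_apply, Pi.single_apply, smul_eq_mul]
        rcases x with x | x
        · simp
        · simp [hd]
      rw [hd', Finset.smul_sum]
      refine Submodule.sum_mem _ fun i _ => ?_
      rw [smul_comm]
      by_cases hij : i < j
      · refine Submodule.smul_mem _ _ fun k => ?_
        have h' := ih (by omega) i (by rw [Fin.lt_def] at hij; omega) k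
        refine ⟨h'.1, fun hk => h'.2 ?_⟩
        rw [Fin.lt_def] at hij; omega
      · have : d (.inl i) = 0 := by
          rw [hd, Pi.sub_apply, Sum.elim_inl, hA i j (not_lt.1 hij), Pi.single_apply]
          simp
        rw [this, zero_smul]
        exact Submodule.zero_mem _
  refine ⟨?_, fun i j hij => ?_⟩
  · ext i j
    have := (main m le_rfl j j.2 i).1
    rwa [spGL_mulVec_inl] at this
  · have := (main m le_rfl j j.2 i).2 (by rw [Fin.lt_def] at hij; omega)
    rwa [spGL_mulVec_inl] at this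

theorem mem_spBorelU_of_pow (p : ℕ) [Fact p.Prime] [CharP F p] {g : Cfsg.spGL m F}
    (hg : g ∈ spBorel m F) {k : ℕ} (hk : g ^ p ^ k = 1) : g ∈ spBorelU m F := by
  rw [mem_spBorelU_iff_diag hg]
  funext i
  have h1 : (spDiag ⟨g, hg⟩ i) ^ p ^ k = 1 := by
    rw [← Pi.pow_apply, ← map_pow, show (⟨g, hg⟩ : spBorel m F) ^ p ^ k = 1 from Subtype.ext hk,
      map_one, Pi.one_apply]
  exact iterateFrobenius_inj F p k (by simpa [iterateFrobenius_def] using h1)

theorem spBorelU_maximal_pGroup (p : ℕ) [Fact p.Prime] [CharP F p] {P : Subgroup (Cfsg.spGL m F)}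
    (hP : IsPGroup p P) (hle : spBorelU m F ≤ P) : P = spBorelU m F := by
  by_contra hne
  have hlt : (spBorelU m F).subgroupOf P < ⊤ :=
    lt_top_iff_ne_top.2 fun h => hne (le_antisymm (Subgroup.subgroupOf_eq_top.1 h) hle)
  have hn := Group.normalizerCondition_of_isNilpotent (G := P) (h := hP.isNilpotent) _ hlt
  obtain ⟨g, hgN, hgU⟩ := SetLike.exists_of_lt hn
  refine hgU (Subgroup.mem_subgroupOf.2 ?_)
  obtain ⟨k, hk⟩ := hP g
  refine mem_spBorelU_of_pow p (mem_spBorel_of_normalizes fun u hu => ?_)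
    (k := k) (congrArg Subtype.val hk)
  have hu' : (⟨u, hle hu⟩ : P) ∈ (spBorelU m F).subgroupOf P := Subgroup.mem_subgroupOf.2 hu
  exact Subgroup.mem_subgroupOf.1 ((Subgroup.mem_normalizer_iff''.1 hgN _).1 hu')

/-- The standard Sylow `p`-subgroup of `spGL`. -/
noncomputable def spSylow (m : ℕ) (F : Type*) [Field F] [Finite F] (p : ℕ) [Fact p.Prime]
    [CharP F p] : Sylow p (Cfsg.spGL m F) where
  toSubgroup := spBorelU m F
  isPGroup' := isPGroup_spBorelU p
  is_maximal' hP hle := spBorelU_maximal_pGroup p hP hle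

/-! ## The torus -/

/-- Diagonal matrices as elements of `GL`. -/
def glDiag : (Fin m → Fˣ) →* GL (Fin m) F where
  toFun d := ⟨Matrix.diagonal fun i => (d i : F), Matrix.diagonal fun i => ((d i)⁻¹ : Fˣ),
    by simp, by simp⟩
  map_one' := Units.ext (by simp)
  map_mul' a b := Units.ext (by simp)

omit [Finite F] in
theorem glDiag_val (d : Fin m → Fˣ) :
    (glDiag d).1 = Matrix.diagonal fun i => (d i : F) := rfl

theorem exists_eq_mul_spLevi_diag {g : Cfsg.spGL m F} (hg : g ∈ spBorel m F) :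
    ∃ u ∈ spBorelU m F, ∃ d : Fin m → Fˣ, g = u * spLevi (glDiag d) := by
  have hne : ∀ i, spDiag ⟨g, hg⟩ i ≠ 0 := fun i h => by
    have h' := congrFun (map_mul spDiag (⟨g, hg⟩ : spBorel m F) ⟨g, hg⟩⁻¹) i
    rw [mul_inv_cancel, map_one, Pi.mul_apply, h, zero_mul, Pi.one_apply] at h'
    exact one_ne_zero h'
  let d : Fin m → Fˣ := fun i => Units.mk0 _ (hne i)
  have hd : spLevi (glDiag d) ∈ spBorel m F :=
    spLevi_mem_spBorel fun i j h => by simp [glDiag_val, h.ne']
  refine ⟨g * (spLevi (glDiag d))⁻¹, ?_, d, by group⟩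
  have hm := mul_mem hg (inv_mem hd)
  rw [mem_spBorelU_iff_diag hm]
  have : (⟨g * (spLevi (glDiag d))⁻¹, hm⟩ : spBorel m F) = ⟨g, hg⟩ * ⟨_, hd⟩⁻¹ := rfl
  rw [this, map_mul]
  have h0 : spDiag ⟨spLevi (glDiag d), hd⟩ = spDiag ⟨g, hg⟩ := by
    funext i
    change blkA (spLevi (glDiag d)) i i = _
    simp [glDiag_val, d]
  rw [← h0, ← map_mul, mul_inv_cancel, map_one]

/-! ## Congruence invariant groups of symmetric matrices -/

/-- The elementary congruence `1 + t E_ij`. -/
def glElem {i j : Fin m} (h : i ≠ j) (t : F) : GL (Fin m) F :=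
  Matrix.SpecialLinearGroup.toGL (Matrix.SpecialLinearGroup.transvection h t)

omit [Finite F] in
theorem glElem_congr_apply {i j : Fin m} (h : i ≠ j) (t : F) {B : Matrix (Fin m) (Fin m) F}
    (hB : B.IsSymm) (a b : Fin m) :
    ((glElem h t).1 * B * (glElem h t).1ᵀ) a b = B a b + (if a = i then t * B j b else 0) +
      (if b = i then t * B a j else 0) + (if a = i ∧ b = i then t * t * B j j else 0) := by
  change (Matrix.transvection i j t * B * (Matrix.transvection i j t)ᵀ) a b = _
  rw [show (Matrix.transvection i j t)ᵀ = Matrix.transvection j i t by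
    simp [Matrix.transvection, Matrix.transpose_single]]
  by_cases ha : a = i <;> by_cases hb : b = i
  · subst ha hb
    rw [Matrix.mul_transvection_apply_same, Matrix.transvection_mul_apply_same,
      Matrix.transvection_mul_apply_same]
    simp
    ring
  · subst ha
    rw [Matrix.mul_transvection_apply_of_ne _ _ _ _ hb, Matrix.transvection_mul_apply_same]
    simp [hb]
  · subst hb
    rw [Matrix.mul_transvection_apply_same, Matrix.transvection_mul_apply_of_ne _ _ _ _ ha,
      Matrix.transvection_mul_apply_of_ne _ _ _ _ ha]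
    simp [ha, mul_comm]
  · rw [Matrix.mul_transvection_apply_of_ne _ _ _ _ hb,
      Matrix.transvection_mul_apply_of_ne _ _ _ _ ha]
    simp [ha, hb]

omit [Finite F] in
theorem glDiag_congr_apply (d : Fin m → Fˣ) (B : Matrix (Fin m) (Fin m) F) (a b : Fin m) :
    ((glDiag d).1 * B * (glDiag d).1ᵀ) a b = d a * B a b * d b := by
  simp [glDiag_val, Matrix.diagonal_mul, Matrix.mul_diagonal]

/-- The symmetric matrix `c (E_ij + E_ji)`. -/
def symPair (i j : Fin m) (c : F) : Matrix (Fin m) (Fin m) F :=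
  Matrix.single i j c + Matrix.single j i c

omit [Finite F] in
theorem isSymm_symPair (i j : Fin m) (c : F) : (symPair i j c).IsSymm := by
  simp [symPair, Matrix.IsSymm, Matrix.transpose_single, add_comm]

omit [Finite F] in
theorem exists_symPair_mem (M : AddSubgroup (Matrix (Fin m) (Fin m) F))
    (hsymm : ∀ B ∈ M, B.IsSymm) (hinv : ∀ B ∈ M, ∀ A : GL (Fin m) F, A.1 * B * A.1ᵀ ∈ M)
    {B : Matrix (Fin m) (Fin m) F} (hB : B ∈ M) (hB0 : B ≠ 0) (hm : 2 ≤ m)
    (hq : 3 ≤ m ∨ ∃ a : F, a ≠ 0 ∧ a ≠ 1) :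
    ∃ (i j : Fin m) (c : F), i ≠ j ∧ c ≠ 0 ∧ symPair i j c ∈ M := by
  obtain ⟨B, hB, k, l, hkl, hbkl⟩ : ∃ B ∈ M, ∃ k l : Fin m, k ≠ l ∧ B k l ≠ 0 := by
    by_cases h : ∃ k l : Fin m, k ≠ l ∧ B k l ≠ 0
    · exact ⟨B, hB, h⟩
    push Not at h
    obtain ⟨j, hj⟩ : ∃ j, B j j ≠ 0 := by
      by_contra! hd
      refine hB0 (Matrix.ext fun a b => ?_)
      by_cases hab : a = b
      · subst hab; exact hd a
      · exact h a b hab
    haveI : Nontrivial (Fin m) := Fin.nontrivial_iff_two_le.2 hm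
    obtain ⟨i, hij⟩ := exists_ne j
    refine ⟨_, hinv B hB (glElem hij 1), i, j, hij, ?_⟩
    rw [glElem_congr_apply hij 1 (hsymm B hB), h i j hij]
    simp [hij.symm, hj]
  have hsw : ∀ a b, B a b = B b a := fun a b => ((hsymm B hB).apply a b).symm
  rcases hq with hm3 | ⟨a, ha0, ha1⟩
  · obtain ⟨i, hik, hil⟩ : ∃ i : Fin m, i ≠ k ∧ i ≠ l := by
      obtain ⟨i, h1, h2⟩ := exists_third (ι := Fin m) (by simpa using hm3) k l
      exact ⟨i, h1.symm, h2⟩
    set B1 := (glElem hik 1).1 * B * (glElem hik 1).1ᵀ - B with hB1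
    have hB1m : B1 ∈ M := M.sub_mem (hinv B hB _) hB
    have hB1v : ∀ a b, B1 a b = (if a = i then B k b else 0) + (if b = i then B a k else 0) +
        (if a = i ∧ b = i then B k k else 0) := by
      intro a b
      rw [hB1, Matrix.sub_apply, glElem_congr_apply hik 1 (hsymm B hB)]
      simp only [one_mul]
      ring
    have hkl' : k ≠ l := hkl
    refine ⟨i, k, B k l, hik, hbkl, ?_⟩
    convert M.sub_mem (hinv B1 hB1m (glElem hkl' 1)) hB1m using 1
    ext a b
    rw [Matrix.sub_apply, glElem_congr_apply hkl' 1 (hsymm B1 hB1m)]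
    simp only [hB1v, symPair, Matrix.add_apply, Matrix.single_apply, one_mul]
    grind
  · let d : Fin m → Fin m → Fˣ := fun p q => if q = p then Units.mk0 a ha0 else 1
    set D1 := (glDiag (d k)).1 * B * (glDiag (d k)).1ᵀ - B with hD1
    have hD1m : D1 ∈ M := M.sub_mem (hinv B hB _) hB
    refine ⟨k, l, (a - 1) ^ 2 * B k l, hkl,
      mul_ne_zero (pow_ne_zero 2 (sub_ne_zero_of_ne ha1)) hbkl, ?_⟩
    convert M.sub_mem (hinv D1 hD1m (glDiag (d l))) hD1m using 1
    ext x y
    rw [Matrix.sub_apply, glDiag_congr_apply, hD1, Matrix.sub_apply, glDiag_congr_apply]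
    simp only [symPair, Matrix.add_apply, Matrix.single_apply, d]
    have hswap := hsw k l
    grind [Units.val_mk0, Units.val_one]

omit [Finite F] in
theorem symPair_mem_all (M : AddSubgroup (Matrix (Fin m) (Fin m) F))
    (hinv : ∀ B ∈ M, ∀ A : GL (Fin m) F, A.1 * B * A.1ᵀ ∈ M)
    {i j : Fin m} {c : F} (hij : i ≠ j) (hc : c ≠ 0) (h : symPair i j c ∈ M)
    {a b : Fin m} (hab : a ≠ b) (e : F) : symPair a b e ∈ M := by
  by_cases he : e = 0
  · subst he
    have h0 : symPair a b (0 : F) = 0 := by simp [symPair]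
    rw [h0]; exact M.zero_mem
  obtain ⟨σ, hσa, hσb⟩ : ∃ σ : Equiv.Perm (Fin m), σ a = i ∧ σ b = j := by
    refine ⟨Equiv.swap (Equiv.swap a i b) j * Equiv.swap a i, ?_, ?_⟩
    · rw [Equiv.Perm.mul_apply, Equiv.swap_apply_left, Equiv.swap_apply_of_ne_of_ne ?_ hij]
      intro h'
      exact hab ((Equiv.swap a i).injective (by rw [Equiv.swap_apply_left, ← h']))
    · rw [Equiv.Perm.mul_apply, Equiv.swap_apply_left]
  let P : GL (Fin m) F := ⟨σ.permMatrix F, (σ⁻¹).permMatrix F,
    by rw [← Matrix.permMatrix_mul]; simp, by rw [← Matrix.permMatrix_mul]; simp⟩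
  let d : Fin m → Fˣ := fun x => if x = a then Units.mk0 (e / c) (div_ne_zero he hc) else 1
  convert hinv _ (hinv _ h P) (glDiag d) using 1
  ext x y
  rw [glDiag_congr_apply]
  have hP : (P.1 * symPair i j c * P.1ᵀ) x y = symPair i j c (σ x) (σ y) := by
    change (σ.permMatrix F * symPair i j c * (σ.permMatrix F)ᵀ) x y = _
    rw [Matrix.transpose_permMatrix, Equiv.Perm.permMatrix, Equiv.Perm.permMatrix,
      PEquiv.toMatrix_toPEquiv_mul, PEquiv.mul_toMatrix_toPEquiv]
    simp [Equiv.Perm.inv_def]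
  rw [hP]
  simp only [symPair, Matrix.add_apply, Matrix.single_apply, ← hσa, ← hσb,
    σ.injective.eq_iff, d]
  grind [Units.val_mk0, Units.val_one]

theorem mem_of_sq_mem (N : AddSubgroup F) (hN : ∀ t : F, t * t ∈ N) (c : F) : c ∈ N := by
  haveI := Fintype.ofFinite F
  by_cases h2 : (2 : F) = 0
  · obtain ⟨t, rfl⟩ := FiniteField.isSquare_of_char_two
      (ringChar.eq_iff.2 (CharTwo.of_one_ne_zero_of_two_eq_zero one_ne_zero h2)) c
    exact hN t
  · have : c = ((c + 1) / 2) * ((c + 1) / 2) - ((c - 1) / 2) * ((c - 1) / 2) := by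
      field_simp
      ring
    rw [this]
    exact N.sub_mem (hN _) (hN _)

omit [Finite F] in
theorem eq_diag_add_pairs {B : Matrix (Fin m) (Fin m) F} (hB : B.IsSymm) :
    B = ∑ i, (Matrix.single i i (B i i) + ∑ j ∈ Finset.Ioi i, symPair i j (B i j)) := by
  ext a b
  simp only [Matrix.sum_apply, Matrix.add_apply, symPair, Matrix.single_apply,
    Finset.sum_add_distrib]
  have h1 : (∑ i, if i = a ∧ i = b then B i i else 0) = if a = b then B a b else 0 := by
    rw [Finset.sum_eq_single a (fun i _ hi => by simp [hi]) (by simp)]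
    by_cases h : a = b
    · subst h; simp
    · simp [h]
  have h2 : (∑ i, ∑ j ∈ Finset.Ioi i, if i = a ∧ j = b then B i j else 0) =
      if a < b then B a b else 0 := by
    rw [Finset.sum_eq_single a (fun i _ hi => by simp [hi]) (by simp)]
    simp [Finset.sum_ite_eq', Finset.mem_Ioi]
  have h3 : (∑ i, ∑ j ∈ Finset.Ioi i, if j = a ∧ i = b then B i j else 0) =
      if b < a then B a b else 0 := by
    rw [Finset.sum_eq_single b (fun i _ hi => by simp [hi]) (by simp)]
    simp [Finset.sum_ite_eq', Finset.mem_Ioi, hB.apply a b]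
  rw [h1, h2, h3]
  rcases lt_trichotomy a b with h | h | h
  · simp [h, h.ne, h.not_gt]
  · subst h; simp
  · simp [h, h.ne', h.not_gt]

/-! ## Strongly closed subgroups -/

/-- A nontrivial subgroup of the unipotent group closed under fusion is everything. -/
theorem eq_spBorelU_of_closed (hm : 2 ≤ m) (hq : 3 ≤ m ∨ ∃ a : F, a ≠ 0 ∧ a ≠ 1)
    {T : Subgroup (Cfsg.spGL m F)} (hT : T ≤ spBorelU m F) (hne : T ≠ ⊥)
    (hcl : ∀ x ∈ T, ∀ g : Cfsg.spGL m F, g * x * g⁻¹ ∈ spBorelU m F → g * x * g⁻¹ ∈ T) :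
    T = spBorelU m F := by
  have hnorm : ∀ x ∈ T, ∀ s ∈ spBorelU m F, s * x * s⁻¹ ∈ T := fun x hx s hs =>
    hcl x hx s (mul_mem (mul_mem hs (hT hx)) (inv_mem hs))
  have hcomm : ∀ x ∈ T, ∀ s ∈ spBorelU m F, x * (s * x⁻¹ * s⁻¹) ∈ T := fun x hx s hs =>
    mul_mem hx (hnorm _ (inv_mem hx) s hs)
  let M : AddSubgroup (Matrix (Fin m) (Fin m) F) :=
    { carrier := {B | ∃ hB : B.IsSymm, spSiegel B hB ∈ T}
      add_mem' := by
        rintro B B' ⟨h, hb⟩ ⟨h', hb'⟩
        exact ⟨h.add h', spSiegel_mul h h' ▸ mul_mem hb hb'⟩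
      zero_mem' := ⟨Matrix.isSymm_zero, by rw [spSiegel_zero]; exact one_mem T⟩
      neg_mem' := by
        rintro B ⟨h, hb⟩
        exact ⟨h.neg, spSiegel_inv h ▸ inv_mem hb⟩ }
  have hMs : ∀ B ∈ M, B.IsSymm := fun B ⟨h, _⟩ => h
  have hMi : ∀ B ∈ M, ∀ A : GL (Fin m) F, A.1 * B * A.1ᵀ ∈ M := by
    rintro B ⟨h, hb⟩ A
    exact ⟨isSymm_congr h A.1, spLevi_conj_spSiegel A h ▸ hcl _ hb (spLevi A)
      (spLevi_conj_spSiegel A h ▸ spSiegel_mem_spBorelU _)⟩
  -- a nontrivial Siegel element
  obtain ⟨B, hBM, hB0⟩ : ∃ B ∈ M, B ≠ 0 := by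
    obtain ⟨⟨x, hx⟩, hx'⟩ := Subgroup.ne_bot_iff_exists_ne_one.1 hne
    have hx1 : x ≠ 1 := fun e => hx' (Subtype.ext e)
    obtain ⟨A, B, hB, hA, rfl⟩ := exists_spLevi_mul_spSiegel x (hT hx).1
    by_cases hA1 : A = 1
    · subst hA1
      rw [map_one, one_mul] at hx hx1
      exact ⟨B, ⟨hB, hx⟩, fun e => hx1 (by subst e; exact spSiegel_zero)⟩
    · obtain ⟨S, hS, hne'⟩ : ∃ (S : Matrix (Fin m) (Fin m) F) (_ : S.IsSymm),
          A.1 * S * A.1ᵀ ≠ S := by
        by_contra! hfix
        refine hA1 (Units.ext ?_)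
        have hu : IsUpperUni A.1 := by rw [hA]; exact (hT hx).2
        ext i j
        rcases lt_or_ge i j with hij | hij
        · have h1 := congrFun (congrFun (hfix (Matrix.single j j 1) (Matrix.transpose_single ..)) i) j
          simp [Matrix.mul_apply, Matrix.single_apply, ite_and, hu j j le_rfl, hij.ne] at h1
          simpa [hij.ne, hij.ne'] using h1
        · rw [hu i j hij]
          exact Matrix.one_apply.symm
      have h1 := hcomm _ hx _ (spSiegel_mem_spBorelU hS)
      have he : spLevi A * spSiegel B hB *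
          (spSiegel S hS * (spLevi A * spSiegel B hB)⁻¹ * (spSiegel S hS)⁻¹) =
          (spLevi A * spSiegel S hS * (spLevi A)⁻¹) * (spSiegel S hS)⁻¹ := by
        have hc : spSiegel B hB * spSiegel S hS * (spSiegel B hB)⁻¹ = spSiegel S hS := by
          rw [mul_inv_eq_iff_eq_mul, spSiegel_mul, spSiegel_mul]
          congr 1
          abel
        calc _ = spLevi A * (spSiegel B hB * spSiegel S hS * (spSiegel B hB)⁻¹) * (spLevi A)⁻¹ *
              (spSiegel S hS)⁻¹ := by group
          _ = _ := by rw [hc]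
      rw [he, spLevi_conj_spSiegel, spSiegel_inv, spSiegel_mul] at h1
      exact ⟨_, ⟨_, h1⟩, fun e => hne' (by rwa [← sub_eq_add_neg, sub_eq_zero] at e)⟩
  obtain ⟨i, j, c, hij, hc, hpair⟩ := exists_symPair_mem M hMs hMi hBM hB0 hm hq
  have hP : ∀ a b : Fin m, a ≠ b → ∀ e : F, symPair a b e ∈ M :=
    fun a b hab e => symPair_mem_all M hMi hij hc hpair hab e
  have hcol : ∀ (k : Fin m) (v : Fin m → F) (hv : v k = 0), (∀ l, k ≤ l → v l = 0) →
      spLevi (colElt k v hv) ∈ T := by
    intro k v hv hv'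
    have hmem : Matrix.vecMulVec v (Pi.single k 1) + Matrix.vecMulVec (Pi.single k 1) v ∈ M := by
      have : Matrix.vecMulVec v (Pi.single k 1) + Matrix.vecMulVec (Pi.single k (1 : F)) v =
          ∑ l ∈ Finset.univ.erase k, symPair l k (v l) := by
        ext a b
        simp only [symPair, Matrix.add_apply, Matrix.sum_apply, Matrix.single_apply,
          Matrix.vecMulVec_apply, Finset.sum_add_distrib, ite_and, Finset.sum_ite_eq']
        by_cases hak : a = k <;> by_cases hbk : b = k <;>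
          simp [hak, hbk, hv, Pi.single_apply, eq_comm (a := k)]
      rw [this]
      exact sum_mem fun l hl => hP l k (Finset.ne_of_mem_erase hl) (v l)
    obtain ⟨hs, hsT⟩ := hmem
    have hin := spLevi_mem_spBorelU (isUpperUni_colElt k v hv hv')
    rw [← spPairSwap_conj_colElt k v hv] at hsT
    have e : (spPairSwap k)⁻¹ *
        (spPairSwap k * spLevi (colElt k v hv) * (spPairSwap k)⁻¹) * ((spPairSwap k)⁻¹)⁻¹ =
        spLevi (colElt k v hv) := by group
    have h2 := hcl _ hsT (spPairSwap k)⁻¹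
    rw [e] at h2
    exact h2 hin
  haveI : Nontrivial (Fin m) := Fin.nontrivial_iff_two_le.2 hm
  have hdiag : ∀ (a : Fin m) (e : F), Matrix.single a a e ∈ M := by
    intro a e
    obtain ⟨b, hb⟩ := exists_ne a
    obtain ⟨a₀, b₀, hab⟩ : ∃ a₀ b₀ : Fin m, a₀ < b₀ := ⟨⟨0, by omega⟩, ⟨1, by omega⟩, by simp⟩
    have hsq : ∀ t : F, Matrix.single a₀ a₀ (t * t) ∈ M := by
      intro t
      have hv : (t • Pi.single a₀ (1 : F) : Fin m → F) b₀ = 0 := by simp [hab.ne']
      have hsS : (Matrix.single b₀ b₀ (1 : F)).IsSymm := Matrix.transpose_single ..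
      have h1 := hcomm _ (hcol b₀ _ hv fun l hl => by simp [(hab.trans_le hl).ne']) _
        (spSiegel_mem_spBorelU hsS)
      rw [← mul_assoc, ← mul_assoc, spLevi_conj_spSiegel, spSiegel_inv, spSiegel_mul] at h1
      have h2 : _ ∈ M := ⟨_, h1⟩
      have hC : (colElt b₀ _ hv).1 = (glElem hab.ne t).1 := by
        change _ = Matrix.transvection a₀ b₀ t
        ext x y
        simp [colElt, Matrix.transvection, Matrix.single_apply, Matrix.vecMulVec_apply,
          Pi.single_apply]
        grind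
      convert M.sub_mem h2 (hP a₀ b₀ hab.ne t) using 1
      ext x y
      rw [Matrix.sub_apply, Matrix.add_apply, hC, glElem_congr_apply hab.ne t hsS]
      simp only [symPair, Matrix.add_apply, Matrix.neg_apply, Matrix.single_apply]
      grind
    have hall : Matrix.single a₀ a₀ e ∈ M :=
      mem_of_sq_mem (M.comap (AddMonoidHom.mk' (fun x : F => Matrix.single a₀ a₀ x)
        fun x y => Matrix.single_add a₀ a₀ x y)) hsq e
    let σ := Equiv.swap a a₀
    let P : GL (Fin m) F := ⟨σ.permMatrix F, (σ⁻¹).permMatrix F,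
      by rw [← Matrix.permMatrix_mul]; simp, by rw [← Matrix.permMatrix_mul]; simp⟩
    convert hMi _ hall P using 1
    change _ = σ.permMatrix F * Matrix.single a₀ a₀ e * (σ.permMatrix F)ᵀ
    rw [Matrix.transpose_permMatrix, Equiv.Perm.permMatrix, Equiv.Perm.permMatrix,
      PEquiv.toMatrix_toPEquiv_mul, PEquiv.mul_toMatrix_toPEquiv]
    ext x y
    have hs : ∀ z, a₀ = σ z ↔ a = z := fun z => by
      constructor
      · intro h'
        exact σ.injective ((Equiv.swap_apply_left a a₀).trans h')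
      · rintro rfl; exact (Equiv.swap_apply_left a a₀).symm
    simp [Matrix.single_apply, Equiv.Perm.inv_def, hs]
  have hall : ∀ S : Matrix (Fin m) (Fin m) F, S.IsSymm → S ∈ M := by
    intro S hS
    rw [eq_diag_add_pairs hS]
    exact sum_mem fun a _ => M.add_mem (hdiag a _)
      (sum_mem fun b hb => hP a b (Finset.mem_Ioi.1 hb).ne _)
  refine le_antisymm hT fun g hg => ?_
  obtain ⟨A, B, hB, hA, rfl⟩ := exists_spLevi_mul_spSiegel g hg.1
  obtain ⟨hB', hBT⟩ := hall B hB
  refine mul_mem ?_ hBT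
  have hA' : IsUpperUni A.1 := by rw [hA]; exact hg.2
  have main : ∀ n ≤ m, ∀ A : GL (Fin m) F, IsUpperUni A.1 →
      (∀ a b : Fin m, n ≤ b.1 → A.1 a b = if a = b then 1 else 0) → spLevi A ∈ T := by
    intro n
    induction n with
    | zero =>
      intro _ A _ h
      have : A = 1 := Units.ext (Matrix.ext fun a b => (h a b (Nat.zero_le _)).trans
        Matrix.one_apply.symm)
      rw [this, map_one]; exact one_mem T
    | succ n ih =>
      intro hn A hA h
      set k : Fin m := ⟨n, by omega⟩ with hk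
      let v : Fin m → F := fun a => if a = k then 0 else A.1 a k
      have hv : v k = 0 := if_pos rfl
      have hv' : ∀ l, k ≤ l → v l = 0 := fun l hl => by
        by_cases hlk : l = k
        · rw [hlk, hv]
        · simp only [v, if_neg hlk]; rw [hA l k hl, if_neg hlk]
      have hA' : IsUpperUni ((colElt k v hv)⁻¹ * A).1 := by
        refine IsUpperUni.mul ?_ hA
        intro a b hab
        change (1 - Matrix.vecMulVec v (Pi.single k 1) : Matrix (Fin m) (Fin m) F) a b = _
        rw [Matrix.sub_apply, Matrix.vecMulVec_apply, Matrix.one_apply]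
        by_cases hb : b = k
        · subst hb; simp [hv' a hab]
        · simp [hb]
      have h' := ih (by omega) _ hA' fun a b hb => ?_
      · rw [← mul_inv_cancel_left (colElt k v hv) A, map_mul]
        exact mul_mem (hcol k v hv hv') h'
      · change ((1 - Matrix.vecMulVec v (Pi.single k 1) : Matrix (Fin m) (Fin m) F) * A.1) a b = _
        rw [Matrix.sub_mul, Matrix.one_mul, Matrix.sub_apply, Matrix.vecMulVec_mul,
          Matrix.vecMulVec_apply, Matrix.single_one_vecMul, Matrix.row_apply]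
        by_cases hbk : b = k
        · subst hbk
          rw [hA k k le_rfl, if_pos rfl, mul_one]
          by_cases hak : a = k
          · subst hak; simp [hv, hA k k le_rfl]
          · simp [v, hak]
        · have hb' : n + 1 ≤ b.1 := by
            have : b.1 ≠ n := fun e => hbk (Fin.ext e)
            omega
          rw [h a b hb', h k b hb', if_neg (Ne.symm hbk), mul_zero, sub_zero]
  exact main m le_rfl A hA' fun a b hb => absurd b.2 (by omega)

end Cfsg.Agent.Linear
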