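import Cfsg.Agent.Lib.Linear.UnitaryEichler
import Mathlib.GroupTheory.Nilpotent

/-!
# Borel subgroup and maximal unipotent subgroup of `SU_n(q)`

* `Frame` : hyperbolic pairs `e i`, `f i` and at most one further vector `u`; `exists_frame`
* `Frame.borel`, `Frame.unip` : the stabilizer of the flag, and its unipotent radical
* `Frame.unip_le` : the radical is generated by Eichler elements
* `Frame.mem_borel_of_normalizes`, `Frame.eq_unip_of_isPGroup` : the radical is a Sylow subgroup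
  with normalizer the Borel subgroup
-/

set_option autoImplicit false

namespace Cfsg.Agent.UFus

open scoped Matrix
open Cfsg.Agent.Unitary

/-- Hyperbolic pairs spanning, with at most one further vector of norm one. -/
structure Frame (n : ℕ) (F : Type*) [Field F] (q m : ℕ) where
  e : Fin m → (Fin n → F)
  f : Fin m → (Fin n → F)
  u : Fin n → F
  ee : ∀ i j, Cfsg.hermForm n F q (e i) (e j) = 0
  ff : ∀ i j, Cfsg.hermForm n F q (f i) (f j) = 0
  ef : ∀ i j, Cfsg.hermForm n F q (e i) (f j) = if i = j then 1 else 0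
  eu : ∀ i, Cfsg.hermForm n F q (e i) u = 0
  fu : ∀ i, Cfsg.hermForm n F q (f i) u = 0
  hu : u = 0 ∨ Cfsg.hermForm n F q u u = 1
  rest : ∀ x, (∀ i, Cfsg.hermForm n F q x (e i) = 0) → (∀ i, Cfsg.hermForm n F q x (f i) = 0) →
    x = Cfsg.hermForm n F q x u • u

variable {F : Type*} [Field F] [Fintype F] {q n m : ℕ}

theorem exists_frame (hF : Fintype.card F = q ^ 2) (n : ℕ) :
    Nonempty (Frame n F q (n / 2)) := by
  classical
  obtain ⟨ε, hε⟩ := exists_eps hF
  obtain ⟨z, hz, hord⟩ := exists_norm_one_gen hF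
  set ζ := z * ε with hζdef
  have hε0 : ε ≠ 0 := fun h => by simp [h] at hε
  have hζ : ζ ^ (q + 1) = -1 := by rw [hζdef, mul_pow, hz, hε, one_mul]
  have hne : ζ ≠ ε := by
    intro h
    have : z = 1 := mul_right_cancel₀ hε0 (by rw [one_mul]; exact h)
    rw [this, orderOf_one] at hord
    have := two_le_q hF
    omega
  have hK : (1 : F) + ε * ζ ^ q ≠ 0 := by
    intro h
    apply hne
    have h1 : ζ * (1 + ε * ζ ^ q) = 0 := by rw [h, mul_zero]
    have h2 : ζ * ζ ^ q = -1 := by rw [← pow_succ', hζ]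
    linear_combination h1 - ε * h2
  set a := ((1 + ε * ζ ^ q)⁻¹) ^ q with ha
  have H := hermForm_isHerm hF n
  let o : Fin (n / 2) → Fin n := fun i => ⟨2 * i.val, by omega⟩
  let o' : Fin (n / 2) → Fin n := fun i => ⟨2 * i.val + 1, by omega⟩
  let b : Fin n → (Fin n → F) := fun i => Pi.single i 1
  have B : ∀ i j, Cfsg.hermForm n F q (b i) (b j) = if i = j then 1 else 0 :=
    (single_orthonormal hF n).apply
  have h00 : ∀ i j, Cfsg.hermForm n F q (b (o i)) (b (o j)) = if i = j then 1 else 0 := fun i j => by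
    rw [B]; exact if_congr ⟨fun h => by simp [o, Fin.ext_iff] at h; exact Fin.ext h, fun h => h ▸ rfl⟩ rfl rfl
  have h11 : ∀ i j, Cfsg.hermForm n F q (b (o' i)) (b (o' j)) = if i = j then 1 else 0 := fun i j => by
    rw [B]; exact if_congr ⟨fun h => by simp [o', Fin.ext_iff] at h; exact Fin.ext h, fun h => h ▸ rfl⟩ rfl rfl
  have h01 : ∀ i j, Cfsg.hermForm n F q (b (o i)) (b (o' j)) = 0 := fun i j => by
    rw [B, if_neg (fun h => by simp [o, o', Fin.ext_iff] at h; omega)]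
  have h10 : ∀ i j, Cfsg.hermForm n F q (b (o' i)) (b (o j)) = 0 := fun i j => by
    rw [B, if_neg (fun h => by simp [o, o', Fin.ext_iff] at h; omega)]
  let u : Fin n → F := if h : n % 2 = 1 then b ⟨n - 1, by omega⟩ else 0
  have hu0 : ∀ i, Cfsg.hermForm n F q (b (o i)) u = 0 ∧ Cfsg.hermForm n F q (b (o' i)) u = 0 := by
    intro i
    by_cases h : n % 2 = 1
    · simp only [u, dif_pos h, B]
      rw [if_neg, if_neg]
      · exact ⟨rfl, rfl⟩
      · simp [o', Fin.ext_iff]; omega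
      · simp [o, Fin.ext_iff]; omega
    · simp only [u, dif_neg h, H.zero_right hF, and_self]
  refine ⟨⟨fun i => b (o i) + ε • b (o' i), fun i => a • (b (o i) + ζ • b (o' i)), u,
    fun i j => ?_, fun i j => ?_, fun i j => ?_, fun i => ?_, fun i => ?_, ?_, fun x hxe hxf => ?_⟩⟩
  · simp only [H.add_left, H.add_right hF, H.smul_left, H.smul_right, h00, h01, h10, h11]
    split_ifs
    · linear_combination hε
    · simp
  · simp only [H.add_left, H.add_right hF, H.smul_left, H.smul_right, h00, h01, h10, h11]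
    split_ifs
    · linear_combination (a * a ^ q) * hζ
    · simp
  · simp only [H.add_left, H.add_right hF, H.smul_left, H.smul_right, h00, h01, h10, h11]
    split_ifs
    · rw [ha, pow_q_pow_q hF]
      have := inv_mul_cancel₀ hK
      linear_combination this
    · simp
  · simp [H.add_left, H.smul_left, hu0 i]
  · simp [H.add_left, H.smul_left, hu0 i]
  · by_cases h : n % 2 = 1
    · right; simp only [u, dif_pos h, B, if_true]
    · left; simp only [u, dif_neg h]
  · have ha0 : a ≠ 0 := by rw [ha]; exact pow_ne_zero _ (inv_ne_zero hK)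
    have hpair : ∀ i, x (o i) = 0 ∧ x (o' i) = 0 := by
      intro i
      have e1 := hxe i
      have e2 := hxf i
      simp only [b, H.add_right hF, H.smul_right, hermForm_single_right hF] at e1 e2
      have e3 := (mul_eq_zero.1 e2).resolve_left (pow_ne_zero _ ha0)
      have hd : ε ^ q - ζ ^ q ≠ 0 := sub_ne_zero.2 fun h => hne (pow_q_injective hF h).symm
      have h1 : x (o' i) = 0 := (mul_eq_zero.1
        (by linear_combination e1 - e3 : (ε ^ q - ζ ^ q) * x (o' i) = 0)).resolve_left hd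
      exact ⟨by rw [h1, mul_zero, add_zero] at e1; exact e1, h1⟩
    funext i
    by_cases h : n % 2 = 1
    · simp only [u, dif_pos h, b, hermForm_single_right hF]
      by_cases hi : i.val = n - 1
      · have hi' : i = ⟨n - 1, by omega⟩ := Fin.ext hi
        rw [hi']
        simp
      · rw [Pi.smul_apply, Pi.single_eq_of_ne (fun e => hi (congrArg Fin.val e)), smul_zero]
        rcases Nat.even_or_odd' i.val with ⟨k, hk | hk⟩
        · have := (hpair ⟨k, by omega⟩).1
          rwa [show o ⟨k, by omega⟩ = i from Fin.ext (by simp [o, hk])] at this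
        · have := (hpair ⟨k, by omega⟩).2
          rwa [show o' ⟨k, by omega⟩ = i from Fin.ext (by simp [o', hk])] at this
    · simp only [u, dif_neg h, smul_zero, Pi.zero_apply]
      rcases Nat.even_or_odd' i.val with ⟨k, hk | hk⟩
      · have := (hpair ⟨k, by omega⟩).1
        rwa [show o ⟨k, by omega⟩ = i from Fin.ext (by simp [o, hk])] at this
      · have := (hpair ⟨k, by omega⟩).2
        rwa [show o' ⟨k, by omega⟩ = i from Fin.ext (by simp [o', hk])] at this

namespace Frame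

variable (Φ : Frame n F q m) (hF : Fintype.card F = q ^ 2)
include hF

theorem fe (i j : Fin m) :
    Cfsg.hermForm n F q (Φ.f i) (Φ.e j) = if i = j then 1 else 0 := by
  rw [(hermForm_isHerm hF n).conj_symm (Φ.e j) (Φ.f i), Φ.ef]
  split_ifs with h1 h2 h2
  · exact one_pow q
  · exact absurd h1.symm h2
  · exact absurd h2.symm h1
  · exact zero_pow_q hF

theorem ue (i : Fin m) : Cfsg.hermForm n F q Φ.u (Φ.e i) = 0 :=
  ((hermForm_isHerm hF n).eq_zero_symm hF).1 (Φ.eu i)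

theorem uf (i : Fin m) : Cfsg.hermForm n F q Φ.u (Φ.f i) = 0 :=
  ((hermForm_isHerm hF n).eq_zero_symm hF).1 (Φ.fu i)

theorem smul_uu : Cfsg.hermForm n F q Φ.u Φ.u • Φ.u = Φ.u := by
  rcases Φ.hu with h | h
  · rw [h, smul_zero]
  · rw [h, one_smul]

theorem decomp (x : Fin n → F) :
    x = (∑ i, Cfsg.hermForm n F q x (Φ.f i) • Φ.e i) +
      (∑ i, Cfsg.hermForm n F q x (Φ.e i) • Φ.f i) + Cfsg.hermForm n F q x Φ.u • Φ.u := by
  classical
  have H := hermForm_isHerm hF n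
  set A := (∑ i, Cfsg.hermForm n F q x (Φ.f i) • Φ.e i) +
    (∑ i, Cfsg.hermForm n F q x (Φ.e i) • Φ.f i) + Cfsg.hermForm n F q x Φ.u • Φ.u with hA
  have d := Φ.rest (x - A) (fun j => ?_) (fun j => ?_)
  · have e : Cfsg.hermForm n F q (x - A) Φ.u =
        Cfsg.hermForm n F q x Φ.u * (1 - Cfsg.hermForm n F q Φ.u Φ.u) := by
      rw [H.sub_left, hA, H.add_left, H.add_left, H.sum_left, H.sum_left, H.smul_left]
      simp only [H.smul_left, Φ.eu, Φ.fu, mul_zero, Finset.sum_const_zero, zero_add]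
      ring
    rw [e, mul_smul, sub_smul, one_smul, Φ.smul_uu hF, sub_self, smul_zero] at d
    exact sub_eq_zero.1 d
  · rw [H.sub_left, hA, H.add_left, H.add_left, H.sum_left, H.sum_left, H.smul_left]
    simp [H.smul_left, Φ.ee, Φ.fe hF, Φ.ue hF]
  · rw [H.sub_left, hA, H.add_left, H.add_left, H.sum_left, H.sum_left, H.smul_left]
    simp [H.smul_left, Φ.ef, Φ.ff, Φ.uf hF]

theorem u_eq_zero_or (x : F) : x • Φ.u = Φ.u → x = 1 ∨ Φ.u = 0 := by
  intro h
  rcases Φ.hu with h0 | h1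
  · exact .inr h0
  · left
    have := congrArg (fun y => Cfsg.hermForm n F q y Φ.u) h
    simpa [(hermForm_isHerm hF n).smul_left, h1] using this

/-- The span of the first `k` vectors `e i`. -/
def low (k : ℕ) : Submodule F (Fin n → F) where
  carrier := {x | (∀ i, Cfsg.hermForm n F q x (Φ.e i) = 0) ∧ Cfsg.hermForm n F q x Φ.u = 0 ∧
    ∀ i : Fin m, k ≤ i.val → Cfsg.hermForm n F q x (Φ.f i) = 0}
  zero_mem' := by
    have H := hermForm_isHerm hF n
    exact ⟨fun _ => H.zero_left _, H.zero_left _, fun _ _ => H.zero_left _⟩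
  add_mem' {x y} hx hy := by
    have H := hermForm_isHerm hF n
    exact ⟨fun i => by rw [H.add_left, hx.1, hy.1, add_zero],
      by rw [H.add_left, hx.2.1, hy.2.1, add_zero],
      fun i hi => by rw [H.add_left, hx.2.2 i hi, hy.2.2 i hi, add_zero]⟩
  smul_mem' c x hx := by
    have H := hermForm_isHerm hF n
    exact ⟨fun i => by rw [H.smul_left, hx.1, mul_zero], by rw [H.smul_left, hx.2.1, mul_zero],
      fun i hi => by rw [H.smul_left, hx.2.2 i hi, mul_zero]⟩

theorem low_mono {k l : ℕ} (h : k ≤ l) : Φ.low hF k ≤ Φ.low hF l :=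
  fun _ hx => ⟨hx.1, hx.2.1, fun i hi => hx.2.2 i (h.trans hi)⟩

theorem e_mem_low {i : Fin m} {k : ℕ} (h : i.val < k) : Φ.e i ∈ Φ.low hF k :=
  ⟨Φ.ee i, Φ.eu i, fun j hj => by rw [Φ.ef, if_neg]; intro e; omega⟩

theorem low_eq {k : ℕ} {x : Fin n → F} (hx : x ∈ Φ.low hF k) :
    x = ∑ i, Cfsg.hermForm n F q x (Φ.f i) • Φ.e i := by
  conv_lhs => rw [Φ.decomp hF x]
  simp [hx.1, hx.2.1]

theorem eq_zero_of_low_zero {x : Fin n → F} (hx : x ∈ Φ.low hF 0) : x = 0 := by
  rw [Φ.low_eq hF hx]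
  exact Finset.sum_eq_zero fun i _ => by rw [hx.2.2 i (Nat.zero_le _), zero_smul]

theorem perp_decomp {x : Fin n → F} (hx : ∀ i, Cfsg.hermForm n F q x (Φ.e i) = 0) :
    x - Cfsg.hermForm n F q x Φ.u • Φ.u ∈ Φ.low hF m := by
  have e : x - Cfsg.hermForm n F q x Φ.u • Φ.u = ∑ i, Cfsg.hermForm n F q x (Φ.f i) • Φ.e i := by
    conv_lhs => arg 1; rw [Φ.decomp hF x]
    simp [hx]
  rw [e]
  exact Submodule.sum_mem _ fun i _ => Submodule.smul_mem _ _ (Φ.e_mem_low hF i.isLt)

theorem mulVec_low {M : Matrix (Fin n) (Fin n) F} {k : ℕ} {S : Submodule F (Fin n → F)}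
    (h : ∀ i : Fin m, i.val < k → M *ᵥ Φ.e i ∈ S) {x : Fin n → F} (hx : x ∈ Φ.low hF k) :
    M *ᵥ x ∈ S := by
  rw [Φ.low_eq hF hx, Matrix.mulVec_sum]
  refine Submodule.sum_mem _ fun i _ => ?_
  by_cases hi : i.val < k
  · rw [Matrix.mulVec_smul]; exact Submodule.smul_mem _ _ (h i hi)
  · rw [hx.2.2 i (by omega), zero_smul, Matrix.mulVec_zero]; exact Submodule.zero_mem _

theorem herm_low {k : ℕ} {x z : Fin n → F} (hx : x ∈ Φ.low hF k)
    (hz : ∀ i : Fin m, i.val < k → Cfsg.hermForm n F q z (Φ.e i) = 0) :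
    Cfsg.hermForm n F q z x = 0 := by
  have H := hermForm_isHerm hF n
  rw [Φ.low_eq hF hx, H.sum_right hF]
  refine Finset.sum_eq_zero fun i _ => ?_
  rw [H.smul_right]
  by_cases hi : i.val < k
  · rw [hz i hi, mul_zero]
  · rw [hx.2.2 i (by omega), zero_pow_q hF, zero_mul]

/-- Unipotent with respect to the flag. -/
def IsUni (M : Matrix (Fin n) (Fin n) F) : Prop :=
  (∀ i : Fin m, M *ᵥ Φ.e i - Φ.e i ∈ Φ.low hF i.val) ∧ M *ᵥ Φ.u - Φ.u ∈ Φ.low hF m

theorem herm_uni {M : Matrix (Fin n) (Fin n) F} (hu : IsUnitary q M) (hM : Φ.IsUni hF M)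
    {x : Fin n → F} (i : Fin m)
    (hx : ∀ l : Fin m, l.val < i.val → Cfsg.hermForm n F q x (Φ.e l) = 0) :
    Cfsg.hermForm n F q (M *ᵥ x) (Φ.e i) = Cfsg.hermForm n F q x (Φ.e i) := by
  have H := hermForm_isHerm hF n
  obtain ⟨k, hk⟩ : ∃ k, i.val = k := ⟨_, rfl⟩
  induction k using Nat.strong_induction_on generalizing i with
  | _ k ih =>
    have h1 := hu x (Φ.e i)
    have h2 : Cfsg.hermForm n F q (M *ᵥ x) (M *ᵥ Φ.e i - Φ.e i) = 0 := by
      refine Φ.herm_low hF (hM.1 i) fun l hl => ?_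
      rw [ih l.val (hk ▸ hl) l (fun l' hl' => hx l' (hl'.trans hl)) rfl, hx l hl]
    rw [H.sub_right hF, sub_eq_zero] at h2
    rw [← h2, h1]

theorem det_of_isUni {M : Matrix (Fin n) (Fin n) F} (hu : IsUnitary q M) (hM : Φ.IsUni hF M) :
    ∀ p : ℕ, p.Prime → CharP F p → M ^ p ^ (2 * m + 1) = 1 := by
  intro p hp hch
  haveI : Fact p.Prime := ⟨hp⟩
  rcases Nat.eq_zero_or_pos n with rfl | hn0
  · exact Matrix.ext fun i => i.elim0
  haveI : Nonempty (Fin n) := ⟨⟨0, hn0⟩⟩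
  have H := hermForm_isHerm hF n
  let V : ℕ → (Fin n → F) → Prop := fun r x => if r ≤ m then x ∈ Φ.low hF r
    else ∀ i : Fin m, i.val < 2 * m + 1 - r → Cfsg.hermForm n F q x (Φ.e i) = 0
  have hstep : ∀ r, r + 1 ≤ 2 * m + 1 → ∀ x, V (r + 1) x → V r ((M - 1) *ᵥ x) := by
    intro r hr x hx
    rw [Matrix.sub_mulVec, Matrix.one_mulVec]
    simp only [V] at hx ⊢
    by_cases h1 : r + 1 ≤ m
    · rw [if_pos h1] at hx
      rw [if_pos (by omega)]
      have := Φ.mulVec_low hF (M := M - 1) (S := Φ.low hF r) (fun i hi => by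
        rw [Matrix.sub_mulVec, Matrix.one_mulVec]
        exact Φ.low_mono hF (by omega) (hM.1 i)) hx
      rwa [Matrix.sub_mulVec, Matrix.one_mulVec] at this
    rw [if_neg h1] at hx
    by_cases h2 : r ≤ m
    · rw [if_pos h2]
      obtain rfl : r = m := by omega
      have hxe : ∀ i, Cfsg.hermForm n F q x (Φ.e i) = 0 := fun i => hx i (by omega)
      have hd := Φ.perp_decomp hF hxe
      set s := Cfsg.hermForm n F q x Φ.u
      have e : M *ᵥ x - x = ((M - 1) *ᵥ (x - s • Φ.u)) + s • (M *ᵥ Φ.u - Φ.u) := by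
        rw [Matrix.sub_mulVec, Matrix.one_mulVec, Matrix.mulVec_sub, Matrix.mulVec_smul, smul_sub]
        abel
      rw [e]
      refine Submodule.add_mem _ (Φ.mulVec_low hF (fun i hi => ?_) hd) (Submodule.smul_mem _ _ hM.2)
      rw [Matrix.sub_mulVec, Matrix.one_mulVec]
      exact Φ.low_mono hF (by omega) (hM.1 i)
    · rw [if_neg h2]
      intro i hi
      rw [H.sub_left, Φ.herm_uni hF hu hM i (fun l hl => hx l (by omega)), sub_self]
  have hall : ∀ k, k ≤ 2 * m + 1 → ∀ x, V (2 * m + 1 - k) ((M - 1) ^ k *ᵥ x) := by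
    intro k hk x
    induction k with
    | zero =>
      simp only [V]
      rw [if_neg (by omega)]
      intro i hi
      omega
    | succ k ih =>
      rw [pow_succ', ← Matrix.mulVec_mulVec]
      refine hstep _ (by omega) _ ?_
      rw [show 2 * m + 1 - (k + 1) + 1 = 2 * m + 1 - k by omega]
      exact ih (by omega)
  have hnil : (M - 1) ^ (2 * m + 1) = 0 := Matrix.ext_iff_mulVec.2 fun x => by
    have := hall _ le_rfl x
    simp only [V, Nat.sub_self] at this
    rw [if_pos (Nat.zero_le _)] at this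
    rw [Φ.eq_zero_of_low_zero hF this, Matrix.zero_mulVec]
  have hle : 2 * m + 1 ≤ p ^ (2 * m + 1) := (Nat.lt_pow_self hp.one_lt).le
  have h1 : (M - 1) ^ p ^ (2 * m + 1) = 0 := pow_eq_zero_of_le hle hnil
  rw [sub_pow_char_pow_of_commute p (2 * m + 1) (Commute.one_right M), one_pow, sub_eq_zero] at h1
  exact h1

theorem uni_det {M : Matrix (Fin n) (Fin n) F} (hu : IsUnitary q M) (hM : Φ.IsUni hF M) :
    M.det = 1 := by
  obtain ⟨p, hp⟩ := CharP.exists F
  haveI : Fact p.Prime := ⟨CharP.char_is_prime F p⟩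
  exact det_eq_one_of_pow p (Φ.det_of_isUni hF hu hM p Fact.out hp)

/-- Membership in the Borel subgroup. -/
def IsBor (g : Cfsg.SU n F q) : Prop :=
  (∀ i : Fin m, suAct g (Φ.e i) ∈ Φ.low hF (i.val + 1)) ∧
    ∀ i, Cfsg.hermForm n F q (suAct g Φ.u) (Φ.e i) = 0

theorem bor_low {g : Cfsg.SU n F q} (hg : Φ.IsBor hF g) {k : ℕ} {x : Fin n → F}
    (hx : x ∈ Φ.low hF k) : suAct g x ∈ Φ.low hF k :=
  Φ.mulVec_low hF (fun i hi => Φ.low_mono hF (by omega) (hg.1 i)) hx

/-- The diagonal entries. -/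
def coeffA (g : Cfsg.SU n F q) (i : Fin m) : F := Cfsg.hermForm n F q (suAct g (Φ.e i)) (Φ.f i)

/-- The middle entry. -/
def coeffB (g : Cfsg.SU n F q) : F := Cfsg.hermForm n F q (suAct g Φ.u) Φ.u

theorem bor_apply_e {g : Cfsg.SU n F q} (hg : Φ.IsBor hF g) (i : Fin m) :
    suAct g (Φ.e i) - Φ.coeffA g i • Φ.e i ∈ Φ.low hF i.val := by
  have H := hermForm_isHerm hF n
  refine ⟨fun j => ?_, ?_, fun j hj => ?_⟩
  · rw [H.sub_left, H.smul_left, (hg.1 i).1, Φ.ee, mul_zero, sub_zero]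
  · rw [H.sub_left, H.smul_left, (hg.1 i).2.1, Φ.eu, mul_zero, sub_zero]
  · rw [H.sub_left, H.smul_left, Φ.ef]
    by_cases h : i = j
    · subst h; rw [if_pos rfl, mul_one, coeffA, sub_self]
    · rw [if_neg h, mul_zero, (hg.1 i).2.2 j (by
        have := fun e => h (Fin.ext e)
        omega), sub_zero]

theorem bor_apply_u {g : Cfsg.SU n F q} (hg : Φ.IsBor hF g) :
    suAct g Φ.u - Φ.coeffB g • Φ.u ∈ Φ.low hF m :=
  Φ.perp_decomp hF hg.2

theorem bor_mul {g g' : Cfsg.SU n F q} (hg : Φ.IsBor hF g) (hg' : Φ.IsBor hF g') :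
    Φ.IsBor hF (g * g') := by
  have H := hermForm_isHerm hF n
  refine ⟨fun i => ?_, fun i => ?_⟩
  · rw [suAct_mul]; exact Φ.bor_low hF hg (hg'.1 i)
  · have := (Φ.bor_low hF hg (Φ.bor_apply_u hF hg')).1 i
    rw [suAct_sub, suAct_smul, H.sub_left, H.smul_left, hg.2 i, mul_zero, sub_zero] at this
    rw [suAct_mul]; exact this

theorem coeffA_mul {g g' : Cfsg.SU n F q} (hg : Φ.IsBor hF g) (hg' : Φ.IsBor hF g') (i : Fin m) :
    Φ.coeffA (g * g') i = Φ.coeffA g i * Φ.coeffA g' i := by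
  have H := hermForm_isHerm hF n
  have := (Φ.bor_low hF hg (Φ.bor_apply_e hF hg' i)).2.2 i le_rfl
  rw [suAct_sub, suAct_smul, H.sub_left, H.smul_left, sub_eq_zero] at this
  simp only [coeffA, suAct_mul] at this ⊢
  rw [this, mul_comm]

theorem coeffB_mul {g g' : Cfsg.SU n F q} (hg : Φ.IsBor hF g) (hg' : Φ.IsBor hF g') :
    Φ.coeffB (g * g') = Φ.coeffB g * Φ.coeffB g' := by
  have H := hermForm_isHerm hF n
  have := (Φ.bor_low hF hg (Φ.bor_apply_u hF hg')).2.1
  rw [suAct_sub, suAct_smul, H.sub_left, H.smul_left, sub_eq_zero] at this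
  simp only [coeffB, suAct_mul] at this ⊢
  rw [this, mul_comm]

theorem bor_one : Φ.IsBor hF 1 :=
  ⟨fun i => by rw [suAct_one]; exact Φ.e_mem_low hF (Nat.lt_succ_self _),
    fun i => by rw [suAct_one]; exact Φ.ue hF i⟩

theorem coeffA_one (i : Fin m) : Φ.coeffA 1 i = 1 := by
  rw [coeffA, suAct_one, Φ.ef, if_pos rfl]

theorem bor_pow {g : Cfsg.SU n F q} (hg : Φ.IsBor hF g) (k : ℕ) :
    Φ.IsBor hF (g ^ k) ∧ (∀ i, Φ.coeffA (g ^ k) i = Φ.coeffA g i ^ k) := by
  induction k with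
  | zero =>
    rw [pow_zero]
    exact ⟨Φ.bor_one hF, fun i => by rw [Φ.coeffA_one hF, pow_zero]⟩
  | succ k ih =>
    rw [pow_succ]
    exact ⟨Φ.bor_mul hF ih.1 hg, fun i => by rw [Φ.coeffA_mul hF ih.1 hg, ih.2, pow_succ]⟩

theorem coeffB_pow {g : Cfsg.SU n F q} (hg : Φ.IsBor hF g) (k : ℕ) :
    Φ.coeffB (g ^ k) • Φ.u = Φ.coeffB g ^ k • Φ.u := by
  induction k with
  | zero => rw [pow_zero, pow_zero, coeffB, suAct_one, Φ.smul_uu hF, one_smul]
  | succ k ih =>
    rw [pow_succ, Φ.coeffB_mul hF (Φ.bor_pow hF hg k).1 hg, pow_succ, mul_comm, mul_smul, ih,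
      smul_smul, mul_comm]

/-- The Borel subgroup. -/
def borel : Subgroup (Cfsg.SU n F q) where
  carrier := {g | Φ.IsBor hF g}
  one_mem' := Φ.bor_one hF
  mul_mem' := Φ.bor_mul hF
  inv_mem' {g} hg := by
    show Φ.IsBor hF g⁻¹
    have h := orderOf_pos g
    rw [show g⁻¹ = g ^ (orderOf g - 1) by
      rw [inv_eq_iff_mul_eq_one, ← pow_succ', Nat.sub_add_cancel h, pow_orderOf_eq_one]]
    exact (Φ.bor_pow hF hg _).1

theorem bor_inv_coeff {g : Cfsg.SU n F q} (hg : g ∈ Φ.borel hF) (i : Fin m) :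
    Φ.coeffA g i * Φ.coeffA g⁻¹ i = 1 := by
  rw [← Φ.coeffA_mul hF hg ((Φ.borel hF).inv_mem hg), mul_inv_cancel, Φ.coeffA_one hF]

/-- The unipotent radical. -/
def unip : Subgroup (Cfsg.SU n F q) where
  carrier := {g | Φ.IsBor hF g ∧ (∀ i, Φ.coeffA g i = 1) ∧ Φ.coeffB g • Φ.u = Φ.u}
  one_mem' := ⟨Φ.bor_one hF, Φ.coeffA_one hF, by rw [coeffB, suAct_one, Φ.smul_uu hF]⟩
  mul_mem' {g h} hg hh := ⟨Φ.bor_mul hF hg.1 hh.1,
    fun i => by rw [Φ.coeffA_mul hF hg.1 hh.1, hg.2.1, hh.2.1, one_mul],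
    by rw [Φ.coeffB_mul hF hg.1 hh.1, mul_smul, hh.2.2, hg.2.2]⟩
  inv_mem' {g} hg := by
    have hi : Φ.IsBor hF g⁻¹ := (Φ.borel hF).inv_mem hg.1
    refine ⟨hi, fun i => ?_, ?_⟩
    · have := Φ.bor_inv_coeff hF hg.1 i
      rwa [hg.2.1, one_mul] at this
    · have := Φ.coeffB_mul hF hi hg.1
      rw [inv_mul_cancel, coeffB, suAct_one] at this
      have h2 := congrArg (fun s => s • Φ.u) this
      simp only [Φ.smul_uu hF, mul_smul, hg.2.2] at h2
      exact h2.symm

theorem unip_le_borel : Φ.unip hF ≤ Φ.borel hF := fun _ hg => hg.1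

theorem mem_unip_iff {g : Cfsg.SU n F q} : g ∈ Φ.unip hF ↔
    Φ.IsUni hF ((g : Matrix.SpecialLinearGroup (Fin n) F) : Matrix (Fin n) (Fin n) F) := by
  have H := hermForm_isHerm hF n
  constructor
  · rintro ⟨hg, ha, hb⟩
    refine ⟨fun i => ?_, ?_⟩
    · have := Φ.bor_apply_e hF hg i
      rwa [ha i, one_smul] at this
    · have := Φ.bor_apply_u hF hg
      rwa [hb] at this
  · rintro ⟨he, hu⟩
    have hb : Φ.IsBor hF g := by
      refine ⟨fun i => ?_, fun i => ?_⟩
      · have := Submodule.add_mem _ (Φ.low_mono hF (Nat.le_succ _) (he i))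
          (Φ.e_mem_low hF (Nat.lt_succ_self i.val))
        rwa [sub_add_cancel] at this
      · have := hu.1 i
        rwa [H.sub_left, Φ.ue hF, sub_zero] at this
    refine ⟨hb, fun i => ?_, ?_⟩
    · have := (he i).2.2 i le_rfl
      rwa [H.sub_left, Φ.ef, if_pos rfl, sub_eq_zero] at this
    · have := hu.2.1
      rw [H.sub_left, sub_eq_zero] at this
      rw [coeffB]
      exact (congrArg (fun s => s • Φ.u) this).trans (Φ.smul_uu hF)

theorem unip_pow (p : ℕ) [Fact p.Prime] [CharP F p] {g : Cfsg.SU n F q} (hg : g ∈ Φ.unip hF) :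
    g ^ p ^ (2 * m + 1) = 1 := by
  apply Subtype.ext
  apply Subtype.ext
  simpa using Φ.det_of_isUni hF g.2 ((Φ.mem_unip_iff hF).1 hg) p Fact.out inferInstance

theorem borel_normalizes {g y : Cfsg.SU n F q} (hg : g ∈ Φ.borel hF) (hy : y ∈ Φ.unip hF) :
    g * y * g⁻¹ ∈ Φ.unip hF := by
  have hi : g⁻¹ ∈ Φ.borel hF := (Φ.borel hF).inv_mem hg
  have hgy := Φ.bor_mul hF hg hy.1
  refine ⟨Φ.bor_mul hF hgy hi, fun i => ?_, ?_⟩
  · rw [Φ.coeffA_mul hF hgy hi, Φ.coeffA_mul hF hg hy.1, hy.2.1, mul_one, Φ.bor_inv_coeff hF hg]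
  · have h1 : Φ.coeffB g * Φ.coeffB g⁻¹ = Φ.coeffB 1 := by
      rw [← Φ.coeffB_mul hF hg hi, mul_inv_cancel]
    rw [Φ.coeffB_mul hF hgy hi, Φ.coeffB_mul hF hg hy.1, mul_right_comm, mul_smul, hy.2.2, h1,
      coeffB, suAct_one, Φ.smul_uu hF]

theorem eich_mem_unip (l : Fin m) {w : Fin n → F} {c : F} (h : Ok q (Φ.e l) w c)
    (hw : ∀ i : Fin m, i.val ≤ l.val → Cfsg.hermForm n F q (Φ.e i) w = 0) :
    eich hF h ∈ Φ.unip hF := by
  rw [Φ.mem_unip_iff hF]
  refine ⟨fun i => ?_, ?_⟩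
  · show suAct (eich hF h) (Φ.e i) - Φ.e i ∈ _
    rw [suAct_eich, Φ.ee, mul_zero, add_zero, zero_smul, sub_zero, add_sub_cancel_left]
    by_cases hi : i.val ≤ l.val
    · rw [hw i hi, zero_smul]; exact Submodule.zero_mem _
    · exact Submodule.smul_mem _ _ (Φ.e_mem_low hF (by omega))
  · show suAct (eich hF h) Φ.u - Φ.u ∈ _
    rw [suAct_eich, Φ.ue hF, mul_zero, add_zero, zero_smul, sub_zero, add_sub_cancel_left]
    exact Submodule.smul_mem _ _ (Φ.e_mem_low hF l.isLt)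

/-- What is moved into `low k` by the whole radical lies in `low (k + 1)`. -/
theorem mem_low_succ {k : ℕ} (hk : k < m) {x : Fin n → F}
    (hx : ∀ y ∈ Φ.unip hF, suAct y x - x ∈ Φ.low hF k) : x ∈ Φ.low hF (k + 1) := by
  have H := hermForm_isHerm hF n
  let κ : Fin m := ⟨k, hk⟩
  have hval : ∀ (l : Fin m) {w : Fin n → F} {c : F} (h : Ok q (Φ.e l) w c),
      suAct (eich hF h) x - x = (Cfsg.hermForm n F q x w + c * Cfsg.hermForm n F q x (Φ.e l)) • Φ.e l
        - Cfsg.hermForm n F q x (Φ.e l) • w := fun l w c h => by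
    rw [suAct_eich]; abel
  have he : ∀ l, Cfsg.hermForm n F q x (Φ.e l) = 0 := by
    intro l
    by_contra ha
    by_cases hl : k ≤ l.val
    · obtain ⟨δ, hδ0, hδ⟩ := exists_skew hF
      have ok : Ok q (Φ.e l) 0 δ :=
        ⟨Φ.ee l l, H.zero_left _, by rw [H.zero_left, hδ, add_neg_cancel, neg_zero]⟩
      have h1 := (hx _ (Φ.eich_mem_unip hF l ok fun i _ => H.zero_right hF _)).2.2 l hl
      rw [hval, H.zero_right hF, zero_add, smul_zero, sub_zero, H.smul_left, Φ.ef, if_pos rfl,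
        mul_one, mul_eq_zero] at h1
      exact h1.elim hδ0 ha
    · have ok : Ok q (Φ.e l) (Φ.e κ) 0 :=
        ⟨Φ.ee l l, Φ.ee κ l, by rw [Φ.ee, zero_pow_q hF, add_zero, neg_zero]⟩
      have h1 := (hx _ (Φ.eich_mem_unip hF l ok fun i _ => Φ.ee i κ)).2.2 κ le_rfl
      rw [hval, zero_mul, add_zero, H.sub_left, H.smul_left, H.smul_left, Φ.ef, Φ.ef,
        if_neg (fun e => hl (by simp [e, κ])), if_pos rfl, mul_zero, zero_sub, neg_eq_zero,
        mul_one] at h1
      exact ha h1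
  refine ⟨he, ?_, fun j hj => ?_⟩
  · rcases Φ.hu with h0 | h1
    · rw [h0]; exact H.zero_right hF x
    obtain ⟨c, hc⟩ := exists_trace_eq hF (c := (-1 : F)) (by rw [neg_pow_q hF, one_pow])
    have ok : Ok q (Φ.e κ) Φ.u c := ⟨Φ.ee κ κ, Φ.ue hF κ, by rw [h1]; exact hc⟩
    have h2 := (hx _ (Φ.eich_mem_unip hF κ ok fun i _ => Φ.eu i)).2.2 κ le_rfl
    rwa [hval, he, zero_smul, sub_zero, mul_zero, add_zero, H.smul_left, Φ.ef, if_pos rfl,
      mul_one] at h2
  · have ok : Ok q (Φ.e κ) (Φ.f j) 0 := ⟨Φ.ee κ κ, by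
      rw [Φ.fe hF, if_neg (fun e => by simp [e, κ] at hj)],
      by rw [Φ.ff, zero_pow_q hF, add_zero, neg_zero]⟩
    have h2 := (hx _ (Φ.eich_mem_unip hF κ ok fun i hi => by
      rw [Φ.ef, if_neg (fun e => by subst e; simp [κ] at hi; omega)])).2.2 κ le_rfl
    rwa [hval, he, zero_smul, sub_zero, mul_zero, add_zero, H.smul_left, Φ.ef, if_pos rfl,
      mul_one] at h2

theorem mem_borel_of_normalizes {g : Cfsg.SU n F q}
    (hg : g ∈ Subgroup.normalizer ((Φ.unip hF : Subgroup (Cfsg.SU n F q)) : Set (Cfsg.SU n F q))) :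
    g ∈ Φ.borel hF := by
  have H := hermForm_isHerm hF n
  have key : ∀ g : Cfsg.SU n F q,
      g ∈ Subgroup.normalizer ((Φ.unip hF : Subgroup (Cfsg.SU n F q)) : Set (Cfsg.SU n F q)) →
      ∀ k, k ≤ m → ∀ x ∈ Φ.low hF k, suAct g x ∈ Φ.low hF k := by
    intro g hg k
    induction k with
    | zero =>
      intro _ x hx
      rw [Φ.eq_zero_of_low_zero hF hx, suAct_zero]; exact Submodule.zero_mem _
    | succ k ih =>
      intro hk x hx
      refine Φ.mem_low_succ hF (by omega) fun y hy => ?_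
      have hy' := (Φ.mem_unip_iff hF).1 ((Subgroup.mem_normalizer_iff''.1 hg y).1 hy)
      have h1 : suAct (g⁻¹ * y * g) x - x ∈ Φ.low hF k := by
        have := Φ.mulVec_low hF (M := ((g⁻¹ * y * g : Cfsg.SU n F q) :
          Matrix.SpecialLinearGroup (Fin n) F).1 - 1) (S := Φ.low hF k) (fun i hi => by
          rw [Matrix.sub_mulVec, Matrix.one_mulVec]
          exact Φ.low_mono hF (by omega) (hy'.1 i)) hx
        rwa [Matrix.sub_mulVec, Matrix.one_mulVec] at this
      have := ih (by omega) _ h1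
      rwa [suAct_sub, ← suAct_mul, ← mul_assoc, ← mul_assoc, mul_inv_cancel, one_mul,
        suAct_mul] at this
  refine ⟨fun i => key g hg _ i.isLt _ (Φ.e_mem_low hF (Nat.lt_succ_self _)), fun i => ?_⟩
  have h1 := key g⁻¹ (inv_mem hg) m le_rfl _ (Φ.e_mem_low hF i.isLt)
  rw [← suAct_herm g⁻¹, suAct_inv_suAct]
  exact Φ.herm_low hF h1 fun l _ => Φ.ue hF l

/-- The radical is a maximal `p`-subgroup. -/
theorem eq_unip_of_isPGroup (p : ℕ) [Fact p.Prime] [CharP F p] {P : Subgroup (Cfsg.SU n F q)}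
    (hP : IsPGroup p P) (hle : Φ.unip hF ≤ P) : P = Φ.unip hF := by
  by_contra hne
  haveI : Group.IsNilpotent P := hP.isNilpotent
  have hne' : (Φ.unip hF).subgroupOf P ≠ ⊤ := by
    rw [ne_eq, Subgroup.subgroupOf_eq_top]
    exact fun h => hne (le_antisymm h hle)
  have hlt := normalizerCondition_of_isNilpotent ((Φ.unip hF).subgroupOf P) hne'.lt_top
  obtain ⟨⟨g, hgP⟩, hgN, hgU⟩ := SetLike.exists_of_lt hlt
  have hgB : g ∈ Φ.borel hF := by
    refine Φ.mem_borel_of_normalizes hF (Subgroup.mem_normalizer_iff.2 fun y => ?_)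
    by_cases hyP : y ∈ P
    · simpa [Subgroup.mem_subgroupOf] using Subgroup.mem_normalizer_iff.1 hgN ⟨y, hyP⟩
    · refine iff_of_false (fun h => hyP (hle h)) fun h => hyP ?_
      have := mul_mem (mul_mem (inv_mem hgP) (hle h)) hgP
      rwa [← mul_assoc, ← mul_assoc, inv_mul_cancel, one_mul, inv_mul_cancel_right] at this
  obtain ⟨k, hk⟩ := hP ⟨g, hgP⟩
  have hk' : g ^ p ^ k = 1 := congrArg Subtype.val hk
  apply hgU
  rw [Subgroup.mem_subgroupOf]
  obtain ⟨-, hA⟩ := Φ.bor_pow hF hgB (p ^ k)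
  have one_of : ∀ x : F, x ^ p ^ k = 1 → x = 1 := fun x hx => by
    have h2 : (x - 1) ^ p ^ k = 0 := by rw [sub_pow_char_pow, one_pow, hx, sub_self]
    exact sub_eq_zero.1 (pow_eq_zero_iff (pow_ne_zero _ (Fact.out : p.Prime).ne_zero) |>.1 h2)
  refine ⟨hgB, fun i => one_of _ ?_, ?_⟩
  · rw [← hA, hk', Φ.coeffA_one hF]
  · have hB := Φ.coeffB_pow hF hgB (p ^ k)
    rw [hk', coeffB, suAct_one, Φ.smul_uu hF] at hB
    rcases Φ.u_eq_zero_or hF _ hB.symm with h | h
    · rw [one_of _ h, one_smul]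
    · rw [h, smul_zero]

theorem isPGroup_unip (p : ℕ) [Fact p.Prime] [CharP F p] : IsPGroup p (Φ.unip hF) :=
  fun g => ⟨2 * m + 1, Subtype.ext (Φ.unip_pow hF p g.2)⟩

/-- An element fixing `e k` and fixing the earlier pairs. -/
theorem apply_e_eq {g : Cfsg.SU n F q} (hg : g ∈ Φ.unip hF) (k : Fin m)
    (hfix : ∀ i : Fin m, i.val < k.val → suAct g (Φ.f i) = Φ.f i) : suAct g (Φ.e k) = Φ.e k := by
  have H := hermForm_isHerm hF n
  have h1 := ((Φ.mem_unip_iff hF).1 hg).1 k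
  refine sub_eq_zero.1 (Φ.eq_zero_of_low_zero hF ⟨h1.1, h1.2.1, fun i _ => ?_⟩)
  by_cases hi : i.val < k.val
  · show Cfsg.hermForm n F q (suAct g (Φ.e k) - Φ.e k) (Φ.f i) = 0
    have e := suAct_herm g (Φ.e k) (Φ.f i)
    rw [hfix i hi] at e
    rw [H.sub_left, e, sub_self]
  · exact h1.2.2 i (by omega)

/-- An isometry fixing `e k` agrees with an Eichler element on `f k`. -/
theorem exists_eich_move {g : Cfsg.SU n F q} (k : Fin m) (hk : suAct g (Φ.e k) = Φ.e k) :
    ∃ (w : Fin n → F) (c : F) (h : Ok q (Φ.e k) w c),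
      suAct (eich hF h) (Φ.e k) = Φ.e k ∧ suAct (eich hF h) (Φ.f k) = suAct g (Φ.f k) ∧
      Cfsg.hermForm n F q (Φ.e k) w = 0 ∧
      ∀ x, Cfsg.hermForm n F q x (suAct g (Φ.f k) - Φ.f k) = 0 →
        Cfsg.hermForm n F q x (Φ.e k) = 0 → Cfsg.hermForm n F q x w = 0 := by
  have H := hermForm_isHerm hF n
  set v := suAct g (Φ.f k) - Φ.f k with hv
  have hve : Cfsg.hermForm n F q v (Φ.e k) = 0 := by
    have := suAct_herm g (Φ.f k) (Φ.e k)
    rw [hk] at this
    rw [hv, H.sub_left, this, sub_self]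
  have hev : Cfsg.hermForm n F q (Φ.e k) v = 0 := (H.eq_zero_symm hF).1 hve
  have hiso : Cfsg.hermForm n F q v (Φ.f k) + Cfsg.hermForm n F q v (Φ.f k) ^ q +
      Cfsg.hermForm n F q v v = 0 := by
    have := suAct_herm g (Φ.f k) (Φ.f k)
    rw [show suAct g (Φ.f k) = Φ.f k + v by rw [hv]; abel] at this
    simp only [H.add_left, H.add_right hF, Φ.ff, zero_add] at this
    rw [H.conj_symm v (Φ.f k)] at this
    linear_combination this
  set c := Cfsg.hermForm n F q v (Φ.f k)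
  refine ⟨-(v - c • Φ.e k), c, ⟨Φ.ee k k, ?_, ?_⟩, ?_, ?_, ?_, ?_⟩
  · rw [H.neg_left, H.sub_left, H.smul_left, hve, Φ.ee, mul_zero, sub_zero, neg_zero]
  · simp only [H.neg_left, H.neg_right hF, neg_neg, H.sub_left, H.sub_right hF, H.smul_left,
      H.smul_right, hve, hev, Φ.ee, mul_zero, sub_zero]
    linear_combination hiso
  · rw [suAct_eich, Φ.ee, H.neg_right hF, H.sub_right hF, H.smul_right, hev, Φ.ee]
    simp
  · have hfv : Cfsg.hermForm n F q (Φ.f k) v = c ^ q := H.conj_symm v (Φ.f k)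
    rw [suAct_eich, Φ.fe hF, if_pos rfl, H.neg_right hF, H.sub_right hF, H.smul_right, hfv,
      Φ.fe hF, if_pos rfl]
    rw [show suAct g (Φ.f k) = Φ.f k + v by rw [hv]; abel]
    simp only [mul_one, sub_self, neg_zero, zero_add, one_smul]
    abel
  · rw [H.neg_right hF, H.sub_right hF, H.smul_right, hev, Φ.ee, mul_zero, sub_zero, neg_zero]
  · intro x hx1 hx2
    rw [H.neg_right hF, H.sub_right hF, H.smul_right, hx1, hx2, mul_zero, sub_zero, neg_zero]

/-- The radical is generated by its Eichler elements. -/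
theorem unip_le {K : Subgroup (Cfsg.SU n F q)}
    (hK : ∀ (k : Fin m) (w : Fin n → F) (c : F) (h : Ok q (Φ.e k) w c),
      eich hF h ∈ Φ.unip hF → eich hF h ∈ K) : Φ.unip hF ≤ K := by
  have H := hermForm_isHerm hF n
  suffices main : ∀ j k, k + j = m → ∀ g ∈ Φ.unip hF,
      (∀ i : Fin m, i.val < k → suAct g (Φ.f i) = Φ.f i ∧ suAct g (Φ.e i) = Φ.e i) → g ∈ K from
    fun g hg => main m 0 (zero_add m) g hg fun i hi => absurd hi (Nat.not_lt_zero _)
  intro j
  induction j with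
  | zero =>
    intro k hk g hg hfix
    rw [add_zero] at hk
    subst hk
    suffices h1 : g = 1 by rw [h1]; exact one_mem _
    refine suAct_ext fun x => ?_
    have hu : suAct g Φ.u = Φ.u := by
      have hperp := Φ.rest (suAct g Φ.u) (fun i => ?_) (fun i => ?_)
      · rw [hperp]; exact hg.2.2
      · rw [← (hfix i i.isLt).2, suAct_herm, Φ.ue hF]
      · rw [← (hfix i i.isLt).1, suAct_herm, Φ.uf hF]
    rw [suAct_one, Φ.decomp hF x]
    simp only [suAct, Matrix.mulVec_add, Matrix.mulVec_sum, Matrix.mulVec_smul]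
    rw [show ((g : Matrix.SpecialLinearGroup (Fin n) F) : Matrix (Fin n) (Fin n) F) *ᵥ Φ.u = Φ.u
      from hu]
    congr 1
    congr 1 <;> refine Finset.sum_congr rfl fun i _ => ?_ <;> congr 1
    exacts [(hfix i i.isLt).2, (hfix i i.isLt).1]
  | succ j ih =>
    intro k hk g hg hfix
    let κ : Fin m := ⟨k, by omega⟩
    have hek := Φ.apply_e_eq hF hg κ fun i hi => (hfix i hi).1
    obtain ⟨w, c, hok, he1, hf1, hew, hw⟩ := Φ.exists_eich_move hF κ hek
    have hw' : ∀ i : Fin m, i.val < k →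
        Cfsg.hermForm n F q (Φ.e i) w = 0 ∧ Cfsg.hermForm n F q (Φ.f i) w = 0 := by
      intro i hi
      have hne : i ≠ κ := fun e => by simp [e, κ] at hi
      constructor
      · refine hw _ ?_ (Φ.ee i κ)
        rw [H.sub_right hF]
        conv_lhs => arg 1; rw [← (hfix i hi).2, suAct_herm]
        rw [sub_self]
      · refine hw _ ?_ (by rw [Φ.fe hF, if_neg hne])
        rw [H.sub_right hF]
        conv_lhs => arg 1; rw [← (hfix i hi).1, suAct_herm]
        rw [sub_self]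
    have hA : eich hF hok ∈ Φ.unip hF := by
      refine Φ.eich_mem_unip hF κ hok fun i hi => ?_
      by_cases he : i.val < k
      · exact (hw' i he).1
      · obtain rfl : i = κ := Fin.ext (by simp [κ] at hi ⊢; omega)
        exact hew
    have hrest := ih (k + 1) (by omega) ((eich hF hok)⁻¹ * g) (mul_mem (inv_mem hA) hg) fun i hi => by
      have hback : ∀ x, suAct (eich hF hok) x = suAct g x →
          suAct ((eich hF hok)⁻¹ * g) x = x := fun x hx => by
        rw [suAct_mul, ← hx, suAct_inv_suAct]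
      by_cases he : i.val < k
      · have hne : i ≠ κ := fun e => by simp [e, κ] at he
        refine ⟨hback _ ?_, hback _ ?_⟩
        · rw [(hfix i he).1, suAct_eich, (hw' i he).2, Φ.fe hF, if_neg hne]
          simp
        · rw [(hfix i he).2, suAct_eich, (hw' i he).1, Φ.ee]
          simp
      · obtain rfl : i = κ := Fin.ext (by simp [κ]; omega)
        exact ⟨hback _ hf1, hback _ (he1.trans hek.symm)⟩
    have := mul_mem (hK κ w c hok hA) hrest
    rwa [mul_inv_cancel_left] at this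

end Frame

end Cfsg.Agent.UFus
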