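import Cfsg.Agent.Lib.Linear.UnitaryBorel

/-!
# Radicals of two parabolic subgroups of `SU_n(q)`, fusion in the unipotent radical, the torus

* `Frame.pointRad`, `Frame.tiRad` : the radicals at a point and at a maximal isotropic subspace
* `Frame.centralizer_pointRad`, `Frame.centralizer_tiRad` : they are self-centralizing up to centre
* `Frame.unip_le_of_closed` : the maximal unipotent subgroup has no proper closed subgroup
* `Frame.borel_le` : the Borel subgroup is generated by the radical and products of `p`-elements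
  normalizing one of the two radicals
-/

set_option autoImplicit false

namespace Cfsg.Agent.UFus

open scoped Matrix
open Cfsg.Agent.Unitary

variable {F : Type*} [Field F] [Fintype F] {q n m : ℕ}

theorem mem_normalizer_of_conj {G : Type*} [Group G] [Finite G] {R : Subgroup G} {g : G}
    (h : ∀ r ∈ R, g * r * g⁻¹ ∈ R) : g ∈ Subgroup.normalizer (R : Set G) := by
  refine Subgroup.mem_normalizer_iff_map_conj_eq.2 (Subgroup.eq_of_le_of_card_ge ?_ ?_)
  · rintro _ ⟨r, hr, rfl⟩; exact h r hr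
  · rw [Subgroup.card_map_of_injective (MulAut.conj g).injective]

/-- The subgroup generated by the `p`-elements of the normalizer. -/
def pNorm {G : Type*} [Group G] (p : ℕ) (R : Subgroup G) : Subgroup G :=
  Subgroup.closure {x | x ∈ Subgroup.normalizer (R : Set G) ∧ ∃ k : ℕ, x ^ p ^ k = 1}

variable (hF : Fintype.card F = q ^ 2)
include hF

theorem eich_mem_pNorm (p : ℕ) [CharP F p] {R : Subgroup (Cfsg.SU n F q)} {v w : Fin n → F} {c : F}
    (h : Ok q v w c) (hR : eich hF h ∈ Subgroup.normalizer (R : Set (Cfsg.SU n F q))) :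
    eich hF h ∈ pNorm p R :=
  Subgroup.subset_closure ⟨hR, 2, by rw [sq]; exact eich_pow_sq hF h p⟩

/-- All Eichler elements at one isotropic vector. -/
def eichGroup (v : Fin n → F) (hv : Cfsg.hermForm n F q v v = 0) : Subgroup (Cfsg.SU n F q) where
  carrier := {g | ∃ (w : Fin n → F) (c : F) (h : Ok q v w c), g = eich hF h}
  one_mem' := ⟨0, 0, ok_zero hF hv, suAct_ext fun x => by
    rw [suAct_one, suAct_eich, (hermForm_isHerm hF n).zero_right hF]; simp⟩
  mul_mem' := by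
    rintro _ _ ⟨w, c, h, rfl⟩ ⟨w', c', h', rfl⟩
    exact ⟨_, _, ok_add hF h h', eich_mul hF h h'⟩
  inv_mem' := by
    rintro _ ⟨w, c, h, rfl⟩
    exact ⟨_, _, ok_neg hF h, eich_inv hF h⟩

theorem eichGroup_conj {v : Fin n → F} {hv : Cfsg.hermForm n F q v v = 0} {g : Cfsg.SU n F q}
    {l : F} (hg : suAct g v = l • v) {r : Cfsg.SU n F q} (hr : r ∈ eichGroup hF v hv) :
    g * r * g⁻¹ ∈ eichGroup hF v hv := by
  obtain ⟨w, c, h, rfl⟩ := hr
  have h1 : Ok q (l • v) (suAct g w) c := hg ▸ ok_conj hF h g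
  have h2 : Ok q v (l ^ q • suAct g w) (c * l ^ (q + 1)) := by
    have H := hermForm_isHerm hF n
    refine ⟨hv, ?_, ?_⟩
    · have := h1.orth
      rw [H.smul_right] at this
      rw [H.smul_left, this]
    · rw [mul_pow, pow_q_succ_fixed hF, H.smul_left, H.smul_right, pow_q_pow_q hF]
      linear_combination (l ^ (q + 1)) * h1.trace
  refine ⟨_, _, h2, ?_⟩
  rw [eich_conj hF h, eich_congr hF (ok_conj hF h g) h1 hg rfl rfl, eich_smul_left hF h1 h2]

/-- A central element from a root of unity. -/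
theorem exists_central {g : Cfsg.SU n F q} (hn : 2 ≤ n) {l : F} (hl : l ^ (q + 1) = 1)
    (hdet : (l⁻¹ • ((g : Matrix.SpecialLinearGroup (Fin n) F) : Matrix (Fin n) (Fin n) F)).det = 1) :
    ∃ z ∈ Subgroup.center (Cfsg.SU n F q), ∀ x, suAct (z * g) x = l⁻¹ • suAct g x := by
  have hs : IsUnitary q (Matrix.scalar (Fin n) l⁻¹) := by
    rw [Matrix.scalar_apply]
    exact isUnitary_diagonal hF fun _ => inv_pow_succ l hl
  have hd : (Matrix.scalar (Fin n) l⁻¹).det = 1 := by
    rw [Matrix.det_smul, (g : Matrix.SpecialLinearGroup (Fin n) F).2, mul_one] at hdet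
    simpa using hdet
  refine ⟨suOfUnitary _ hs hd, (mem_center_SU_iff hF hn _).2 ⟨l⁻¹, rfl⟩, fun x => ?_⟩
  rw [suAct_mul]
  show Matrix.scalar (Fin n) l⁻¹ *ᵥ suAct g x = _
  ext i
  simp [Matrix.mulVec_diagonal]

theorem smul_mulVec_unitary {g : Cfsg.SU n F q} {l : F} (hl : l ^ (q + 1) = 1) :
    IsUnitary q (l⁻¹ • ((g : Matrix.SpecialLinearGroup (Fin n) F) : Matrix (Fin n) (Fin n) F)) := by
  intro x y
  have H := hermForm_isHerm hF n
  rw [Matrix.smul_mulVec, Matrix.smul_mulVec, H.smul_left, H.smul_right, ← mul_assoc, ← pow_succ',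
    inv_pow_succ l hl, one_mul]
  exact suAct_herm g x y

namespace Frame

variable (Φ : Frame n F q m)

/-- The radical at the first point. -/
def pointRad (z : Fin m) : Subgroup (Cfsg.SU n F q) := eichGroup hF (Φ.e z) (Φ.ee z z)

theorem pointRad_le {z : Fin m} (hz : z.val = 0) : Φ.pointRad hF z ≤ Φ.unip hF := by
  rintro _ ⟨w, c, h, rfl⟩
  refine Φ.eich_mem_unip hF z h fun i hi => ?_
  obtain rfl : i = z := Fin.ext (by omega)
  exact ((hermForm_isHerm hF n).eq_zero_symm hF).1 h.orth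

/-- The radical at the maximal isotropic subspace. -/
def tiRad : Subgroup (Cfsg.SU n F q) where
  carrier := {g | g ∈ Φ.unip hF ∧ ∀ i, suAct g (Φ.e i) = Φ.e i}
  one_mem' := ⟨one_mem _, fun i => suAct_one _⟩
  mul_mem' {a b} ha hb := ⟨mul_mem ha.1 hb.1, fun i => by rw [suAct_mul, hb.2, ha.2]⟩
  inv_mem' {a} ha := ⟨inv_mem ha.1, fun i => by
    conv_lhs => rw [← ha.2 i]
    rw [suAct_inv_suAct]⟩

theorem tiRad_le : Φ.tiRad hF ≤ Φ.unip hF := fun _ h => h.1

theorem stab_low {g : Cfsg.SU n F q} (hg : ∀ i, suAct g (Φ.e i) ∈ Φ.low hF m) {x : Fin n → F}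
    (hx : x ∈ Φ.low hF m) : suAct g x ∈ Φ.low hF m :=
  Φ.mulVec_low hF (fun i _ => hg i) hx

theorem stab_inv {g : Cfsg.SU n F q} (hg : ∀ i, suAct g (Φ.e i) ∈ Φ.low hF m) (i : Fin m) :
    suAct g⁻¹ (Φ.e i) ∈ Φ.low hF m := by
  have key : ∀ k : ℕ, suAct (g ^ k) (Φ.e i) ∈ Φ.low hF m := by
    intro k
    induction k with
    | zero => rw [pow_zero, suAct_one]; exact Φ.e_mem_low hF i.isLt
    | succ k ih => rw [pow_succ', suAct_mul]; exact Φ.stab_low hF hg ih
  rw [show g⁻¹ = g ^ (orderOf g - 1) by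
    rw [inv_eq_iff_mul_eq_one, ← pow_succ', Nat.sub_add_cancel (orderOf_pos g), pow_orderOf_eq_one]]
  exact key _

theorem tiRad_conj {g r : Cfsg.SU n F q} (hg : ∀ i, suAct g (Φ.e i) ∈ Φ.low hF m)
    (hr : r ∈ Φ.tiRad hF) : g * r * g⁻¹ ∈ Φ.tiRad hF := by
  have H := hermForm_isHerm hF n
  have hfix : ∀ x ∈ Φ.low hF m, suAct r x = x := fun x hx => by
    rw [Φ.low_eq hF hx]
    simp only [suAct, Matrix.mulVec_sum, Matrix.mulVec_smul]
    exact Finset.sum_congr rfl fun i _ => by rw [show _ *ᵥ Φ.e i = Φ.e i from hr.2 i]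
  have he : ∀ i, suAct (g * r * g⁻¹) (Φ.e i) = Φ.e i := fun i => by
    rw [suAct_mul, suAct_mul, hfix _ (Φ.stab_inv hF hg i), suAct_suAct_inv]
  refine ⟨(Φ.mem_unip_iff hF).2 ⟨fun i => ?_, ?_⟩, he⟩
  · show suAct (g * r * g⁻¹) (Φ.e i) - Φ.e i ∈ _
    rw [he, sub_self]; exact Submodule.zero_mem _
  · show suAct (g * r * g⁻¹) Φ.u - Φ.u ∈ _
    have hperp : ∀ i, Cfsg.hermForm n F q (suAct g⁻¹ Φ.u) (Φ.e i) = 0 := fun i => by
      rw [← suAct_herm g, suAct_suAct_inv]
      exact Φ.herm_low hF (hg i) fun l _ => Φ.ue hF l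
    have hd := Φ.perp_decomp hF hperp
    generalize hs : Cfsg.hermForm n F q (suAct g⁻¹ Φ.u) Φ.u = s at hd
    have h1 := hfix _ hd
    rw [suAct_sub, suAct_smul, sub_eq_iff_eq_add] at h1
    have h2 : suAct (g * r * g⁻¹) Φ.u - Φ.u = s • suAct g (suAct r Φ.u - Φ.u) := by
      rw [suAct_mul, suAct_mul, h1, suAct_add, suAct_sub, suAct_smul, suAct_suAct_inv, suAct_smul,
        suAct_sub, smul_sub]
      abel
    rw [h2]
    exact Submodule.smul_mem _ _ (Φ.stab_low hF hg ((Φ.mem_unip_iff hF).1 hr.1).2)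

theorem transvection_mem_tiRad {v : Fin n → F} {c : F} (hv : v ∈ Φ.low hF m) (h : Ok q v 0 c) :
    eich hF h ∈ Φ.tiRad hF := by
  have H := hermForm_isHerm hF n
  have he : ∀ i, suAct (eich hF h) (Φ.e i) = Φ.e i := fun i => by
    rw [suAct_eich, H.zero_right hF, Φ.herm_low hF hv fun l _ => Φ.ee i l]; simp
  refine ⟨(Φ.mem_unip_iff hF).2 ⟨fun i => ?_, ?_⟩, he⟩
  · show suAct (eich hF h) (Φ.e i) - Φ.e i ∈ _
    rw [he, sub_self]; exact Submodule.zero_mem _
  · show suAct (eich hF h) Φ.u - Φ.u ∈ _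
    rw [suAct_eich, H.zero_right hF, Φ.herm_low hF hv fun l _ => Φ.ue hF l]
    simp

theorem centralizer_tiRad (hn : 2 ≤ n) (z : Fin m) {y : Cfsg.SU n F q}
    (hy : ∀ r ∈ Φ.tiRad hF, y * r * y⁻¹ = r) :
    ∃ c ∈ Subgroup.center (Cfsg.SU n F q), c * y ∈ Φ.tiRad hF := by
  classical
  have H := hermForm_isHerm hF n
  obtain ⟨δ, hδ0, hδ⟩ := exists_skew hF
  have hsk : δ + δ ^ q = 0 := by rw [hδ, add_neg_cancel]
  have hline : ∀ v x : Fin n → F, v ∈ Φ.low hF m → Cfsg.hermForm n F q x v = 1 →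
      Cfsg.hermForm n F q x (suAct y v) • suAct y v = v := by
    intro v x hv hx
    have hvv : Cfsg.hermForm n F q v v = 0 := Φ.herm_low hF hv fun l _ => hv.1 l
    have ok : Ok q v 0 δ := ⟨hvv, H.zero_left v, by rw [H.zero_left, hsk, neg_zero]⟩
    have := congrArg (fun g => suAct g x) (hy _ (Φ.transvection_mem_tiRad hF hv ok))
    simp only [eich_conj, suAct_eich, suAct_zero, H.zero_right hF, zero_add, smul_zero, sub_zero,
      add_right_inj, hx, mul_one, mul_smul] at this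
    exact smul_right_injective _ hδ0 this
  have hne : ∀ v : Fin n → F, v ≠ 0 → ∀ s : F, s • suAct y v = v → suAct y v = s⁻¹ • v := by
    intro v hv s hs
    have hs0 : s ≠ 0 := fun h => hv (by rw [← hs, h, zero_smul])
    conv_rhs => rw [← hs]
    rw [inv_smul_smul₀ hs0]
  have heig : ∀ i, ∃ l : F, suAct y (Φ.e i) = l • Φ.e i := fun i => by
    have hfe : Cfsg.hermForm n F q (Φ.f i) (Φ.e i) = 1 := by rw [Φ.fe hF, if_pos rfl]
    refine ⟨_, hne _ (fun h => ?_) _ (hline _ _ (Φ.e_mem_low hF i.isLt) hfe)⟩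
    rw [h, H.zero_right hF] at hfe
    exact zero_ne_one hfe
  choose lam hlam using heig
  have hall : ∀ i, lam i = lam z := by
    intro i
    by_cases hiz : i = z
    · rw [hiz]
    have hfe : Cfsg.hermForm n F q (Φ.f i) (Φ.e i + Φ.e z) = 1 := by
      rw [H.add_right hF, Φ.fe hF, Φ.fe hF, if_pos rfl, if_neg hiz, add_zero]
    have hs := hline _ _ (Submodule.add_mem _ (Φ.e_mem_low hF i.isLt) (Φ.e_mem_low hF z.isLt)) hfe
    generalize Cfsg.hermForm n F q (Φ.f i) (suAct y (Φ.e i + Φ.e z)) = s at hs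
    rw [suAct_add, hlam, hlam] at hs
    have e1 := congrArg (fun x => Cfsg.hermForm n F q x (Φ.f i)) hs
    have e2 := congrArg (fun x => Cfsg.hermForm n F q x (Φ.f z)) hs
    simp [H.smul_left, H.add_left, Φ.ef, hiz, Ne.symm hiz] at e1 e2
    exact mul_left_cancel₀ (left_ne_zero_of_mul_eq_one e1) (e1.trans e2.symm)
  set l := lam z
  have hl : l ^ (q + 1) = 1 := by
    have hfe : Cfsg.hermForm n F q (Φ.f z) (Φ.e z) = 1 := by rw [Φ.fe hF, if_pos rfl]
    have h := hline _ _ (Φ.e_mem_low hF z.isLt) hfe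
    rw [hlam, H.smul_right, hfe, mul_one, smul_smul, ← pow_succ] at h
    have := congrArg (fun x => Cfsg.hermForm n F q (Φ.f z) x) h
    simp only [H.smul_right, hfe, mul_one] at this
    rw [pow_q_succ_fixed hF] at this
    exact this
  set M := l⁻¹ • ((y : Matrix.SpecialLinearGroup (Fin n) F) : Matrix (Fin n) (Fin n) F) with hM
  have hMu : IsUnitary q M := smul_mulVec_unitary hF hl
  have hl0 : l ≠ 0 := fun h => by simp [h] at hl
  have hMe : ∀ i, M *ᵥ Φ.e i = Φ.e i := fun i => by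
    rw [hM, Matrix.smul_mulVec, show _ *ᵥ Φ.e i = lam i • Φ.e i from hlam i, hall, inv_smul_smul₀ hl0]
  have hMperp : ∀ i, Cfsg.hermForm n F q (M *ᵥ Φ.u) (Φ.e i) = 0 := fun i => by
    conv_lhs => arg 5; rw [← hMe i]
    rw [hMu]; exact Φ.ue hF i
  have hMuni : Φ.IsUni hF M := by
    refine ⟨fun i => by rw [hMe, sub_self]; exact Submodule.zero_mem _, ?_⟩
    have hd := Φ.perp_decomp hF hMperp
    rcases Φ.hu with h0 | h1
    · rw [h0, Matrix.mulVec_zero, sub_zero]; exact Submodule.zero_mem _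
    suffices hb : Cfsg.hermForm n F q (M *ᵥ Φ.u) Φ.u = 1 by rwa [hb, one_smul] at hd
    obtain ⟨c, hc⟩ := exists_trace_eq hF (c := (-1 : F)) (by rw [neg_pow_q hF, one_pow])
    have ok : Ok q (Φ.e z) Φ.u c := ⟨Φ.ee z z, Φ.ue hF z, by rw [h1]; exact hc⟩
    have hmem : eich hF ok ∈ Φ.tiRad hF := by
      have he : ∀ i, suAct (eich hF ok) (Φ.e i) = Φ.e i := fun i => by
        rw [suAct_eich, Φ.eu, Φ.ee]; simp
      refine ⟨(Φ.mem_unip_iff hF).2 ⟨fun i => ?_, ?_⟩, he⟩
      · show suAct (eich hF ok) (Φ.e i) - Φ.e i ∈ _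
        rw [he, sub_self]; exact Submodule.zero_mem _
      · show suAct (eich hF ok) Φ.u - Φ.u ∈ _
        rw [suAct_eich, h1, Φ.ue hF, mul_zero, add_zero, one_smul, zero_smul, sub_zero,
          add_sub_cancel_left]
        exact Φ.e_mem_low hF z.isLt
    have hconj := congrArg (fun g => Cfsg.hermForm n F q (suAct g Φ.u) (Φ.f z)) (hy _ hmem)
    simp only [eich_conj, suAct_eich, hlam z, H.smul_right, Φ.ue hF, h1, mul_zero, add_zero,
      zero_smul, sub_zero, H.add_left, H.smul_left, Φ.uf hF, Φ.ef, ↓reduceIte, mul_one, zero_add]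
      at hconj
    have h3 : Cfsg.hermForm n F q (suAct y Φ.u) Φ.u = l := by
      rw [H.conj_symm Φ.u (suAct y Φ.u), ← one_mul ((Cfsg.hermForm n F q Φ.u (suAct y Φ.u)) ^ q)]
      have h4 := congrArg (fun x : F => x ^ q) hconj
      simp only [mul_pow, one_pow] at h4
      calc 1 * Cfsg.hermForm n F q Φ.u (suAct y Φ.u) ^ q
          = l ^ (q + 1) * Cfsg.hermForm n F q Φ.u (suAct y Φ.u) ^ q := by rw [hl]
        _ = l * (Cfsg.hermForm n F q Φ.u (suAct y Φ.u) ^ q * l ^ q) := by ring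
        _ = l := by rw [h4, mul_one]
    rw [hM, Matrix.smul_mulVec, H.smul_left]
    show l⁻¹ * Cfsg.hermForm n F q (suAct y Φ.u) Φ.u = 1
    rw [h3, inv_mul_cancel₀ hl0]
  obtain ⟨c, hc, hcy⟩ := exists_central hF (g := y) hn hl (Φ.uni_det hF hMu hMuni)
  have hact : ∀ x, suAct (c * y) x = M *ᵥ x := fun x => by
    rw [hcy, hM, Matrix.smul_mulVec]; rfl
  refine ⟨c, hc, (Φ.mem_unip_iff hF).2 ⟨fun i => ?_, ?_⟩, fun i => by rw [hact, hMe]⟩
  · show suAct (c * y) (Φ.e i) - _ ∈ _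
    rw [hact]; exact hMuni.1 i
  · show suAct (c * y) Φ.u - _ ∈ _
    rw [hact]; exact hMuni.2

theorem centralizer_pointRad (hn : 2 ≤ n) {z : Fin m} (hz : z.val = 0) {y : Cfsg.SU n F q}
    (hy : ∀ r ∈ Φ.pointRad hF z, y * r * y⁻¹ = r) :
    ∃ c ∈ Subgroup.center (Cfsg.SU n F q), c * y ∈ Φ.pointRad hF z := by
  classical
  have H := hermForm_isHerm hF n
  obtain ⟨δ, hδ0, hδ⟩ := exists_skew hF
  have hfe : Cfsg.hermForm n F q (Φ.f z) (Φ.e z) = 1 := by rw [Φ.fe hF, if_pos rfl]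
  have ok0 : Ok q (Φ.e z) 0 δ :=
    ⟨Φ.ee z z, H.zero_left _, by rw [H.zero_left, hδ, add_neg_cancel, neg_zero]⟩
  have h := congrArg (fun g => suAct g (Φ.f z)) (hy _ ⟨_, _, ok0, rfl⟩)
  simp only [eich_conj, suAct_eich, suAct_zero, H.zero_right hF, zero_add, smul_zero, sub_zero,
    add_right_inj, hfe, mul_one, mul_smul] at h
  have h' := smul_right_injective _ hδ0 h
  obtain ⟨l, hye⟩ : ∃ l : F, suAct y (Φ.e z) = l • Φ.e z := by
    refine ⟨(Cfsg.hermForm n F q (Φ.f z) (suAct y (Φ.e z)))⁻¹,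
      (inv_smul_smul₀ (fun h0 => ?_) _).symm.trans (congrArg _ h')⟩
    rw [h0, zero_smul] at h'
    rw [← h', H.zero_right hF] at hfe
    exact zero_ne_one hfe
  have hl : l ^ (q + 1) = 1 := by
    rw [hye, H.smul_right, hfe, mul_one, smul_smul] at h'
    have := congrArg (fun x => Cfsg.hermForm n F q (Φ.f z) x) h'
    simp only [H.smul_right, hfe, mul_one, ← pow_succ] at this
    rw [pow_q_succ_fixed hF] at this
    exact this
  have hl0 : l ≠ 0 := fun h => by simp [h] at hl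
  set M := l⁻¹ • ((y : Matrix.SpecialLinearGroup (Fin n) F) : Matrix (Fin n) (Fin n) F) with hM
  have hMu : IsUnitary q M := smul_mulVec_unitary hF hl
  have hMapply : ∀ x, M *ᵥ x = l⁻¹ • suAct y x := fun x => Matrix.smul_mulVec _ _ _
  have hMe : M *ᵥ Φ.e z = Φ.e z := by rw [hMapply, hye, inv_smul_smul₀ hl0]
  -- on the hyperplane the map moves only along `e z`
  have hperp : ∀ x, Cfsg.hermForm n F q x (Φ.e z) = 0 →
      ∃ a : F, M *ᵥ x - x = a • Φ.e z := by
    intro x hx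
    have hd : ∀ w, Cfsg.hermForm n F q w (Φ.e z) = 0 →
        Cfsg.hermForm n F q (M *ᵥ x - x) w = 0 := by
      intro w hw
      obtain ⟨c, hc⟩ := exists_trace_eq hF (c := -Cfsg.hermForm n F q w w)
        (by rw [neg_pow_q hF, H.self_fixed])
      have ok : Ok q (Φ.e z) w c := ⟨Φ.ee z z, hw, hc⟩
      have hyx : Cfsg.hermForm n F q (suAct y x) (suAct y (Φ.e z)) = 0 := by rw [suAct_herm, hx]
      have hyx' : Cfsg.hermForm n F q (suAct y x) (Φ.e z) = 0 := by
        rw [hye, H.smul_right, mul_eq_zero] at hyx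
        exact hyx.resolve_left (pow_ne_zero _ hl0)
      have e := congrArg (fun g => Cfsg.hermForm n F q (suAct g (suAct y x)) (Φ.f z))
        (hy _ ⟨_, _, ok, rfl⟩)
      simp only [eich_conj, suAct_eich, suAct_herm, hx, hye, H.smul_right, mul_zero, add_zero, zero_smul,
        sub_zero, hyx', H.add_left, H.smul_left, Φ.ef, ↓reduceIte, mul_one, add_right_inj] at e
      rw [H.sub_left, hMapply, H.smul_left, ← e, mul_comm (Cfsg.hermForm n F q x w) l, ← mul_assoc,
        inv_mul_cancel₀ hl0, one_mul, sub_self]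
    refine ⟨Cfsg.hermForm n F q (M *ᵥ x - x) (Φ.f z), ?_⟩
    conv_lhs => rw [Φ.decomp hF (M *ᵥ x - x)]
    simp only [hd _ (Φ.ue hF z), hd _ (Φ.ee _ z), zero_smul, Finset.sum_const_zero, add_zero]
    rw [Finset.sum_eq_single z]
    · intro i _ hi
      rw [hd _ (by rw [Φ.fe hF, if_neg hi]), zero_smul]
    · simp
  have hMuni : Φ.IsUni hF M := by
    refine ⟨fun i => ?_, ?_⟩
    · by_cases hi : i = z
      · subst hi; rw [hMe, sub_self]; exact Submodule.zero_mem _
      · obtain ⟨a, ha⟩ := hperp _ (Φ.ee i z)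
        rw [ha]
        refine Submodule.smul_mem _ _ (Φ.e_mem_low hF ?_)
        have : i.val ≠ z.val := fun e => hi (Fin.ext e)
        omega
    · obtain ⟨a, ha⟩ := hperp _ (Φ.ue hF z)
      rw [ha]
      exact Submodule.smul_mem _ _ (Φ.e_mem_low hF z.isLt)
  obtain ⟨c, hc, hcy⟩ := exists_central hF (g := y) hn hl (Φ.uni_det hF hMu hMuni)
  refine ⟨c, hc, ?_⟩
  have hact : ∀ x, suAct (c * y) x = M *ᵥ x := fun x => by rw [hcy, hMapply]
  have hfix : suAct (c * y) (Φ.e z) = Φ.e z := by rw [hact, hMe]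
  obtain ⟨w, d, ok, he1, hf1, -, -⟩ := Φ.exists_eich_move hF z hfix
  refine ⟨w, d, ok, suAct_ext fun x => ?_⟩
  set s := Cfsg.hermForm n F q x (Φ.e z)
  have hx' : Cfsg.hermForm n F q (x - s • Φ.f z) (Φ.e z) = 0 := by
    rw [H.sub_left, H.smul_left, hfe, mul_one, sub_self]
  have hA : suAct (c * y) (x - s • Φ.f z) = suAct (eich hF ok) (x - s • Φ.f z) := by
    obtain ⟨a, ha⟩ := hperp _ hx'
    have e1 : suAct (c * y) (x - s • Φ.f z) = (x - s • Φ.f z) + a • Φ.e z := by
      rw [hact, ← ha]; abel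
    obtain ⟨b, e2⟩ : ∃ b : F,
        suAct (eich hF ok) (x - s • Φ.f z) = (x - s • Φ.f z) + b • Φ.e z :=
      ⟨_, by rw [suAct_eich, hx', mul_zero, add_zero, zero_smul, sub_zero]⟩
    rw [e1, e2]
    congr 2
    have f1 := suAct_herm (c * y) (x - s • Φ.f z) (Φ.f z)
    have f2 := suAct_herm (eich hF ok) (x - s • Φ.f z) (Φ.f z)
    rw [hf1] at f2
    rw [e1] at f1
    rw [e2] at f2
    have hk : Cfsg.hermForm n F q (Φ.e z) (suAct (c * y) (Φ.f z)) = 1 := by
      conv_lhs => arg 4; rw [← hfix]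
      rw [suAct_herm, Φ.ef, if_pos rfl]
    rw [H.add_left, H.smul_left, hk, mul_one] at f1 f2
    linear_combination f1 - f2
  rw [suAct_sub, suAct_sub, suAct_smul, suAct_smul, hf1, sub_left_inj] at hA
  exact hA

/-- The maximal unipotent subgroup has no proper non-trivial closed subgroup. -/
theorem unip_le_of_closed (hn : 3 ≤ n) {z j : Fin m} (hz : z.val = 0) (hjz : j ≠ z)
    {T : Subgroup (Cfsg.SU n F q)} (hT : T ≤ Φ.unip hF) {x : Cfsg.SU n F q} (hx : x ∈ T)
    (hx1 : x ≠ 1)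
    (hcl : ∀ y ∈ T, ∀ g : Cfsg.SU n F q, g * y * g⁻¹ ∈ Φ.unip hF → g * y * g⁻¹ ∈ T) :
    Φ.unip hF ≤ T := by
  classical
  have H := hermForm_isHerm hF n
  have hfe : ∀ i, Cfsg.hermForm n F q (Φ.f i) (Φ.e i) = 1 := fun i => by rw [Φ.fe hF, if_pos rfl]
  have hne : ∀ i, Φ.e i ≠ 0 := fun i h => by
    have := hfe i; rw [h, H.zero_right hF] at this; exact zero_ne_one this
  have hfix : ∀ g ∈ Φ.unip hF, suAct g (Φ.e z) = (1 : F) • Φ.e z := fun g hg => by
    rw [one_smul, Φ.apply_e_eq hF hg z fun i hi => absurd hi (by omega)]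
  have hRU := Φ.pointRad_le hF hz
  -- a non-trivial element at the first point
  obtain ⟨_, ⟨w, c, ok, rfl⟩, hrT, hr1⟩ : ∃ r ∈ Φ.pointRad hF z, r ∈ T ∧ r ≠ 1 := by
    by_cases hc : ∀ r ∈ Φ.pointRad hF z, x * r * x⁻¹ = r
    · obtain ⟨c, hc, hcx⟩ := Φ.centralizer_pointRad hF (by omega) hz hc
      have hcU : c ∈ Φ.unip hF := by
        have := mul_mem (hRU hcx) (inv_mem (hT hx))
        rwa [mul_inv_cancel_right] at this
      obtain ⟨s, -, -, hs⟩ := center_SU_scalar hF (by omega) hc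
      have hc1 : c = 1 := by
        have h1 := hfix c hcU
        have h2 : ∀ v, suAct c v = s • v := fun v => by
          ext i
          simp [suAct, hs, Matrix.mulVec_diagonal]
        rw [h2] at h1
        have hs1 : s = 1 := smul_left_injective _ (hne z) h1
        exact suAct_ext fun v => by rw [h2, hs1, one_smul, suAct_one]
      rw [hc1, one_mul] at hcx
      exact ⟨x, hcx, hx, hx1⟩
    · simp only [not_forall] at hc
      obtain ⟨r, hr, hne'⟩ := hc
      refine ⟨x * r * x⁻¹ * r⁻¹,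
        mul_mem (eichGroup_conj hF (hfix x (hT hx)) hr) (inv_mem hr), ?_, fun e => hne' (mul_inv_eq_one.1 e)⟩
      have h1 := hcl _ (inv_mem hx) r (mul_mem (mul_mem (hRU hr) (inv_mem (hT hx))) (inv_mem (hRU hr)))
      have := mul_mem hx h1
      rwa [← mul_assoc, ← mul_assoc] at this
  -- a transvection
  obtain ⟨d, okd, hdT, hd0⟩ : ∃ (d : F) (h : Ok q (Φ.e z) 0 d), eich hF h ∈ T ∧ d ≠ 0 := by
    obtain ⟨w0, c', hok, hT', hR', hwf⟩ : ∃ (w0 : Fin n → F) (c' : F) (h : Ok q (Φ.e z) w0 c'),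
        eich hF h ∈ T ∧ eich hF h ≠ 1 ∧ Cfsg.hermForm n F q w0 (Φ.f z) = 0 := by
      refine ⟨_, _, ok_shift hF ok (-Cfsg.hermForm n F q w (Φ.f z)), ?_, ?_, ?_⟩
      · rw [← eich_shift hF ok _]; exact hrT
      · rw [← eich_shift hF ok _]; exact hr1
      · rw [H.add_left, H.smul_left, Φ.ef, if_pos rfl]; ring
    by_cases h0 : w0 = 0
    · subst h0
      refine ⟨c', hok, hT', fun hc' => hR' (suAct_ext fun v => ?_)⟩
      rw [suAct_eich, suAct_one, hc', H.zero_right hF]
      simp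
    obtain ⟨y, hy0, hyw⟩ : ∃ y, Cfsg.hermForm n F q y (Φ.e z) = 0 ∧
        Cfsg.hermForm n F q w0 y ≠ 0 := by
      by_contra! hc
      apply h0
      rw [Φ.decomp hF w0]
      simp only [hc _ (Φ.ee _ z), hc _ (Φ.ue hF z), zero_smul, Finset.sum_const_zero, add_zero]
      refine Finset.sum_eq_zero fun i _ => ?_
      by_cases hi : i = z
      · rw [hi, hwf, zero_smul]
      · rw [hc _ (by rw [Φ.fe hF, if_neg hi]), zero_smul]
    obtain ⟨a, ha⟩ : ∃ a : F, a ^ q ≠ a := by
      by_contra hc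
      simp only [not_exists, not_not] at hc
      exact conjHom_ne_id hF (RingHom.ext hc)
    set μ := (a / Cfsg.hermForm n F q w0 y) ^ q with hμ
    obtain ⟨c2, hc2⟩ := exists_trace_eq hF (c := -Cfsg.hermForm n F q (μ • y) (μ • y))
      (by rw [neg_pow_q hF, H.self_fixed])
    have hok2 : Ok q (Φ.e z) (μ • y) c2 :=
      ⟨Φ.ee z z, by rw [H.smul_left, hy0, mul_zero], hc2⟩
    have hwy : Cfsg.hermForm n F q w0 (μ • y) = a := by
      rw [H.smul_right, hμ, pow_q_pow_q hF, div_mul_cancel₀ _ hyw]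
    have hyw' : Cfsg.hermForm n F q (μ • y) w0 = a ^ q := by rw [H.conj_symm w0, hwy]
    refine ⟨a - a ^ q, ⟨Φ.ee z z, H.zero_left _, by
      rw [sub_pow_q hF, pow_q_pow_q hF, H.zero_left]; ring⟩, ?_, sub_ne_zero.2 (Ne.symm ha)⟩
    have hB : eich hF hok2 ∈ Φ.unip hF := hRU ⟨_, _, hok2, rfl⟩
    have hmem := hcl _ hT' (eich hF hok2)⁻¹
      (mul_mem (mul_mem (inv_mem hB) (hT hT')) (inv_mem (inv_mem hB)))
    rw [inv_inv] at hmem
    have := mul_mem (inv_mem hT') hmem
    convert this using 1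
    rw [eq_inv_mul_iff_mul_eq, mul_assoc, eq_inv_mul_iff_mul_eq, ← mul_assoc, eich_mul, eich_mul,
      eich_mul]
    refine eich_congr hF _ _ rfl (by abel) ?_
    rw [hwy, hyw', H.zero_left]
    ring
  -- all transvections with centre in the maximal isotropic subspace
  have htrans0 : ∀ (d' : F) (h : Ok q (Φ.e z) 0 d'), eich hF h ∈ T := by
    intro d' h
    by_cases hd' : d' = 0
    · have : eich hF h = 1 := suAct_ext fun v => by
        rw [suAct_eich, suAct_one, hd', H.zero_right hF]; simp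
      rw [this]; exact one_mem T
    obtain ⟨l, hl⟩ := exists_norm_eq hF (c := d' / d) (by
      have h1 := okd.trace
      have h2 := h.trace
      rw [H.zero_left, neg_zero, add_comm, add_eq_zero_iff_eq_neg] at h1 h2
      rw [div_pow, h1, h2, neg_div_neg_eq])
    have hl0 : l ≠ 0 := fun e => by
      rw [e, zero_pow (by omega)] at hl
      exact div_ne_zero hd' hd0 hl.symm
    obtain ⟨g, hg⟩ := su_transitive_iso hF hn (hne z) (Φ.ee z z) (smul_ne_zero hl0 (hne z))
      (by rw [H.smul_left, H.smul_right, Φ.ee, mul_zero, mul_zero])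
    have hconj : g * eich hF okd * g⁻¹ = eich hF h := by
      refine suAct_ext fun v => ?_
      rw [eich_conj, suAct_eich, suAct_eich, hg, suAct_zero, H.zero_right hF, H.smul_right]
      simp only [zero_add, smul_zero, sub_zero]
      rw [smul_smul, show d * (l ^ q * Cfsg.hermForm n F q v (Φ.e z)) * l =
        d * l ^ (q + 1) * Cfsg.hermForm n F q v (Φ.e z) by ring, hl, mul_div_cancel₀ _ hd0]
    rw [← hconj]
    exact hcl _ hdT g (hconj ▸ hRU ⟨_, _, h, rfl⟩)
  have htrans : ∀ (v : Fin n → F) (d' : F) (h : Ok q v 0 d'), v ∈ Φ.low hF m → eich hF h ∈ T := by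
    intro v d' h hv
    by_cases hv0 : v = 0
    · have : eich hF h = 1 := suAct_ext fun u => by
        rw [suAct_eich, suAct_one, hv0, H.zero_right hF]; simp
      rw [this]; exact one_mem T
    obtain ⟨g, hg⟩ := su_transitive_iso hF hn (hne z) (Φ.ee z z) hv0 h.iso
    have ok' : Ok q (Φ.e z) 0 d' := ⟨Φ.ee z z, H.zero_left _, h.trace⟩
    have hconj : g * eich hF ok' * g⁻¹ = eich hF h := by
      rw [eich_conj]; exact eich_congr hF _ _ hg (suAct_zero g) rfl
    rw [← hconj]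
    exact hcl _ (htrans0 d' ok') g (hconj ▸ Φ.tiRad_le hF (Φ.transvection_mem_tiRad hF hv h))
  -- the radical at the first point
  let P : (Fin n → F) → Prop := fun w => ∀ c (h : Ok q (Φ.e z) w c), eich hF h ∈ T
  have hany : ∀ (w : Fin n → F) (c : F) (h : Ok q (Φ.e z) w c), eich hF h ∈ T → P w := by
    intro w c h hh c' h'
    have okt : Ok q (Φ.e z) 0 (c' - c) := ⟨Φ.ee z z, H.zero_left _, by
      rw [sub_pow_q hF, H.zero_left, neg_zero]; linear_combination h'.trace - h.trace⟩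
    have e : eich hF h' = eich hF h * eich hF okt := by
      rw [eich_mul]; exact eich_congr hF _ _ rfl (add_zero w).symm (by rw [H.zero_left]; ring)
    rw [e]; exact mul_mem hh (htrans0 _ okt)
  have hadd : ∀ w w', Cfsg.hermForm n F q w (Φ.e z) = 0 ∧ P w →
      Cfsg.hermForm n F q w' (Φ.e z) = 0 ∧ P w' →
      Cfsg.hermForm n F q (w + w') (Φ.e z) = 0 ∧ P (w + w') := by
    rintro w w' ⟨hw, hPw⟩ ⟨hw', hPw'⟩
    refine ⟨by rw [H.add_left, hw, hw', add_zero], ?_⟩
    obtain ⟨c, hc⟩ := exists_trace_eq hF (c := -Cfsg.hermForm n F q w w)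
      (by rw [neg_pow_q hF, H.self_fixed])
    obtain ⟨c', hc'⟩ := exists_trace_eq hF (c := -Cfsg.hermForm n F q w' w')
      (by rw [neg_pow_q hF, H.self_fixed])
    have h1 : Ok q (Φ.e z) w c := ⟨Φ.ee z z, hw, hc⟩
    have h2 : Ok q (Φ.e z) w' c' := ⟨Φ.ee z z, hw', hc'⟩
    have := mul_mem (hPw _ h1) (hPw' _ h2)
    rw [eich_mul] at this
    exact hany _ _ (ok_add hF h1 h2) this
  have hPz : ∀ s : F, P (s • Φ.e z) := by
    intro s c h
    rw [eich_shift hF h (-s)]
    have h0 : s • Φ.e z + -s • Φ.e z = 0 := by rw [neg_smul, add_neg_cancel]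
    have okt : Ok q (Φ.e z) 0 (c + -s - (-s) ^ q) := h0 ▸ ok_shift hF h (-s)
    rw [eich_congr hF _ okt rfl h0 rfl]
    exact htrans0 _ okt
  have hPe : ∀ (i : Fin m) (s : F), P (s • Φ.e i) := by
    intro i s
    by_cases hi : i = z
    · subst hi; exact hPz s
    obtain ⟨δ, e, h1, h2, h3, h, heq⟩ := eich_pair hF (Φ.ee z z)
      (r := s • Φ.e i) (by rw [H.smul_left, H.smul_right, Φ.ee, mul_zero, mul_zero])
      (by rw [H.smul_right, Φ.ee, mul_zero])
    refine hany _ _ h ?_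
    rw [heq]
    have hi' := Submodule.smul_mem (Φ.low hF m) s (Φ.e_mem_low hF i.isLt)
    exact mul_mem (htrans _ _ h1 (Submodule.add_mem _ hi'
        (Submodule.smul_mem _ _ (Φ.e_mem_low hF z.isLt))))
      (mul_mem (htrans _ _ h2 hi') (htrans _ _ h3 (Φ.e_mem_low hF z.isLt)))
  have hPconj : ∀ (w : Fin n → F), Cfsg.hermForm n F q w (Φ.e z) = 0 → P w →
      ∀ g : Cfsg.SU n F q, suAct g (Φ.e z) = Φ.e z → P (suAct g w) := by
    intro w hw hP g hg
    obtain ⟨c, hc⟩ := exists_trace_eq hF (c := -Cfsg.hermForm n F q w w)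
      (by rw [neg_pow_q hF, H.self_fixed])
    have h1 : Ok q (Φ.e z) w c := ⟨Φ.ee z z, hw, hc⟩
    have h2 : Ok q (Φ.e z) (suAct g w) c := hg ▸ ok_conj hF h1 g
    have e : g * eich hF h1 * g⁻¹ = eich hF h2 := by
      rw [eich_conj]; exact eich_congr hF _ _ hg rfl rfl
    refine hany _ _ h2 ?_
    rw [← e]
    exact hcl _ (hP _ h1) g (e ▸ hRU ⟨_, _, h2, rfl⟩)
  have hPf : ∀ i, i ≠ z → ∀ s : F, P (s • Φ.f i) := by
    intro i hi s
    obtain ⟨δ, hδ0, hδ⟩ := exists_skew hF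
    have hsk : ∀ v, Cfsg.hermForm n F q v v = 0 → Ok q v 0 δ ∧ Ok q v 0 (-δ⁻¹) := fun v hv =>
      ⟨⟨hv, H.zero_left _, by rw [H.zero_left, hδ, add_neg_cancel, neg_zero]⟩,
        ⟨hv, H.zero_left _, by rw [H.zero_left, neg_pow_q hF, inv_pow, hδ, inv_neg]; ring⟩⟩
    let W := eich hF (hsk _ (Φ.ee i i)).1 * eich hF (hsk _ (Φ.ff i i)).2 *
      eich hF (hsk _ (Φ.ee i i)).1
    have hWz : suAct W (Φ.e z) = Φ.e z := by
      simp [W, suAct_mul, suAct_eich, H.zero_right hF, Φ.ee, Φ.ef, Ne.symm hi]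
    have hWi : suAct W (Φ.e i) = (-δ⁻¹) • Φ.f i := by
      simp [W, suAct_mul, suAct_eich, suAct_add, suAct_smul, suAct_sub, H.zero_right hF,
        H.add_left, H.smul_left, H.sub_left, H.neg_left, Φ.ee, Φ.ef, Φ.fe hF]
      match_scalars <;> field_simp <;> ring
    have := hPconj _ (by rw [H.smul_left, Φ.ee, mul_zero]) (hPe i (-δ * s)) W hWz
    rwa [suAct_smul, hWi, smul_smul, show -δ * s * -δ⁻¹ = s by field_simp] at this
  have hPu : ∀ s : F, P (s • Φ.u) := by
    intro s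
    obtain ⟨c, hc⟩ := exists_trace_eq hF (c := -Cfsg.hermForm n F q Φ.u Φ.u)
      (by rw [neg_pow_q hF, H.self_fixed])
    have okg : Ok q (Φ.e j) Φ.u c := ⟨Φ.ee j j, Φ.ue hF j, hc⟩
    have hgz : suAct (eich hF okg) (Φ.e z) = Φ.e z := by
      rw [suAct_eich, Φ.eu, Φ.ee]; simp
    have hgj : suAct (eich hF okg) (Φ.f j) = Φ.f j + c • Φ.e j - Φ.u := by
      rw [suAct_eich, Φ.fu, Φ.fe hF, if_pos rfl]; simp
    have h1 := hPconj _ (by rw [H.smul_left, Φ.fe hF, if_neg hjz, mul_zero]) (hPf j hjz s) _ hgz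
    rw [suAct_smul, hgj] at h1
    have h2 := hadd _ _ ⟨?_, h1⟩ (hadd _ _ ⟨?_, hPf j hjz (-s)⟩ ⟨?_, hPe j (-(s * c))⟩)
    · have e : s • (Φ.f j + c • Φ.e j - Φ.u) + (-s • Φ.f j + -(s * c) • Φ.e j) = (-s) • Φ.u := by
        module
      rw [e] at h2
      obtain ⟨c', hc'⟩ := exists_trace_eq hF (c := -Cfsg.hermForm n F q ((-s) • Φ.u) ((-s) • Φ.u))
        (by rw [neg_pow_q hF, H.self_fixed])
      have ok1 : Ok q (Φ.e z) ((-s) • Φ.u) c' := ⟨Φ.ee z z, h2.1, hc'⟩
      have := inv_mem (h2.2 _ ok1)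
      rw [eich_inv] at this
      have e' : -((-s) • Φ.u) = s • Φ.u := by rw [neg_smul, neg_neg]
      exact e' ▸ hany _ _ (ok_neg hF ok1) this
    · simp [H.sub_left, H.add_left, H.smul_left, Φ.fe hF, hjz, Φ.ee, Φ.ue hF]
    · simp [H.smul_left, H.neg_left, Φ.fe hF, hjz]
    · simp [H.smul_left, H.neg_left, Φ.ee]
  have hR1 : ∀ w c (h : Ok q (Φ.e z) w c), eich hF h ∈ T := by
    intro w c h
    have hS : ∀ (g : Fin m → (Fin n → F)),
        (∀ i, Cfsg.hermForm n F q (g i) (Φ.e z) = 0 ∧ P (g i)) →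
        Cfsg.hermForm n F q (∑ i, g i) (Φ.e z) = 0 ∧ P (∑ i, g i) := fun g hg =>
      Finset.sum_induction g (fun w => Cfsg.hermForm n F q w (Φ.e z) = 0 ∧ P w) hadd
        ⟨H.zero_left _, by rw [← zero_smul F (Φ.e z)]; exact hPz 0⟩ fun i _ => hg i
    have h3 := hadd _ _ (hadd _ _
      (hS (fun i => Cfsg.hermForm n F q w (Φ.f i) • Φ.e i) fun i =>
        ⟨by rw [H.smul_left, Φ.ee, mul_zero], hPe i _⟩)
      (hS (fun i => Cfsg.hermForm n F q w (Φ.e i) • Φ.f i) fun i => by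
        by_cases hi : i = z
        · subst hi
          rw [h.orth, zero_smul]
          exact ⟨H.zero_left _, by rw [← zero_smul F (Φ.e i)]; exact hPz 0⟩
        · exact ⟨by rw [H.smul_left, Φ.fe hF, if_neg hi, mul_zero], hPf i hi _⟩))
      (⟨by rw [H.smul_left, Φ.ue hF, mul_zero], hPu (Cfsg.hermForm n F q w Φ.u)⟩ :
        Cfsg.hermForm n F q (Cfsg.hermForm n F q w Φ.u • Φ.u) (Φ.e z) = 0 ∧ P _)
    rw [← Φ.decomp hF w] at h3
    exact h3.2 c h
  -- every Eichler element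
  refine Φ.unip_le hF fun k w c h hU => ?_
  obtain ⟨g, hg⟩ := su_transitive_iso hF hn (hne k) (Φ.ee k k) (hne z) (Φ.ee z z)
  have ok' : Ok q (Φ.e z) (suAct g w) c := hg ▸ ok_conj hF h g
  have e : g⁻¹ * eich hF ok' * g⁻¹⁻¹ = eich hF h := by
    have : eich hF ok' = g * eich hF h * g⁻¹ := by
      rw [eich_conj]; exact eich_congr hF _ _ hg.symm rfl rfl
    rw [this]; group
  rw [← e]
  exact hcl _ (hR1 _ _ ok') _ (e ▸ hU)

/-- The Borel subgroup is generated by the radical and the torus elements inside `pNorm`. -/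
theorem borel_le (p : ℕ) [Fact p.Prime] [CharP F p] {z l : Fin m} (hlz : l ≠ z)
    {K : Subgroup (Cfsg.SU n F q)} (hU : Φ.unip hF ≤ K)
    (hK : ∀ R : Subgroup (Cfsg.SU n F q), (R = Φ.pointRad hF z ∨ R = Φ.tiRad hF) →
      ∀ t ∈ Φ.borel hF, t ∈ pNorm p R → t ∈ K) : Φ.borel hF ≤ K := by
  classical
  have H := hermForm_isHerm hF n
  -- torus elements in the stabilizer of the maximal isotropic subspace
  have htorus : ∀ i : Fin m, i ≠ l → ∀ a : F, a ≠ 0 → ∃ t ∈ Φ.borel hF, t ∈ K ∧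
      Φ.coeffA t i = a ∧ ∀ k, k ≠ i → k ≠ l → Φ.coeffA t k = 1 := by
    intro i hil a ha
    have okX : ∀ (r s : Fin m) (x : F), r ≠ s → Ok q (Φ.e s) (x ^ q • Φ.f r) 0 := fun r s x hrs =>
      ⟨Φ.ee s s, by rw [H.smul_left, Φ.fe hF, if_neg hrs, mul_zero],
        by rw [zero_pow_q hF, H.smul_left, H.smul_right, Φ.ff]; simp⟩
    have hX : ∀ (r s : Fin m) (x : F) (h : r ≠ s) (k : Fin m),
        suAct (eich hF (okX r s x h)) (Φ.e k) = Φ.e k + (if k = r then x else 0) • Φ.e s := by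
      intro r s x h k
      rw [suAct_eich, Φ.ee, H.smul_right, pow_q_pow_q hF, Φ.ef]
      split_ifs <;> simp
    have hXp : ∀ (r s : Fin m) (x : F) (h : r ≠ s),
        eich hF (okX r s x h) ∈ pNorm p (Φ.tiRad hF) := by
      intro r s x h
      refine eich_mem_pNorm hF p _ (mem_normalizer_of_conj fun y hy => Φ.tiRad_conj hF (fun k => ?_) hy)
      rw [hX r s x h]
      exact Submodule.add_mem _ (Φ.e_mem_low hF k.isLt)
        (Submodule.smul_mem _ _ (Φ.e_mem_low hF s.isLt))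
    have hA : ∀ x : F, x ≠ 0 → ∃ A ∈ pNorm p (Φ.tiRad hF),
        suAct A (Φ.e i) = x • Φ.e l ∧ suAct A (Φ.e l) = (-x⁻¹) • Φ.e i ∧
        ∀ k, k ≠ i → k ≠ l → suAct A (Φ.e k) = Φ.e k := by
      intro x hx
      refine ⟨eich hF (okX i l x hil) * eich hF (okX l i (-x⁻¹) hil.symm) * eich hF (okX i l x hil),
        mul_mem (mul_mem (hXp i l x hil) (hXp l i (-x⁻¹) hil.symm)) (hXp i l x hil), ?_, ?_, fun k h1 h2 => ?_⟩
      · simp only [suAct_mul, suAct_add, suAct_smul, hX i l x hil, hX l i (-x⁻¹) hil.symm, hil,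
          hil.symm, ↓reduceIte, zero_smul, add_zero]
        match_scalars <;> field_simp <;> ring
      · simp only [suAct_mul, suAct_add, suAct_smul, hX i l x hil, hX l i (-x⁻¹) hil.symm, hil,
          hil.symm, ↓reduceIte, zero_smul, add_zero]
        match_scalars <;> field_simp <;> ring
      · simp only [suAct_mul, suAct_add, suAct_smul, hX i l x hil, hX l i (-x⁻¹) hil.symm, h1, h2,
          ↓reduceIte, zero_smul, add_zero]
    obtain ⟨A, hAm, hA1, hA2, hA3⟩ := hA a⁻¹ (inv_ne_zero ha)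
    obtain ⟨B, hBm, hB1, hB2, hB3⟩ := hA (-1) (neg_ne_zero.2 one_ne_zero)
    have he : ∀ k, ∃ s : F, suAct (A * B) (Φ.e k) = s • Φ.e k ∧ (k = i → s = a) ∧
        (k ≠ i → k ≠ l → s = 1) := by
      intro k
      by_cases h1 : k = i
      · subst h1
        exact ⟨a, by rw [suAct_mul, hB1, suAct_smul, hA2, smul_smul]; simp, fun _ => rfl,
          fun h => absurd rfl h⟩
      by_cases h2 : k = l
      · subst h2
        exact ⟨a⁻¹, by rw [suAct_mul, hB2, suAct_smul, hA1, smul_smul]; simp,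
          fun h => absurd h h1, fun _ h => absurd rfl h⟩
      · exact ⟨1, by rw [suAct_mul, hB3 k h1 h2, hA3 k h1 h2, one_smul],
          fun h => absurd h h1, fun _ _ => rfl⟩
    choose s hs hsi hs1 using he
    have hcoef : ∀ k, Φ.coeffA (A * B) k = s k := fun k => by
      rw [Frame.coeffA, hs, H.smul_left, Φ.ef, if_pos rfl, mul_one]
    have hs0 : ∀ k, s k ≠ 0 := fun k h => by
      have := hs k
      rw [h, zero_smul] at this
      have h2 := congrArg (suAct (A * B)⁻¹) this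
      rw [suAct_inv_suAct, suAct_zero] at h2
      have h3 := Φ.fe hF k k
      rw [h2, H.zero_right hF, if_pos rfl] at h3
      exact zero_ne_one h3
    have hb : A * B ∈ Φ.borel hF := by
      refine ⟨fun k => ?_, fun k => ?_⟩
      · rw [hs]; exact Submodule.smul_mem _ _ (Φ.e_mem_low hF (Nat.lt_succ_self _))
      · have := suAct_herm (A * B) Φ.u (Φ.e k)
        rw [hs, H.smul_right, Φ.ue hF, mul_eq_zero] at this
        exact this.resolve_left (pow_ne_zero _ (hs0 k))
    exact ⟨A * B, hb, hK _ (.inr rfl) _ hb (mul_mem hAm hBm), by rw [hcoef, hsi i rfl],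
      fun k h1 h2 => by rw [hcoef, hs1 k h1 h2]⟩
  -- the rank one torus element at `l`
  have hrank : ∀ (a μ c : F), a ≠ 0 → c ≠ 0 → Ok q (Φ.f l) (μ • Φ.u) c →
      (∀ δ : F, δ ≠ 0 → δ + δ ^ q = 0 → a * c = δ → ∃ t ∈ Φ.borel hF, t ∈ K ∧ Φ.coeffA t l = a ∧
        ∀ k, k ≠ l → Φ.coeffA t k = 1) := by
    intro a μ c ha hc ok δ hδ0 hδ hac
    have hzl : ∀ g : Cfsg.SU n F q, suAct g (Φ.e z) = Φ.e z →
        g ∈ Subgroup.normalizer ((Φ.pointRad hF z : Subgroup _) : Set (Cfsg.SU n F q)) :=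
      fun g hg => mem_normalizer_of_conj fun r hr =>
        eichGroup_conj hF (l := 1) (by rw [hg, one_smul]) hr
    have hN : ∀ (μ c : F), c ≠ 0 → Ok q (Φ.f l) (μ • Φ.u) c → ∃ N ∈ pNorm p (Φ.pointRad hF z),
        suAct N (Φ.e l) = c • Φ.f l ∧ ∀ k, k ≠ l → suAct N (Φ.e k) = Φ.e k := by
      intro μ c hc ok
      set w := μ • Φ.u with hw
      have hwe : ∀ k, Cfsg.hermForm n F q (Φ.e k) w = 0 := fun k => by
        rw [hw, H.smul_right, Φ.eu, mul_zero]
      have hwf : ∀ k, Cfsg.hermForm n F q (Φ.f k) w = 0 := fun k => by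
        rw [hw, H.smul_right, Φ.fu, mul_zero]
      have hew : Cfsg.hermForm n F q w (Φ.e l) = 0 := (H.eq_zero_symm hF).1 (hwe l)
      have ok1 : Ok q (Φ.e l) ((-c⁻¹) • w) (c⁻¹ ^ q) := by
        refine ⟨Φ.ee l l, by rw [H.smul_left, hew, mul_zero], ?_⟩
        rw [H.smul_left, H.smul_right, pow_q_pow_q hF, neg_pow_q hF, inv_pow]
        have h1 := ok.trace
        field_simp
        linear_combination h1
      refine ⟨eich hF ok1 * eich hF ok, mul_mem (eich_mem_pNorm hF p _ (hzl _ ?_))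
        (eich_mem_pNorm hF p _ (hzl _ ?_)), ?_, fun k hk => ?_⟩
      · rw [suAct_eich, H.smul_right, hwe, Φ.ee]; simp
      · rw [suAct_eich, hwe, Φ.ef, if_neg (Ne.symm hlz)]; simp
      · rw [suAct_mul, suAct_eich hF ok, hwe, Φ.ef, if_pos rfl, mul_one, zero_add, one_smul,
          suAct_sub, suAct_add, suAct_smul]
        simp only [suAct_eich, H.smul_right, hwe, hwf, hew, Φ.ee, Φ.fe hF, ↓reduceIte, mul_zero,
          mul_one, add_zero, zero_add, zero_smul, sub_zero, one_smul]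
        have h1 : Cfsg.hermForm n F q w w = -(c + c ^ q) := by rw [ok.trace, neg_neg]
        rw [h1, neg_pow_q hF, inv_pow]
        match_scalars <;> field_simp <;> ring
      · rw [suAct_mul, suAct_eich hF ok, hwe, Φ.ef, if_neg hk, mul_zero, add_zero, zero_smul,
          zero_smul, sub_zero, add_zero, suAct_eich, H.smul_right, hwe, Φ.ee]
        simp
    obtain ⟨N, hN1, hN2, hN3⟩ := hN μ c hc ok
    obtain ⟨N', hN1', hN2', hN3'⟩ := hN 0 δ hδ0 ⟨Φ.ff l l, by rw [zero_smul, H.zero_left],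
      by rw [zero_smul, H.zero_left, hδ, neg_zero]⟩
    set t := N⁻¹ * N' with ht
    have htl : suAct t (Φ.e l) = a • Φ.e l := by
      have e : c⁻¹ • suAct N (Φ.e l) = Φ.f l := by rw [hN2, inv_smul_smul₀ hc]
      rw [ht, suAct_mul, hN2', ← e, smul_smul, suAct_smul, suAct_inv_suAct, ← hac,
        mul_inv_cancel_right₀ hc]
    have htk : ∀ k, k ≠ l → suAct t (Φ.e k) = Φ.e k := fun k hk => by
      rw [ht, suAct_mul, hN3' k hk]
      conv_lhs => rw [← hN3 k hk]
      rw [suAct_inv_suAct]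
    have hb : t ∈ Φ.borel hF := by
      refine ⟨fun k => ?_, fun k => ?_⟩
      · by_cases hk : k = l
        · rw [hk, htl]; exact Submodule.smul_mem _ _ (Φ.e_mem_low hF (Nat.lt_succ_self _))
        · rw [htk k hk]; exact Φ.e_mem_low hF (Nat.lt_succ_self _)
      · have := suAct_herm t Φ.u (Φ.e k)
        by_cases hk : k = l
        · rw [hk, htl, H.smul_right, Φ.ue hF, mul_eq_zero] at this
          rw [hk]
          exact this.resolve_left (pow_ne_zero _ ha)
        · rw [htk k hk, Φ.ue hF] at this; exact this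
    refine ⟨t, hb, hK _ (.inl rfl) _ hb (mul_mem (inv_mem hN1) hN1'), ?_, fun k hk => ?_⟩
    · rw [Frame.coeffA, htl, H.smul_left, Φ.ef, if_pos rfl, mul_one]
    · rw [Frame.coeffA, htk k hk, Φ.ef, if_pos rfl]
  -- the last entry
  have hlast : ∀ h ∈ Φ.borel hF, (∀ k, k ≠ l → Φ.coeffA h k = 1) → h ∈ K := by
    intro h hh hone
    obtain ⟨δ, hδ0, hδ⟩ := exists_skew hF
    have hsk : δ + δ ^ q = 0 := by rw [hδ, add_neg_cancel]
    have ha0 : Φ.coeffA h l ≠ 0 := left_ne_zero_of_mul_eq_one (Φ.bor_inv_coeff hF hh l)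
    have hfin : ∀ t ∈ Φ.borel hF, t ∈ K → Φ.coeffA t l = (Φ.coeffA h l)⁻¹ →
        (∀ k, k ≠ l → Φ.coeffA t k = 1) →
        Φ.coeffB (h * t) • Φ.u = Φ.u → h ∈ K := by
      intro t htb htK htl htk hB
      have hmem : h * t ∈ Φ.unip hF := by
        refine ⟨Φ.bor_mul hF hh htb, fun k => ?_, hB⟩
        rw [Φ.coeffA_mul hF hh htb]
        by_cases hk : k = l
        · rw [hk, htl, mul_inv_cancel₀ ha0]
        · rw [hone k hk, htk k hk, one_mul]
      have := mul_mem (hU hmem) (inv_mem htK)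
      rwa [mul_inv_cancel_right] at this
    by_cases hu0 : Φ.u = 0
    · -- the entry lies in the fixed field
      set a := Φ.coeffA h l with ha
      set D := rankOne q (Φ.e l) (Φ.f l) (a⁻¹ - 1) * rankOne q (Φ.f l) (Φ.e l) (a ^ q - 1) with hD
      have hDapply : ∀ x, D *ᵥ x = x +
          ((a ^ q - 1) * Cfsg.hermForm n F q x (Φ.e l)) • Φ.f l +
          ((a⁻¹ - 1) * Cfsg.hermForm n F q x (Φ.f l)) • Φ.e l := by
        intro x
        rw [hD, ← Matrix.mulVec_mulVec, rankOne_mulVec, rankOne_mulVec, H.add_left, H.smul_left,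
          Φ.ff, mul_zero, add_zero]
      have hDu : IsUnitary q D := by
        intro x y
        rw [hDapply, hDapply]
        simp only [H.add_left, H.add_right hF, H.smul_left, H.smul_right, Φ.ee, Φ.ff, Φ.ef,
          Φ.fe hF, ↓reduceIte, mul_zero, mul_one, add_zero, zero_add]
        rw [H.conj_symm y (Φ.e l), H.conj_symm y (Φ.f l)]
        simp only [mul_pow, sub_pow_q hF, one_pow, inv_pow, pow_q_pow_q hF]
        have : a ^ q ≠ 0 := pow_ne_zero _ ha0
        field_simp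
        ring
      have hdet : D.det = a⁻¹ * a ^ q := by
        rw [hD, Matrix.det_mul, rankOne_det, rankOne_det, Φ.ef, Φ.fe hF, if_pos rfl, mul_one, mul_one]
        ring
      have hDe : ∀ k, D *ᵥ Φ.e k = (if k = l then a⁻¹ else 1) • Φ.e k := by
        intro k
        rw [hDapply, Φ.ee, Φ.ef]
        split_ifs with hk
        · subst hk; module
        · simp
      have hDlow : ∀ (k : ℕ) (x : Fin n → F), x ∈ Φ.low hF k → D *ᵥ x ∈ Φ.low hF k := fun k x hx =>
        Φ.mulVec_low hF (fun i hi => by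
          rw [hDe]; exact Submodule.smul_mem _ _ (Φ.e_mem_low hF hi)) hx
      have huni : Φ.IsUni hF (D * ((h : Matrix.SpecialLinearGroup (Fin n) F) :
          Matrix (Fin n) (Fin n) F)) := by
        refine ⟨fun k => ?_, by rw [hu0]; simp⟩
        rw [← Matrix.mulVec_mulVec]
        have h1 := hDlow _ _ (Φ.bor_apply_e hF hh k)
        rw [Matrix.mulVec_sub, Matrix.mulVec_smul, hDe, smul_smul] at h1
        show D *ᵥ suAct h (Φ.e k) - Φ.e k ∈ _
        by_cases hk : k = l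
        · subst hk
          rwa [if_pos rfl, ← ha, mul_inv_cancel₀ ha0, one_smul] at h1
        · rwa [if_neg hk, hone k hk, one_mul, one_smul] at h1
      have hfix := Φ.uni_det hF (hDu.mul h.2) huni
      rw [Matrix.det_mul] at hfix
      change D.det * ((h : Matrix.SpecialLinearGroup (Fin n) F) : Matrix (Fin n) (Fin n) F).det = 1
        at hfix
      rw [(h : Matrix.SpecialLinearGroup (Fin n) F).2, mul_one, hdet] at hfix
      have haq : a ^ q = a := by
        field_simp at hfix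
        exact hfix
      have hc : δ * a + (δ * a) ^ q = 0 := by rw [mul_pow, haq, hδ]; ring
      obtain ⟨t, htb, htK, htl, htk⟩ := hrank a⁻¹ 0 (δ * a) (inv_ne_zero ha0) (mul_ne_zero hδ0 ha0)
        ⟨Φ.ff l l, by rw [zero_smul, H.zero_left], by rw [zero_smul, H.zero_left, hc, neg_zero]⟩
        δ hδ0 hsk (by field_simp)
      exact hfin t htb htK htl htk (by rw [hu0, smul_zero])
    · have huu : Cfsg.hermForm n F q Φ.u Φ.u = 1 := Φ.hu.resolve_left hu0
      obtain ⟨μ, hμ⟩ := exists_norm_eq hF (c := -(δ * Φ.coeffA h l + (δ * Φ.coeffA h l) ^ q))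
        (by rw [neg_pow_q hF, trace_fixed hF])
      obtain ⟨t, htb, htK, htl, htk⟩ := hrank (Φ.coeffA h l)⁻¹ μ (δ * Φ.coeffA h l)
        (inv_ne_zero ha0) (mul_ne_zero hδ0 ha0)
        ⟨Φ.ff l l, by rw [H.smul_left, Φ.uf hF, mul_zero], by
          rw [H.smul_left, H.smul_right, huu, mul_one, ← pow_succ', hμ, neg_neg]⟩
        δ hδ0 hsk (by field_simp)
      refine hfin t htb htK htl htk ?_
      have hy := Φ.bor_mul hF hh htb
      have hA : ∀ k, Φ.coeffA (h * t) k = 1 := fun k => by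
        rw [Φ.coeffA_mul hF hh htb]
        by_cases hk : k = l
        · rw [hk, htl, mul_inv_cancel₀ ha0]
        · rw [hone k hk, htk k hk, one_mul]
      generalize h * t = y at hy hA
      set b := Φ.coeffB y with hb
      have hd := Φ.bor_apply_u hF hy
      rw [← hb] at hd
      generalize hL : suAct y Φ.u - b • Φ.u = L at hd
      have hLL : Cfsg.hermForm n F q L L = 0 := Φ.herm_low hF hd fun i _ => hd.1 i
      have hLu : Cfsg.hermForm n F q Φ.u L = 0 := Φ.herm_low hF hd fun i _ => Φ.ue hF i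
      have hnb : b ^ (q + 1) = 1 := by
        have h1 := suAct_herm y Φ.u Φ.u
        rw [show suAct y Φ.u = b • Φ.u + L by rw [← hL]; abel] at h1
        simp only [H.add_left, H.add_right hF, H.smul_left, H.smul_right, hd.2.1, hLu, hLL, huu,
          mul_zero, add_zero, mul_one] at h1
        rw [pow_succ']; exact h1
      have hb0 : b ≠ 0 := fun e => by simp [e] at hnb
      set R := rankOne q Φ.u Φ.u (b⁻¹ - 1) with hR
      have hRu : IsUnitary q R := by
        intro x x'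
        rw [hR, rankOne_mulVec, rankOne_mulVec]
        simp only [H.add_left, H.add_right hF, H.smul_left, H.smul_right, huu]
        rw [H.conj_symm x' Φ.u]
        simp only [mul_pow, sub_pow_q hF, one_pow, inv_pow, pow_q_pow_q hF]
        have : b ^ q ≠ 0 := pow_ne_zero _ hb0
        have h2 : b ^ q * b = 1 := by rw [← pow_succ]; exact hnb
        field_simp
        linear_combination (-Cfsg.hermForm n F q x Φ.u * Cfsg.hermForm n F q x' Φ.u ^ q) * h2
      have hRlow : ∀ x, Cfsg.hermForm n F q x Φ.u = 0 → R *ᵥ x = x := fun x hx => by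
        rw [hR, rankOne_mulVec, hx, mul_zero, zero_smul, add_zero]
      have huni : Φ.IsUni hF (R * ((y : Matrix.SpecialLinearGroup (Fin n) F) :
          Matrix (Fin n) (Fin n) F)) := by
        refine ⟨fun k => ?_, ?_⟩
        · rw [← Matrix.mulVec_mulVec]
          show R *ᵥ suAct y (Φ.e k) - Φ.e k ∈ _
          rw [hRlow _ (hy.1 k).2.1]
          have := Φ.bor_apply_e hF hy k
          rwa [hA k, one_smul] at this
        · rw [← Matrix.mulVec_mulVec]
          show R *ᵥ suAct y Φ.u - Φ.u ∈ _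
          rw [show suAct y Φ.u = b • Φ.u + L by rw [← hL]; abel, Matrix.mulVec_add,
            Matrix.mulVec_smul, hR, rankOne_mulVec, huu, mul_one, ← hR, hRlow L hd.2.1, smul_add,
            smul_smul, ← add_smul, show b + b * (b⁻¹ - 1) = 1 by field_simp; ring, one_smul,
            add_sub_cancel_left]
          exact hd
      have hfix := Φ.uni_det hF (hRu.mul y.2) huni
      rw [Matrix.det_mul] at hfix
      change R.det * ((y : Matrix.SpecialLinearGroup (Fin n) F) : Matrix (Fin n) (Fin n) F).det = 1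
        at hfix
      rw [(y : Matrix.SpecialLinearGroup (Fin n) F).2, mul_one, hR, rankOne_det,
        huu, mul_one, add_sub_cancel, inv_eq_one] at hfix
      rw [hfix, one_smul]
  -- induction on the support
  suffices main : ∀ (s : Finset (Fin m)), l ∉ s → ∀ h ∈ Φ.borel hF,
      (∀ k, k ∉ s → k ≠ l → Φ.coeffA h k = 1) → h ∈ K from
    fun h hh => main (Finset.univ.erase l) (by simp) h hh fun k hk hkl => absurd (by simp [hkl]) hk
  intro s
  induction s using Finset.induction_on with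
  | empty => exact fun _ h hh hone => hlast h hh fun k hk => hone k (by simp) hk
  | insert i s his ih =>
    intro hl h hh hone
    rw [Finset.mem_insert, not_or] at hl
    obtain ⟨t, htb, htK, hti, htk⟩ := htorus i (Ne.symm hl.1) (Φ.coeffA h i)⁻¹
      (inv_ne_zero (left_ne_zero_of_mul_eq_one (Φ.bor_inv_coeff hF hh i)))
    have := mul_mem (ih hl.2 (h * t) (Φ.bor_mul hF hh htb) fun k hk hkl => by
      rw [Φ.coeffA_mul hF hh htb]
      by_cases hki : k = i
      · subst hki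
        rw [hti, mul_inv_cancel₀ (left_ne_zero_of_mul_eq_one (Φ.bor_inv_coeff hF hh k))]
      · rw [htk k hki hkl, mul_one]
        exact hone k (by simp [hki, hk]) hkl) (inv_mem htK)
    rwa [mul_inv_cancel_right] at this

end Frame

end Cfsg.Agent.UFus
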