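import Cfsg.Agent.Lib.Linear.Criteria

/-!
# Symplectic groups of `Cfsg.sympForm`
* form lemmas `sympForm_*`, `mem_symplecticGroup_iff`, `spEquiv : symplecticGroup ≃* Cfsg.spGL`
* `spTv v c : spGL m F` (transvection), `spTv_smul`, `spTv_conj`, `spTv_add`
* `exists_spTv_smul_eq`, `exists_spTv_pair`: transitivity on vectors / hyperbolic pairs
* `closure_spTvSet` generation, `commutator_spGL_eq_top` perfectness,
  `isPreprimitive_spGL`, `isSimpleGroup_PSp`
-/

set_option autoImplicit false

open Matrix MulAction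
open scoped LinearAlgebra.Projectivization Pointwise

namespace Cfsg.Agent.Linear

variable {m : ℕ} {F : Type*} [Field F]

local notation "V" => (Fin m ⊕ Fin m → F)
local notation "f" => Cfsg.sympForm m F

/-! ## The form -/

theorem sympForm_eq_sum (u v : V) :
    f u v = ∑ i : Fin m, (u (.inr i) * v (.inl i) - u (.inl i) * v (.inr i)) := by
  simp [Cfsg.sympForm, Matrix.J, dotProduct, Matrix.mulVec, Fintype.sum_sum_type,
    Matrix.one_apply, Finset.sum_add_distrib, Finset.sum_sub_distrib,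
    Matrix.fromBlocks_apply₁₁, Matrix.fromBlocks_apply₁₂, Matrix.fromBlocks_apply₂₁,
    Matrix.fromBlocks_apply₂₂, neg_mul, mul_neg, ← sub_eq_neg_add]

@[simp] theorem sympForm_add_left (u u' v : V) : f (u + u') v = f u v + f u' v :=
  add_dotProduct u u' _

@[simp] theorem sympForm_add_right (u v v' : V) : f u (v + v') = f u v + f u v' := by
  rw [Cfsg.sympForm, Matrix.mulVec_add, dotProduct_add]; rfl

@[simp] theorem sympForm_smul_left (a : F) (u v : V) : f (a • u) v = a * f u v :=
  smul_dotProduct a u _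

@[simp] theorem sympForm_smul_right (a : F) (u v : V) : f u (a • v) = a * f u v := by
  rw [Cfsg.sympForm, Matrix.mulVec_smul, dotProduct_smul]; rfl

@[simp] theorem sympForm_zero_left (v : V) : f 0 v = 0 := zero_dotProduct _

@[simp] theorem sympForm_zero_right (v : V) : f v 0 = 0 := by simp [Cfsg.sympForm]

@[simp] theorem sympForm_neg_left (u v : V) : f (-u) v = - f u v := neg_dotProduct u _

@[simp] theorem sympForm_neg_right (u v : V) : f u (-v) = - f u v := by
  rw [Cfsg.sympForm, Matrix.mulVec_neg, dotProduct_neg]; rfl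

@[simp] theorem sympForm_sub_left (u u' v : V) : f (u - u') v = f u v - f u' v := by
  rw [sub_eq_add_neg, sympForm_add_left, sympForm_neg_left, sub_eq_add_neg]

@[simp] theorem sympForm_sub_right (u v v' : V) : f u (v - v') = f u v - f u v' := by
  rw [sub_eq_add_neg, sympForm_add_right, sympForm_neg_right, sub_eq_add_neg]

theorem sympForm_swap (u v : V) : f u v = - f v u := by
  simp only [sympForm_eq_sum, ← Finset.sum_neg_distrib]
  exact Finset.sum_congr rfl fun i _ => by ring

@[simp] theorem sympForm_self (u : V) : f u u = 0 := by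
  rw [sympForm_eq_sum]; exact Finset.sum_eq_zero fun i _ => by ring

theorem sympForm_single_inl_left (i : Fin m) (v : V) :
    f (Pi.single (.inl i) 1) v = - v (.inr i) := by
  simp [sympForm_eq_sum, Pi.single_apply, ite_mul]

theorem sympForm_single_inr_left (i : Fin m) (v : V) :
    f (Pi.single (.inr i) 1) v = v (.inl i) := by
  simp [sympForm_eq_sum, Pi.single_apply, ite_mul]

theorem exists_sympForm_ne_zero {u : V} (hu : u ≠ 0) : ∃ w, f u w ≠ 0 := by
  by_contra! h
  refine hu (funext fun x => ?_)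
  rcases x with i | i
  · simpa [sympForm_swap u, sympForm_single_inr_left] using h (Pi.single (.inr i) 1)
  · simpa [sympForm_swap u, sympForm_single_inl_left] using h (Pi.single (.inl i) 1)

theorem mem_symplecticGroup_iff {A : Matrix (Fin m ⊕ Fin m) (Fin m ⊕ Fin m) F} :
    A ∈ Matrix.symplecticGroup (Fin m) F ↔ ∀ u v : V, f (A *ᵥ u) (A *ᵥ v) = f u v := by
  have h : ∀ u v : V, f (A *ᵥ u) (A *ᵥ v) = u ⬝ᵥ ((Aᵀ * Matrix.J (Fin m) F * A) *ᵥ v) := by
    intro u v
    rw [Cfsg.sympForm, ← Matrix.mulVec_mulVec, ← Matrix.mulVec_mulVec,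
      Matrix.dotProduct_mulVec u Aᵀ, Matrix.vecMul_transpose]
  rw [SymplecticGroup.mem_iff']
  refine ⟨fun e u v => by rw [h, e]; rfl, fun e => ?_⟩
  refine Matrix.ext fun a b => ?_
  have := e (Pi.single a 1) (Pi.single b 1)
  rw [h] at this
  simpa [Cfsg.sympForm] using this

/-! ## `spGL` -/

theorem spGL_smul_eq (g : Cfsg.spGL m F) (x : V) : g • x = g.1.1 *ᵥ x := rfl

theorem sympForm_smul_smul (g : Cfsg.spGL m F) (u v : V) : f (g • u) (g • v) = f u v :=
  g.2 u v

theorem spGL_ext {g h : Cfsg.spGL m F} (H : ∀ x : V, g • x = h • x) : g = h :=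
  Subtype.ext (Units.ext (Matrix.mulVec_injective (funext fun x => H x)))

/-- Mathlib's symplectic group is the same group as `Cfsg.spGL`. -/
noncomputable def spEquiv (m : ℕ) (F : Type*) [Field F] :
    Matrix.symplecticGroup (Fin m) F ≃* Cfsg.spGL m F where
  toFun A := ⟨(Submonoid.subtype (Matrix.symplecticGroup (Fin m) F)).toHomUnits A,
    mem_symplecticGroup_iff.1 A.2⟩
  invFun g := ⟨g.1.1, mem_symplecticGroup_iff.2 g.2⟩
  left_inv _ := Subtype.ext rfl
  right_inv _ := Subtype.ext (Units.ext rfl)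
  map_mul' _ _ := Subtype.ext (Units.ext rfl)

theorem spEquiv_val (A : Matrix.symplecticGroup (Fin m) F) :
    (spEquiv m F A).1.1 = A.1 := rfl

theorem spEquiv_smul (A : Matrix.symplecticGroup (Fin m) F) (x : V) :
    spEquiv m F A • x = A.1 *ᵥ x := rfl

/-! ## Transvections -/

theorem sympTransvection_mulVec (v : V) (c : F) (x : V) :
    Cfsg.sympTransvection m v c *ᵥ x = x + (c * f x v) • v := by
  rw [Cfsg.sympTransvection, Matrix.add_mulVec, Matrix.one_mulVec, Matrix.smul_mulVec,
    Matrix.vecMulVec_mulVec, op_smul_eq_smul, smul_smul, dotProduct_comm]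
  rfl

theorem sympTransvection_mul (v : V) (c d : F) :
    Cfsg.sympTransvection m v c * Cfsg.sympTransvection m v d =
      Cfsg.sympTransvection m v (c + d) := by
  refine Matrix.mulVec_injective (funext fun x => ?_)
  simp only [← Matrix.mulVec_mulVec, sympTransvection_mulVec, sympForm_add_left,
    sympForm_smul_left, sympForm_self]
  module

theorem sympTransvection_zero (v : V) : Cfsg.sympTransvection m v (0 : F) = 1 := by
  simp [Cfsg.sympTransvection]

theorem sympTransvection_mem (v : V) (c : F) :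
    Cfsg.sympTransvection m v c ∈ Matrix.symplecticGroup (Fin m) F := by
  refine mem_symplecticGroup_iff.2 fun x y => ?_
  simp only [sympTransvection_mulVec, sympForm_add_left, sympForm_add_right, sympForm_smul_left,
    sympForm_smul_right, sympForm_self]
  rw [sympForm_swap v y]
  ring

/-- The symplectic transvection `x ↦ x + c f(x,v) v` in `spGL`. -/
noncomputable def spTv (v : V) (c : F) : Cfsg.spGL m F :=
  spEquiv m F ⟨Cfsg.sympTransvection m v c, sympTransvection_mem v c⟩

theorem spTv_smul (v : V) (c : F) (x : V) : spTv v c • x = x + (c * f x v) • v :=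
  sympTransvection_mulVec v c x

theorem spTv_add (v : V) (c d : F) : spTv v (c + d) = spTv v c * spTv v d :=
  spGL_ext fun x => by
    simp only [mul_smul, spTv_smul, sympForm_add_left, sympForm_smul_left, sympForm_self]
    module

theorem spTv_zero (v : V) : spTv v (0 : F) = 1 := spGL_ext fun x => by simp [spTv_smul]

theorem spTv_zero_vec (c : F) : spTv (0 : V) c = 1 := spGL_ext fun x => by simp [spTv_smul]

theorem spTv_inv (v : V) (c : F) : (spTv v c)⁻¹ = spTv v (-c) :=
  inv_eq_of_mul_eq_one_right (by rw [← spTv_add, add_neg_cancel, spTv_zero])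

theorem spTv_smul_vec (a : F) (v : V) (c : F) : spTv (a • v) c = spTv v (a ^ 2 * c) :=
  spGL_ext fun x => by simp only [spTv_smul, sympForm_smul_right]; module

theorem spTv_conj (g : Cfsg.spGL m F) (v : V) (c : F) :
    g * spTv v c * g⁻¹ = spTv (g • v) c := by
  refine spGL_ext fun x => ?_
  obtain ⟨y, rfl⟩ : ∃ y : V, g • y = x := ⟨g⁻¹ • x, smul_inv_smul g x⟩
  simp only [mul_smul, inv_smul_smul, spTv_smul, smul_add, sympForm_smul_smul, smul_comm g]

/-- Transvections with vector in a submodule `W`. -/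
def spTvSet (W : Submodule F V) : Set (Cfsg.spGL m F) :=
  {g | ∃ w ∈ W, ∃ c : F, g = spTv w c}

theorem spTv_mem_closure {W : Submodule F V} {w : V} (hw : w ∈ W) (c : F) :
    spTv w c ∈ Subgroup.closure (spTvSet W) :=
  Subgroup.subset_closure ⟨w, hw, c, rfl⟩

theorem smul_eq_of_mem_closure_spTvSet {W : Submodule F V} {x : V} (hx : ∀ w ∈ W, f x w = 0)
    {g : Cfsg.spGL m F} (hg : g ∈ Subgroup.closure (spTvSet W)) : g • x = x := by
  have h : Subgroup.closure (spTvSet W) ≤ MulAction.stabilizer (Cfsg.spGL m F) x := by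
    refine (Subgroup.closure_le _).2 ?_
    rintro _ ⟨w, hw, c, rfl⟩
    simp [spTv_smul, hx w hw]
  exact h hg

theorem spTv_move {u v : V} (huv : f u v ≠ 0) : spTv (v - u) (f u v)⁻¹ • u = v := by
  rw [spTv_smul, sympForm_sub_right, sympForm_self, sub_zero, inv_mul_cancel₀ huv, one_smul,
    add_sub_cancel]

/-- Transitivity on nonzero vectors of a nondegenerate subspace `W`. -/
theorem exists_spTv_smul_eq (W : Submodule F V)
    (hW : ∀ u ∈ W, u ≠ 0 → ∃ w ∈ W, f u w ≠ 0) {u v : V} (hu : u ∈ W) (hv : v ∈ W)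
    (hu0 : u ≠ 0) (hv0 : v ≠ 0) :
    ∃ g ∈ Subgroup.closure (spTvSet W), g • u = v := by
  have step : ∀ a b : V, a ∈ W → b ∈ W → f a b ≠ 0 →
      ∃ g ∈ Subgroup.closure (spTvSet W), g • a = b :=
    fun a b ha hb hab => ⟨_, spTv_mem_closure (sub_mem hb ha) _, spTv_move hab⟩
  by_cases huv : f u v ≠ 0
  · exact step u v hu hv huv
  · obtain ⟨w, hw, h1, h2⟩ : ∃ w ∈ W, f u w ≠ 0 ∧ f w v ≠ 0 := by
      obtain ⟨w₁, hw₁, h₁⟩ := hW u hu hu0
      obtain ⟨w₂, hw₂, h₂⟩ := hW v hv hv0
      have h₂' : f w₂ v ≠ 0 := by rwa [sympForm_swap, neg_ne_zero]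
      by_cases a : f w₁ v ≠ 0
      · exact ⟨w₁, hw₁, h₁, a⟩
      by_cases b : f u w₂ ≠ 0
      · exact ⟨w₂, hw₂, b, h₂'⟩
      push Not at a b
      exact ⟨w₁ + w₂, add_mem hw₁ hw₂, by simpa [b] using h₁, by simpa [a] using h₂'⟩
    obtain ⟨g₁, hg₁, e₁⟩ := step u w hu hw h1
    obtain ⟨g₂, hg₂, e₂⟩ := step w v hw hv h2
    exact ⟨g₂ * g₁, mul_mem hg₂ hg₁, by rw [mul_smul, e₁, e₂]⟩

/-- Transitivity on hyperbolic pairs of a nondegenerate subspace `W`. -/
theorem exists_spTv_pair (W : Submodule F V)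
    (hW : ∀ u ∈ W, u ≠ 0 → ∃ w ∈ W, f u w ≠ 0) {u v u' v' : V}
    (hu : u ∈ W) (hv : v ∈ W) (hu' : u' ∈ W) (hv' : v' ∈ W)
    (h : f u v = 1) (h' : f u' v' = 1) :
    ∃ g ∈ Subgroup.closure (spTvSet W), g • u = u' ∧ g • v = v' := by
  have hne : ∀ a b : V, f a b = 1 → a ≠ 0 := fun a b e ha => by simp [ha] at e
  obtain ⟨g, hg, e⟩ := exists_spTv_smul_eq W hW hu hu' (hne u v h) (hne u' v' h')
  have hgv : g • v ∈ W := by
    have : ∀ k ∈ Subgroup.closure (spTvSet W), ∀ x ∈ W, k • x ∈ W := by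
      intro k hk
      induction hk using Subgroup.closure_induction'' with
      | one => intro x hx; rwa [one_smul]
      | mem k hk =>
        obtain ⟨w, hw, c, rfl⟩ := hk
        intro x hx; rw [spTv_smul]; exact add_mem hx (W.smul_mem _ hw)
      | inv_mem k hk =>
        obtain ⟨w, hw, c, rfl⟩ := hk
        intro x hx; rw [spTv_inv, spTv_smul]; exact add_mem hx (W.smul_mem _ hw)
      | mul a b _ _ ha hb => intro x hx; rw [mul_smul]; exact ha _ (hb x hx)
    exact this g hg v hv
  have hgf : f u' (g • v) = 1 := by rw [← e, sympForm_smul_smul, h]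
  have step : ∀ a b : V, a ∈ W → b ∈ W → f u' a = 1 → f u' b = 1 → f a b ≠ 0 →
      ∃ k ∈ Subgroup.closure (spTvSet W), k • u' = u' ∧ k • a = b := by
    intro a b ha hb hua hub hab
    refine ⟨_, spTv_mem_closure (sub_mem hb ha) _, ?_, spTv_move hab⟩
    rw [spTv_smul, sympForm_sub_right, hua, hub]
    simp
  obtain ⟨k, hk, k1, k2⟩ : ∃ k ∈ Subgroup.closure (spTvSet W), k • u' = u' ∧ k • (g • v) = v' := by
    by_cases hab : f (g • v) v' ≠ 0
    · exact step _ _ hgv hv' hgf h' hab
    · push Not at hab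
      have hm : u' + g • v ∈ W := add_mem hu' hgv
      obtain ⟨k₁, hk₁, a1, b1⟩ := step (g • v) (u' + g • v) hgv hm hgf (by simp [hgf]) (by
        simp [sympForm_swap (g • v) u', hgf])
      obtain ⟨k₂, hk₂, a2, b2⟩ := step (u' + g • v) v' hm hv' (by simp [hgf]) h' (by
        simp [hab, h'])
      exact ⟨k₂ * k₁, mul_mem hk₂ hk₁, by rw [mul_smul, a1, a2], by rw [mul_smul, b1, b2]⟩
  exact ⟨k * g, mul_mem hk hg, by rw [mul_smul, e, k1], by rw [mul_smul, k2]⟩

theorem top_nondegenerate : ∀ u ∈ (⊤ : Submodule F V), u ≠ 0 →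
    ∃ w ∈ (⊤ : Submodule F V), f u w ≠ 0 :=
  fun _ _ hu => let ⟨w, hw⟩ := exists_sympForm_ne_zero hu; ⟨w, trivial, hw⟩

theorem exists_spGL_smul_eq {u v : V} (hu : u ≠ 0) (hv : v ≠ 0) :
    ∃ g : Cfsg.spGL m F, g • u = v :=
  let ⟨g, _, hg⟩ := exists_spTv_smul_eq ⊤ top_nondegenerate trivial trivial hu hv; ⟨g, hg⟩

theorem exists_spGL_pair {u v u' v' : V} (h : f u v = 1) (h' : f u' v' = 1) :
    ∃ g : Cfsg.spGL m F, g • u = u' ∧ g • v = v' :=
  let ⟨g, _, hg⟩ := exists_spTv_pair ⊤ top_nondegenerate trivial trivial trivial trivial h h'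
  ⟨g, hg⟩

/-- The vectors supported on the coordinate pairs of index at least `k`. -/
def spTail (k : ℕ) : Submodule F V where
  carrier := {x | ∀ i : Fin m, i.1 < k → x (.inl i) = 0 ∧ x (.inr i) = 0}
  add_mem' {a b} ha hb i hi := by simp [ha i hi, hb i hi]
  zero_mem' i _ := by simp
  smul_mem' c a ha i hi := by simp [ha i hi]

theorem spTail_nondegenerate (k : ℕ) : ∀ u ∈ (spTail k : Submodule F V), u ≠ 0 →
    ∃ w ∈ (spTail k : Submodule F V), f u w ≠ 0 := by
  intro u hu h0
  by_contra! h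
  refine h0 (funext fun x => ?_)
  rcases x with i | i
  · by_cases hi : i.1 < k
    · exact (hu i hi).1
    · simpa [sympForm_swap u, sympForm_single_inr_left] using
        h (Pi.single (.inr i) 1) (fun j hj => by
          have : j ≠ i := fun e => hi (e ▸ hj)
          simp [this])
  · by_cases hi : i.1 < k
    · exact (hu i hi).2
    · simpa [sympForm_swap u, sympForm_single_inl_left] using
        h (Pi.single (.inl i) 1) (fun j hj => by
          have : j ≠ i := fun e => hi (e ▸ hj)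
          simp [this])

theorem closure_spTvSet : Subgroup.closure (spTvSet (⊤ : Submodule F V)) = ⊤ := by
  refine (Subgroup.eq_top_iff' _).2 fun A => ?_
  have main : ∀ k, k ≤ m → ∃ P ∈ Subgroup.closure (spTvSet (⊤ : Submodule F V)),
      ∀ i : Fin m, i.1 < k → (P * A) • (Pi.single (.inl i) 1 : V) = Pi.single (.inl i) 1 ∧
        (P * A) • (Pi.single (.inr i) 1 : V) = Pi.single (.inr i) 1 := by
    intro k
    induction k with
    | zero => exact fun _ => ⟨1, one_mem _, fun i hi => absurd hi (Nat.not_lt_zero _)⟩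
    | succ k ih =>
      intro hk
      obtain ⟨P, hP, hfix⟩ := ih (by omega)
      set B := P * A with hB
      set i₀ : Fin m := ⟨k, by omega⟩ with hi₀
      have memW : ∀ x : Fin m ⊕ Fin m,
          (x = .inl i₀ ∨ x = .inr i₀) → B • (Pi.single x 1 : V) ∈ (spTail k : Submodule F V) := by
        intro x hx i hi
        have hne : i ≠ i₀ := fun e => by simp [e, hi₀] at hi
        obtain ⟨h1, h2⟩ := hfix i hi
        constructor
        · have := sympForm_smul_smul B (Pi.single (.inr i) 1) (Pi.single x 1)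
          rw [h2, sympForm_single_inr_left, sympForm_single_inr_left] at this
          rw [this]
          rcases hx with rfl | rfl <;> simp [hne]
        · have := sympForm_smul_smul B (Pi.single (.inl i) 1) (Pi.single x 1)
          rw [h1, sympForm_single_inl_left, sympForm_single_inl_left, neg_inj] at this
          rw [this]
          rcases hx with rfl | rfl <;> simp [hne]
      have base : ∀ x : Fin m ⊕ Fin m,
          (x = .inl i₀ ∨ x = .inr i₀) → (Pi.single x 1 : V) ∈ (spTail k : Submodule F V) := by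
        intro x hx i hi
        have hne : i ≠ i₀ := fun e => by simp [e, hi₀] at hi
        rcases hx with rfl | rfl <;> simp [hne]
      have hpair : f (Pi.single (.inr i₀) 1) (Pi.single (.inl i₀) 1) = 1 := by
        simp [sympForm_single_inr_left]
      obtain ⟨Q, hQ, q1, q2⟩ := exists_spTv_pair _ (spTail_nondegenerate k)
        (memW _ (.inr rfl)) (memW _ (.inl rfl)) (base _ (.inr rfl)) (base _ (.inl rfl))
        (by rw [sympForm_smul_smul, hpair]) hpair
      refine ⟨Q * P, mul_mem ?_ hP, fun i hi => ?_⟩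
      · refine Subgroup.closure_mono ?_ hQ
        rintro _ ⟨w, _, c, rfl⟩
        exact ⟨w, trivial, c, rfl⟩
      · rw [mul_assoc, ← hB, mul_smul Q B, mul_smul Q B]
        rcases Nat.lt_succ_iff_lt_or_eq.1 hi with hi | hi
        · rw [(hfix i hi).1, (hfix i hi).2]
          constructor <;> refine smul_eq_of_mem_closure_spTvSet (fun w hw => ?_) hQ
          · simp [sympForm_single_inl_left, (hw i hi).2]
          · simp [sympForm_single_inr_left, (hw i hi).1]
        · have : i = i₀ := Fin.ext hi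
          subst this
          exact ⟨q2, q1⟩
  obtain ⟨P, hP, hfix⟩ := main m le_rfl
  have h1 : P * A = 1 := by
    refine Subtype.ext (Units.ext (Matrix.ext fun a b => ?_))
    have hb : (P * A) • (Pi.single b 1 : V) = Pi.single b 1 := by
      rcases b with i | i
      · exact (hfix i i.2).1
      · exact (hfix i i.2).2
    rw [spGL_smul_eq, Matrix.mulVec_single_one] at hb
    have := congrFun hb a
    simpa [Pi.single_apply, Matrix.one_apply, Matrix.col] using this
  have hA : A = P⁻¹ := eq_inv_of_mul_eq_one_right h1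
  exact hA ▸ inv_mem hP

theorem spTv_eq_transvection (g : Cfsg.spGL m F) :
    g ∈ spTvSet (⊤ : Submodule F V) ↔
      ∃ (w : V) (c : F), g.1.1 = Cfsg.sympTransvection m w c := by
  refine ⟨fun ⟨w, _, c, h⟩ => ⟨w, c, h ▸ rfl⟩, fun ⟨w, c, h⟩ => ⟨w, trivial, c, ?_⟩⟩
  exact Subtype.ext (Units.ext h)

/-! ## Perfectness -/

theorem spTv_mem_commutator
    (h : (∃ a : F, a ≠ 0 ∧ a ^ 2 ≠ 1) ∨ (2 ≤ m ∧ (2 : F) ≠ 0) ∨ 3 ≤ m) (v : V) (c : F) :
    spTv v c ∈ commutator (Cfsg.spGL m F) := by
  by_cases hv : v = 0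
  · subst hv; rw [spTv_zero_vec]; exact one_mem _
  set π : Cfsg.spGL m F →* Abelianization (Cfsg.spGL m F) := Abelianization.of with hπ
  suffices π (spTv v c) = 1 by rwa [← MonoidHom.mem_ker, hπ, Abelianization.ker_of] at this
  have hinv : ∀ (u : V) (d : F), u ≠ 0 → π (spTv u d) = π (spTv v d) := by
    intro u d hu
    obtain ⟨g, hg⟩ := exists_spGL_smul_eq hv hu
    rw [← hg, ← spTv_conj, map_mul, map_mul, map_inv, mul_comm (π g), mul_inv_cancel_right]
  have hadd : ∀ a b : F, π (spTv v (a + b)) = π (spTv v a) * π (spTv v b) := by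
    intro a b; rw [spTv_add, map_mul]
  rcases h with ⟨a, ha, ha2⟩ | ⟨hm, h2⟩ | hm
  · set d := c / (a ^ 2 - 1) with hd
    have hc : c + d = a ^ 2 * d := by
      rw [hd]; field_simp [sub_ne_zero_of_ne ha2]; ring
    have := hinv (a • v) d (smul_ne_zero ha hv)
    rw [spTv_smul_vec, ← hc, hadd] at this
    exact mul_eq_right.1 this
  · set i : Fin m := ⟨0, by omega⟩
    set j : Fin m := ⟨1, by omega⟩
    have hij : i ≠ j := by simp [i, j]
    set e₁ : V := Pi.single (.inl i) 1 with he₁
    set e₂ : V := Pi.single (.inl j) 1 with he₂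
    have o : f e₁ e₂ = 0 ∧ f e₂ e₁ = 0 := by simp [he₁, he₂, sympForm_single_inl_left]
    set d : F := c / 2 with hd
    have key : spTv (e₁ + e₂) d * spTv (e₁ - e₂) d = spTv e₁ c * spTv e₂ c := by
      refine spGL_ext fun x => ?_
      have hc : c = d + d := by rw [hd]; field_simp; ring
      simp only [mul_smul, spTv_smul, sympForm_add_left, sympForm_add_right, sympForm_sub_left,
        sympForm_sub_right, sympForm_smul_left, sympForm_self, o.1, o.2, hc]
      module
    have nz : e₁ ≠ 0 ∧ e₂ ≠ 0 ∧ e₁ + e₂ ≠ 0 ∧ e₁ - e₂ ≠ 0 := by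
      refine ⟨?_, ?_, ?_, ?_⟩ <;> intro e
      · simpa [he₁] using congrFun e (.inl i)
      · simpa [he₂] using congrFun e (.inl j)
      · simpa [he₁, he₂, hij] using congrFun e (.inl i)
      · simpa [he₁, he₂, hij] using congrFun e (.inl i)
    have := congrArg π key
    rw [map_mul, map_mul, hinv _ _ nz.1, hinv _ _ nz.2.1, hinv _ _ nz.2.2.1, hinv _ _ nz.2.2.2,
      ← hadd] at this
    have hc : c = d + d := by rw [hd]; field_simp; ring
    rw [← hc] at this
    exact mul_eq_left.1 this.symm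
  · set i : Fin m := ⟨0, by omega⟩
    set j : Fin m := ⟨1, by omega⟩
    set k : Fin m := ⟨2, by omega⟩
    have hij : i ≠ j := by simp [i, j]
    have hik : i ≠ k := by simp [i, k]
    have hjk : j ≠ k := by simp [j, k]
    set e₁ : V := Pi.single (.inl i) 1 with he₁
    set e₂ : V := Pi.single (.inl j) 1 with he₂
    set e₃ : V := Pi.single (.inl k) 1 with he₃
    have o : f e₁ e₂ = 0 ∧ f e₂ e₁ = 0 ∧ f e₁ e₃ = 0 ∧ f e₃ e₁ = 0 ∧ f e₂ e₃ = 0 ∧ f e₃ e₂ = 0 := by
      simp [he₁, he₂, he₃, sympForm_single_inl_left]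
    have key : spTv (e₁ + e₂ + e₃) c * spTv e₁ c * spTv e₂ c * spTv e₃ c =
        spTv (e₁ + e₂) c * spTv (e₁ + e₃) c * spTv (e₂ + e₃) c := by
      refine spGL_ext fun x => ?_
      simp only [mul_smul, spTv_smul, sympForm_add_left, sympForm_add_right, sympForm_smul_left,
        sympForm_self, o.1, o.2.1, o.2.2.1, o.2.2.2.1, o.2.2.2.2.1, o.2.2.2.2.2]
      module
    have nz : e₁ ≠ 0 ∧ e₂ ≠ 0 ∧ e₃ ≠ 0 ∧ e₁ + e₂ ≠ 0 ∧ e₁ + e₃ ≠ 0 ∧ e₂ + e₃ ≠ 0 ∧
        e₁ + e₂ + e₃ ≠ 0 := by
      refine ⟨?_, ?_, ?_, ?_, ?_, ?_, ?_⟩ <;> intro e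
      · simpa [he₁] using congrFun e (.inl i)
      · simpa [he₂] using congrFun e (.inl j)
      · simpa [he₃] using congrFun e (.inl k)
      · simpa [he₁, he₂, hij] using congrFun e (.inl i)
      · simpa [he₁, he₃, hik] using congrFun e (.inl i)
      · simpa [he₂, he₃, hjk] using congrFun e (.inl j)
      · simpa [he₁, he₂, he₃, hij, hik] using congrFun e (.inl i)
    have := congrArg π key
    simp only [map_mul, hinv _ _ nz.1, hinv _ _ nz.2.1, hinv _ _ nz.2.2.1, hinv _ _ nz.2.2.2.1,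
      hinv _ _ nz.2.2.2.2.1, hinv _ _ nz.2.2.2.2.2.1, hinv _ _ nz.2.2.2.2.2.2] at this
    exact mul_eq_left.1 this

theorem commutator_spGL_eq_top
    (h : (∃ a : F, a ≠ 0 ∧ a ^ 2 ≠ 1) ∨ (2 ≤ m ∧ (2 : F) ≠ 0) ∨ 3 ≤ m) :
    commutator (Cfsg.spGL m F) = ⊤ :=
  commutator_eq_top_of_closure closure_spTvSet
    fun _ ⟨w, _, c, hg⟩ => hg ▸ spTv_mem_commutator h w c

theorem commutator_symplecticGroup_eq_top
    (h : (∃ a : F, a ≠ 0 ∧ a ^ 2 ≠ 1) ∨ (2 ≤ m ∧ (2 : F) ≠ 0) ∨ 3 ≤ m) :
    commutator (Matrix.symplecticGroup (Fin m) F) = ⊤ := by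
  refine top_unique fun A _ => ?_
  have h1 : spEquiv m F A ∈ (commutator (Matrix.symplecticGroup (Fin m) F)).map
      (spEquiv m F).toMonoidHom := by
    rw [commutator_def, Subgroup.map_commutator,
      Subgroup.map_top_of_surjective _ (spEquiv m F).surjective, ← commutator_def,
      commutator_spGL_eq_top h]
    trivial
  obtain ⟨B, hB, e⟩ := h1
  rwa [(spEquiv m F).injective e] at hB

theorem perfect_cond_of_card [Fintype F] (m : ℕ)
    (h : 3 ≤ m ∨ (m = 2 ∧ 3 ≤ Fintype.card F) ∨ 4 ≤ Fintype.card F) :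
    (∃ a : F, a ≠ 0 ∧ a ^ 2 ≠ 1) ∨ (2 ≤ m ∧ (2 : F) ≠ 0) ∨ 3 ≤ m := by
  classical
  by_contra hc
  push Not at hc
  obtain ⟨ha, hb, hm⟩ := hc
  have hsub : (Finset.univ : Finset F) ⊆ {0, 1, -1} := by
    intro x _
    by_cases hx : x = 0
    · simp [hx]
    · rcases sq_eq_one_iff.1 (ha x hx) with h | h <;> simp [h]
  have h3 := (Finset.card_le_card hsub).trans Finset.card_le_three
  simp only [Finset.card_univ] at h3
  rcases h with h | ⟨hm2, hq⟩ | h
  · omega
  · have h2 : (2 : F) = 0 := hb (by omega)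
    have hneg : (-1 : F) = 1 := by linear_combination -h2
    rw [hneg] at hsub
    rw [Finset.pair_eq_singleton (1 : F)] at hsub
    have := (Finset.card_le_card hsub).trans Finset.card_le_two
    simp only [Finset.card_univ] at this
    omega
  · omega

/-! ## Primitivity and simplicity -/

theorem exists_orth_not_orth {u v : V} (hu : u ≠ 0) (hv : ∀ a : F, a • u ≠ v) :
    ∃ w, f u w = 0 ∧ f v w ≠ 0 := by
  obtain ⟨w₁, hw₁⟩ := exists_sympForm_ne_zero hu
  have hz : v - (f v w₁ / f u w₁) • u ≠ 0 := fun e => hv _ (sub_eq_zero.1 e).symm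
  obtain ⟨x, hx⟩ := exists_sympForm_ne_zero hz
  refine ⟨x - (f u x / f u w₁) • w₁, by simp [hw₁], fun e => hx ?_⟩
  simp only [sympForm_sub_right, sympForm_smul_right] at e
  simp only [sympForm_sub_left, sympForm_smul_left]
  rw [← e]
  ring

theorem isPretransitive_spGL : IsPretransitive (Cfsg.spGL m F) (ℙ F V) :=
  ⟨fun p q => by
    induction p using Projectivization.ind with | _ u hu => ?_
    induction q using Projectivization.ind with | _ v hv => ?_
    obtain ⟨g, hg⟩ := exists_spGL_smul_eq hu hv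
    refine ⟨g, ?_⟩
    change Projectivization.mk F (g • u) _ = _
    simp only [hg]⟩

theorem spGL_smul_mk (g : Cfsg.spGL m F) {u : V} (hu : u ≠ 0) :
    g • Projectivization.mk F u hu =
      Projectivization.mk F (g • u) ((smul_ne_zero_iff_ne g).mpr hu) := rfl

theorem isBlock_eq_univ {B : Set (ℙ F V)} (hB : IsBlock (Cfsg.spGL m F) B) {p q : ℙ F V}
    (hp : p ∈ B) (hq : q ∈ B) (hpq : p ≠ q) : B = Set.univ := by
  have move : ∀ (g : Cfsg.spGL m F) {a b : ℙ F V}, a ∈ B → g • a ∈ B → b ∈ B → g • b ∈ B := by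
    intro g a b ha hga hb
    rw [← hB.smul_eq_of_mem ha hga]
    exact Set.smul_mem_smul_set hb
  have L : ∀ {a b : V} (ha : a ≠ 0) (hb : b ≠ 0), Projectivization.mk F a ha ∈ B →
      Projectivization.mk F b hb ∈ B → f a b ≠ 0 → ∀ (r : V) (hr : r ≠ 0), f a r ≠ 0 →
      Projectivization.mk F r hr ∈ B := by
    intro a b ha hb hA hBb hab r hr har
    obtain ⟨g, g1, g2⟩ := exists_spGL_pair
      (u := a) (v := (f a b)⁻¹ • b) (u' := a) (v' := (f a r)⁻¹ • r) (by simp [hab]) (by simp [har])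
    have hga : g • Projectivization.mk F a ha = Projectivization.mk F a ha := by
      rw [spGL_smul_mk]; simp only [g1]
    have := move g hA (hga.symm ▸ hA) hBb
    convert this using 1
    rw [spGL_smul_mk]
    refine ((Projectivization.mk_eq_mk_iff' F _ _ _ _).2 ⟨f a b * (f a r)⁻¹, ?_⟩).symm
    rw [smul_comm] at g2
    have e : (f a b)⁻¹ • (g • b) = (f a r)⁻¹ • r := by rw [← g2, smul_comm]
    rw [← inv_smul_smul₀ (inv_ne_zero hab) (g • b), e]
    simp [smul_smul]
  -- a non-orthogonal pair in the block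
  obtain ⟨u, hu, hU, v, hv, hVm, huv⟩ : ∃ (u : V) (hu : u ≠ 0) (_ : Projectivization.mk F u hu ∈ B)
      (v : V) (hv : v ≠ 0), Projectivization.mk F v hv ∈ B ∧ f u v ≠ 0 := by
    induction p using Projectivization.ind with | _ u hu => ?_
    induction q using Projectivization.ind with | _ v hv => ?_
    by_cases huv : f u v ≠ 0
    · exact ⟨u, hu, hp, v, hv, hq, huv⟩
    push Not at huv
    obtain ⟨w, hw1, hw2⟩ := exists_orth_not_orth (v := v) hu fun a ha =>
      hpq ((Projectivization.mk_eq_mk_iff' F _ _ _ _).2 ⟨a⁻¹, by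
        have ha0 : a ≠ 0 := fun e => hv (by rw [← ha, e, zero_smul])
        subst ha
        exact inv_smul_smul₀ ha0 u⟩)
    have hgu : spTv w (1 : F) • Projectivization.mk F u hu = Projectivization.mk F u hu := by
      rw [spGL_smul_mk]; simp [spTv_smul, hw1]
    have hg := move (spTv w (1 : F)) hp (hgu.symm ▸ hp) hq
    rw [spGL_smul_mk] at hg
    refine ⟨v, hv, hq, _, _, hg, ?_⟩
    simp [spTv_smul, hw2]
  refine Set.eq_univ_iff_forall.2 fun r => ?_
  induction r using Projectivization.ind with | _ r hr => ?_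
  by_cases hur : f u r ≠ 0
  · exact L hu hv hU hVm huv r hr hur
  · obtain ⟨w₁, hw₁⟩ := exists_sympForm_ne_zero hr
    push Not at hur
    obtain ⟨w, h1, h2⟩ : ∃ w, f u w ≠ 0 ∧ f r w ≠ 0 := by
      by_cases a : f u w₁ ≠ 0
      · exact ⟨w₁, a, hw₁⟩
      by_cases b : f r v ≠ 0
      · exact ⟨v, huv, b⟩
      push Not at a b
      exact ⟨w₁ + v, by simp [a, huv], by simp [b, hw₁]⟩
    have hw0 : w ≠ 0 := fun e => by simp [e] at h1
    have hW := L hu hv hU hVm huv w hw0 h1
    exact L hw0 hu hW hU (by rwa [sympForm_swap, neg_ne_zero]) r hr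
      (by rwa [sympForm_swap, neg_ne_zero])

theorem isPreprimitive_spGL : IsPreprimitive (Cfsg.spGL m F) (ℙ F V) := by
  have := isPretransitive_spGL (m := m) (F := F)
  refine ⟨fun {B} hB => ?_⟩
  by_cases hs : B.Subsingleton
  · exact .inl hs
  · obtain ⟨p, hp, q, hq, hpq⟩ := Set.not_subsingleton_iff.1 hs
    exact .inr (isBlock_eq_univ hB hp hq hpq)

theorem mem_center_of_fix_points (g : Cfsg.spGL m F) (hg : ∀ p : ℙ F V, g • p = p) :
    g ∈ Subgroup.center (Cfsg.spGL m F) := by
  obtain ⟨a, ha⟩ := (Matrix.toLin' g.1.1).exists_eq_smul_id_of_forall_notLinearIndependent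
    fun v : V => by
      by_cases hv : v = 0
      · simp [hv, linearIndependent_fin2]
      · have := hg (Projectivization.mk F v hv)
        rw [spGL_smul_mk, Projectivization.mk_eq_mk_iff'] at this
        obtain ⟨b, hb⟩ := this
        simpa [LinearIndependent.pair_iff' hv] using ⟨b, hb⟩
  have hs : ∀ x : V, g • x = a • x := fun x => LinearMap.congr_fun ha x
  refine Subgroup.mem_center_iff.2 fun h => spGL_ext fun x => ?_
  rw [mul_smul, mul_smul, hs, hs, smul_comm]

/-- The root groups of `spGL` form an Iwasawa structure. -/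
noncomputable def spTvHom (v : V) : Multiplicative F →* Cfsg.spGL m F :=
  MonoidHom.mk' (fun c => spTv v c.toAdd) fun a b => spTv_add v a.toAdd b.toAdd

theorem spTvHom_range_smul {a : F} (ha : a ≠ 0) (v : V) :
    (spTvHom (a • v)).range = (spTvHom v).range := by
  ext g
  constructor
  · rintro ⟨c, rfl⟩
    exact ⟨Multiplicative.ofAdd (a ^ 2 * c.toAdd), (spTv_smul_vec a v c.toAdd).symm⟩
  · rintro ⟨c, rfl⟩
    refine ⟨Multiplicative.ofAdd ((a ^ 2)⁻¹ * c.toAdd), ?_⟩
    change spTv (a • v) _ = spTv v _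
    rw [spTv_smul_vec, toAdd_ofAdd, ← mul_assoc, mul_inv_cancel₀ (pow_ne_zero 2 ha), one_mul]

theorem spTvHom_range_rep {v : V} (hv : v ≠ 0) :
    (spTvHom (Projectivization.mk F v hv).rep).range = (spTvHom v).range := by
  obtain ⟨a, ha⟩ := Projectivization.exists_smul_eq_mk_rep F v hv
  rw [← ha, Units.smul_def, spTvHom_range_smul a.ne_zero]

/-- The Iwasawa structure of `spGL` on the points of projective space. -/
noncomputable def spIwasawa : IwasawaStructure (Cfsg.spGL m F) (ℙ F V) where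
  T p := (spTvHom p.rep).range
  is_comm p := inferInstance
  is_conj g p := by
    induction p using Projectivization.ind with | _ v hv => ?_
    rw [spGL_smul_mk, spTvHom_range_rep, spTvHom_range_rep]
    ext x
    rw [Subgroup.mem_pointwise_smul_iff_inv_smul_mem]
    simp only [MonoidHom.mem_range, MulAut.smul_def, MulAut.inv_apply, MulAut.conj_symm_apply]
    constructor
    · rintro ⟨c, rfl⟩
      refine ⟨c, ?_⟩
      change spTv v _ = g⁻¹ * spTv (g • v) _ * g
      rw [← spTv_conj]; group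
    · rintro ⟨c, hc⟩
      refine ⟨c, ?_⟩
      change spTv (g • v) _ = x
      rw [← spTv_conj]
      change g * spTvHom v c * g⁻¹ = x
      rw [hc]; group
  is_generator := by
    refine top_unique (closure_spTvSet (m := m) (F := F) ▸ (Subgroup.closure_le _).2 ?_)
    rintro _ ⟨w, _, c, rfl⟩
    by_cases hw : w = 0
    · subst hw; rw [spTv_zero_vec]; exact one_mem _
    · refine Subgroup.mem_iSup_of_mem (Projectivization.mk F w hw) ?_
      rw [spTvHom_range_rep]
      exact ⟨Multiplicative.ofAdd c, rfl⟩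

theorem isSimpleGroup_PSp (hm : 1 ≤ m)
    (h : (∃ a : F, a ≠ 0 ∧ a ^ 2 ≠ 1) ∨ (2 ≤ m ∧ (2 : F) ≠ 0) ∨ 3 ≤ m) :
    IsSimpleGroup (Cfsg.PSp m F) := by
  have := isPreprimitive_spGL (m := m) (F := F)
  have : Nontrivial (ℙ F V) :=
    ⟨⟨Projectivization.mk F (Pi.single (.inl ⟨0, hm⟩) 1) (by simp),
      Projectivization.mk F (Pi.single (.inr ⟨0, hm⟩) 1) (by simp), fun e => by
        obtain ⟨a, ha⟩ := (Projectivization.mk_eq_mk_iff' F _ _ _ _).1 e
        simpa using congrFun ha (.inl ⟨0, hm⟩)⟩⟩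
  have hs := isSimpleGroup_quotient_center_of_iwasawa (commutator_spGL_eq_top h)
    (spIwasawa (m := m) (F := F)) mem_center_of_fix_points
  have e : Cfsg.PSp m F ≃* Cfsg.spGL m F ⧸ Subgroup.center (Cfsg.spGL m F) :=
    QuotientGroup.congr _ _ (spEquiv m F) (by
      ext x
      simp only [Subgroup.mem_map, Subgroup.mem_center_iff]
      refine ⟨fun ⟨y, hy, hxy⟩ z => ?_, fun hx => ⟨(spEquiv m F).symm x, fun z => ?_, by simp⟩⟩
      · rw [← hxy, ← (spEquiv m F).apply_symm_apply z]
        simp only [MonoidHom.coe_coe, ← map_mul, hy]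
      · apply (spEquiv m F).injective
        simp only [map_mul, MulEquiv.apply_symm_apply, hx])
  have : Nontrivial (Cfsg.PSp m F) := e.toEquiv.nontrivial
  exact IsSimpleGroup.isSimpleGroup_of_surjective e.symm.toMonoidHom e.symm.surjective

end Cfsg.Agent.Linear
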