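import Cfsg.Agent.EqLemmas

/-!
# Bases of pairs and quadratic equations over finite fields

* `exists_sq_sub_eq`, `exists_norm_eq`: `u² - a u - z w² = b`, and surjectivity of a quadratic norm.
* `exists_neg_one_pow_iff`: `c^n = -1` is solvable iff `ν₂(n) < ν₂(q-1)`.
* `pairHom`: block diagonal matrices with `2 × 2` blocks in a given basis.
* `exists_pairs`: a matrix satisfying `J² = aJ + b` (no root in the field) is conjugate to a block
  diagonal of companion matrices.
-/

set_option autoImplicit false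
open Matrix

namespace Cfsg.Agent.Linear

variable {F : Type*} [Field F]

/-- The companion matrix of `X² - aX - b`. -/
def comp2 (a b : F) : Matrix (Fin 2) (Fin 2) F := !![0, b; 1, a]

theorem comp2_sq (a b : F) : comp2 a b * comp2 a b = a • comp2 a b + b • 1 := by
  ext i j; fin_cases i <;> fin_cases j <;> simp [comp2] <;> ring

theorem exists_sq_sub_eq [Fintype F] (a b z : F) (hz : z ≠ 0) :
    ∃ u w : F, u ^ 2 - a * u - z * w ^ 2 = b := by
  by_cases h2 : ringChar F = 2
  · obtain ⟨w, hw⟩ := FiniteField.isSquare_of_char_two h2 (-b / z)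
    refine ⟨0, w, ?_⟩
    rw [sq w, ← hw]; field_simp; ring
  · obtain ⟨u, w, h⟩ := FiniteField.exists_root_sum_quadratic
      (f := Polynomial.C (1 : F) * Polynomial.X ^ 2 + Polynomial.C (-a) * Polynomial.X + Polynomial.C (-b))
      (g := Polynomial.C (-z) * Polynomial.X ^ 2)
      (Polynomial.degree_quadratic one_ne_zero) (Polynomial.degree_C_mul_X_pow 2 (neg_ne_zero.2 hz))
      (FiniteField.odd_card_of_char_ne_two h2)
    refine ⟨u, w, ?_⟩
    simp at h
    linear_combination h

theorem exists_norm_eq [Fintype F] (a b d : F) (hno : ∀ c : F, c * c ≠ a * c + b) :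
    ∃ x y : F, x * x + a * x * y - b * (y * y) = d := by
  by_cases h2 : ringChar F = 2
  · obtain ⟨x, hx⟩ := FiniteField.isSquare_of_char_two h2 d
    exact ⟨x, 0, by rw [hx]; ring⟩
  · have h2' : (2 : F) ≠ 0 := Ring.two_ne_zero h2
    have hz : b + a * a / 4 ≠ 0 := by
      intro h
      apply hno (a / 2)
      have h4 : (4 : F) = 2 * 2 := by norm_num
      rw [h4] at h
      field_simp at h ⊢
      linear_combination -h
    obtain ⟨u, w, h⟩ := exists_sq_sub_eq (0 : F) d _ hz
    refine ⟨u - a * w / 2, w, ?_⟩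
    rw [← h]
    have h4 : (4 : F) = 2 * 2 := by norm_num
    rw [h4]
    field_simp
    ring

theorem exists_neg_one_pow_iff [Fintype F] {n : ℕ} (hn : n ≠ 0) (h2 : (2 : F) ≠ 0) :
    (∃ c : F, c ^ n = -1) ↔ padicValNat 2 n < padicValNat 2 (Fintype.card F - 1) := by
  have hm1 : (-1 : F) ≠ 1 := by
    intro h; apply h2; linear_combination -h
  have hN : Fintype.card F - 1 ≠ 0 := by have := Fintype.one_lt_card (α := F); omega
  set t := padicValNat 2 n with ht
  obtain ⟨m, hm⟩ : 2 ^ t ∣ n := pow_padicValNat_dvd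
  have hmodd : Odd m := by
    rw [← Nat.not_even_iff_odd, even_iff_two_dvd]
    intro h
    refine pow_succ_padicValNat_not_dvd (p := 2) hn ?_
    rw [← ht, pow_succ, hm]
    exact Nat.mul_dvd_mul_left _ h
  have : Fact (Nat.Prime 2) := ⟨Nat.prime_two⟩
  constructor
  · rintro ⟨c, hc⟩
    have hc0 : c ≠ 0 := by
      rintro rfl; rw [zero_pow hn] at hc; exact one_ne_zero (neg_eq_zero.1 hc.symm)
    set h := (Units.mk0 c hc0) ^ m with hh
    have e1 : ¬ h ^ 2 ^ t = 1 := by
      intro e
      rw [hh, ← pow_mul, mul_comm, ← hm] at e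
      have e' := congrArg Units.val e
      rw [Units.val_pow_eq_pow_val, Units.val_mk0, Units.val_one, hc] at e'
      exact hm1 e'
    have e2 : h ^ 2 ^ (t + 1) = 1 := by
      rw [hh, ← pow_mul, show m * 2 ^ (t + 1) = n * 2 by rw [hm, pow_succ]; ring, pow_mul]
      apply Units.ext
      simp [hc]
    have hord : orderOf h = 2 ^ (t + 1) := orderOf_eq_prime_pow e1 e2
    have hdvd : 2 ^ (t + 1) ∣ Fintype.card F - 1 := by
      rw [← hord, ← Nat.card_eq_fintype_card, ← Nat.card_units]
      exact orderOf_dvd_natCard h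
    exact (padicValNat_dvd_iff_le hN).1 hdvd
  · intro hlt
    have hdvd : 2 ^ (t + 1) ∣ Fintype.card F - 1 := (padicValNat_dvd_iff_le hN).2 hlt
    obtain ⟨g, hg⟩ := IsCyclic.exists_ofOrder_eq_natCard (α := Fˣ)
    rw [Nat.card_units, Nat.card_eq_fintype_card] at hg
    obtain ⟨e, he⟩ := hdvd
    have hord : orderOf (g ^ e) = 2 ^ (t + 1) := by
      have he0 : e ≠ 0 := by rintro rfl; simp at he; exact hN he
      rw [orderOf_pow_of_dvd he0 (by rw [hg, he]; exact dvd_mul_left _ _), hg, he,
        Nat.mul_div_cancel _ (Nat.pos_of_ne_zero he0)]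
    set u := g ^ e
    have e1 : ((u : F) ^ 2 ^ t) ^ 2 = 1 := by
      rw [← pow_mul, ← pow_succ, ← hord, ← Units.val_pow_eq_pow_val, pow_orderOf_eq_one, Units.val_one]
    have e2 : (u : F) ^ 2 ^ t ≠ 1 := by
      intro h
      have h' : u ^ 2 ^ t = 1 := Units.ext (by rwa [Units.val_pow_eq_pow_val])
      have := orderOf_dvd_of_pow_eq_one h'
      rw [hord, Nat.pow_dvd_pow_iff_le_right (by norm_num)] at this
      omega
    refine ⟨(u : F), ?_⟩
    rw [hm, pow_mul, (sq_eq_one_iff.1 e1).resolve_left e2, hmodd.neg_one_pow]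

variable {n : ℕ} {ι : Type*} [Fintype ι] [DecidableEq ι]

/-- Block diagonal matrices in the basis given by `e` and `P`. -/
noncomputable def pairHom (e : Fin 2 × ι ≃ Fin n) (P : GL (Fin n) F) :
    (ι → Matrix (Fin 2) (Fin 2) F) →+* Matrix (Fin n) (Fin n) F where
  toFun M := (P : Matrix (Fin n) (Fin n) F) * Matrix.reindexAlgEquiv F F e (Matrix.blockDiagonal M) *
    ((P⁻¹ : GL (Fin n) F) : Matrix (Fin n) (Fin n) F)
  map_one' := by simp
  map_zero' := by simp
  map_mul' M N := by
    have h : Matrix.blockDiagonal (M * N) = Matrix.blockDiagonal M * Matrix.blockDiagonal N :=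
      Matrix.blockDiagonal_mul M N
    rw [h, map_mul]
    simp only [mul_assoc, Units.inv_mul_cancel_left]
  map_add' M N := by
    rw [Matrix.blockDiagonal_add, map_add, mul_add, add_mul]

theorem pairHom_smul (e : Fin 2 × ι ≃ Fin n) (P : GL (Fin n) F) (c : F)
    (M : ι → Matrix (Fin 2) (Fin 2) F) : pairHom e P (c • M) = c • pairHom e P M := by
  show _ * Matrix.reindexAlgEquiv F F e _ * _ = c • (_ * Matrix.reindexAlgEquiv F F e _ * _)
  rw [Matrix.blockDiagonal_smul, map_smul, Matrix.mul_smul, Matrix.smul_mul]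

theorem det_pairHom (e : Fin 2 × ι ≃ Fin n) (P : GL (Fin n) F) (M : ι → Matrix (Fin 2) (Fin 2) F) :
    (pairHom e P M).det = ∏ i, (M i).det := by
  show (_ * Matrix.reindexAlgEquiv F F e _ * _).det = _
  rw [Matrix.det_mul, Matrix.det_mul, mul_right_comm, ← Matrix.det_mul, ← Units.val_mul,
    mul_inv_cancel, Units.val_one, Matrix.det_one, one_mul, Matrix.det_reindexAlgEquiv,
    Matrix.det_blockDiagonal]

/-- A matrix acting on a basis of pairs through the blocks `M` equals `pairHom`. -/
theorem eq_pairHom_of_basis (e : Fin 2 × ι ≃ Fin n) (A : Matrix (Fin n) (Fin n) F)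
    (w : Fin 2 × ι → (Fin n → F)) (hw : LinearIndependent F w) :
    ∃ P : GL (Fin n) F, (∀ M : ι → Matrix (Fin 2) (Fin 2) F,
      (∀ k, A *ᵥ w k = M k.2 0 k.1 • w (0, k.2) + M k.2 1 k.1 • w (1, k.2)) → A = pairHom e P M) := by
  let Q : Matrix (Fin n) (Fin n) F := Matrix.of fun r c => w (e.symm c) r
  have hQ : Q.det ≠ 0 := by
    have hu : LinearIndependent F Q.col := hw.comp _ e.symm.injective
    exact ((Matrix.isUnit_iff_isUnit_det Q).mp (Matrix.linearIndependent_cols_iff_isUnit.mp hu)).ne_zero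
  refine ⟨GeneralLinearGroup.mkOfDetNeZero Q hQ, fun M h => ?_⟩
  set P := GeneralLinearGroup.mkOfDetNeZero Q hQ with hP
  have key : A * Q = Q * Matrix.reindexAlgEquiv F F e (Matrix.blockDiagonal M) := by
    ext r c
    obtain ⟨⟨k, i⟩, rfl⟩ := e.surjective c
    have h1 : (A * Q) r (e (k, i)) = (A *ᵥ w (k, i)) r := by
      simp [Matrix.mul_apply, Matrix.mulVec, dotProduct, Q]
    rw [h1, h (k, i), Matrix.mul_apply, ← e.sum_comp, Fintype.sum_prod_type, Fin.sum_univ_two]
    simp [Q, Matrix.coe_reindexAlgEquiv, Matrix.reindex_apply, Matrix.blockDiagonal_apply,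
      Finset.sum_ite_eq', mul_comm]
  show A = Q * Matrix.reindexAlgEquiv F F e _ * ((P⁻¹ : GL (Fin n) F) : Matrix (Fin n) (Fin n) F)
  rw [← key, mul_assoc, show Q = (P : Matrix (Fin n) (Fin n) F) from rfl, ← Units.val_mul,
    mul_inv_cancel, Units.val_one, mul_one]

/-- Outside an invariant subspace, `v` and `J v` are independent modulo it. -/
theorem pair_indep (J : Matrix (Fin n) (Fin n) F) (a b : F) (hJ : J * J = a • J + b • 1)
    (hno : ∀ c : F, c * c ≠ a * c + b) {W : Submodule F (Fin n → F)} (hW : ∀ x ∈ W, J *ᵥ x ∈ W)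
    {u : Fin n → F} (hu : u ∉ W) {α β : F} (h : α • u + β • (J *ᵥ u) ∈ W) : α = 0 ∧ β = 0 := by
  by_cases hβ : β = 0
  · subst hβ
    rw [zero_smul, add_zero] at h
    refine ⟨?_, rfl⟩
    by_contra hα
    exact hu (by simpa [smul_smul, inv_mul_cancel₀ hα] using W.smul_mem α⁻¹ h)
  · exfalso
    set γ := β⁻¹ * α with hγ
    have h1 : γ • u + J *ᵥ u ∈ W := by
      have := W.smul_mem β⁻¹ h
      rwa [smul_add, smul_smul, smul_smul, inv_mul_cancel₀ hβ, one_smul] at this
    have h2 := hW _ h1
    rw [Matrix.mulVec_add, Matrix.mulVec_smul, Matrix.mulVec_mulVec, hJ, Matrix.add_mulVec,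
      Matrix.smul_mulVec, Matrix.smul_mulVec, Matrix.one_mulVec] at h2
    have h3 : (b - γ * (a + γ)) • u ∈ W := by
      have h4 := W.sub_mem h2 (W.smul_mem (a + γ) h1)
      convert h4 using 1
      module
    have hne : b - γ * (a + γ) ≠ 0 := fun h0 => hno (-γ) (by linear_combination -h0)
    exact hu (by simpa [smul_smul, inv_mul_cancel₀ hne] using W.smul_mem (b - γ * (a + γ))⁻¹ h3)

/-- The family `v i, J v i`. -/
def pairFam (J : Matrix (Fin n) (Fin n) F) {m : ℕ} (v : Fin m → Fin n → F) :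
    Fin 2 × Fin m → Fin n → F :=
  fun k => if k.1 = 0 then v k.2 else J *ᵥ v k.2

theorem pairFam_invt (J : Matrix (Fin n) (Fin n) F) (a b : F) (hJ : J * J = a • J + b • 1) {m : ℕ}
    (v : Fin m → Fin n → F) :
    ∀ x ∈ Submodule.span F (Set.range (pairFam J v)), J *ᵥ x ∈ Submodule.span F (Set.range (pairFam J v)) := by
  intro x hx
  have hle : Submodule.span F (Set.range (pairFam J v)) ≤
      Submodule.comap (Matrix.toLin' J) (Submodule.span F (Set.range (pairFam J v))) := by
    rw [Submodule.span_le]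
    rintro _ ⟨⟨k, i⟩, rfl⟩
    show J *ᵥ pairFam J v (k, i) ∈ Submodule.span F (Set.range (pairFam J v))
    fin_cases k
    · exact Submodule.subset_span ⟨(1, i), by simp [pairFam]⟩
    · simp only [pairFam, Fin.mk_one, one_ne_zero, if_false, Matrix.mulVec_mulVec, hJ,
        Matrix.add_mulVec, Matrix.smul_mulVec, Matrix.one_mulVec]
      exact Submodule.add_mem _ (Submodule.smul_mem _ _ (Submodule.subset_span ⟨(1, i), by simp [pairFam]⟩))
        (Submodule.smul_mem _ _ (Submodule.subset_span ⟨(0, i), by simp [pairFam]⟩))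
  simpa using hle hx

/-- A family of pairs can be extended by any vector outside its span. -/
theorem pairFam_snoc (J : Matrix (Fin n) (Fin n) F) (a b : F) (hJ : J * J = a • J + b • 1)
    (hno : ∀ c : F, c * c ≠ a * c + b) {m : ℕ} {v : Fin m → Fin n → F}
    (hv : LinearIndependent F (pairFam J v)) {u : Fin n → F}
    (hu : u ∉ Submodule.span F (Set.range (pairFam J v))) :
    LinearIndependent F (pairFam J (Fin.snoc v u)) := by
  set W := Submodule.span F (Set.range (pairFam J v)) with hW
  rw [Fintype.linearIndependent_iff]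
  intro g hg
  rw [Fintype.sum_prod_type, Fin.sum_univ_two] at hg
  simp only [pairFam, if_true, one_ne_zero, if_false, Fin.sum_univ_castSucc, Fin.snoc_castSucc,
    Fin.snoc_last] at hg
  have hmem : g (0, Fin.last m) • u + g (1, Fin.last m) • (J *ᵥ u) ∈ W := by
    have h1 : g (0, Fin.last m) • u + g (1, Fin.last m) • (J *ᵥ u) =
        -(∑ i : Fin m, (g (0, i.castSucc) • v i + g (1, i.castSucc) • (J *ᵥ v i))) := by
      rw [eq_neg_iff_add_eq_zero, ← hg, Finset.sum_add_distrib]; abel
    rw [h1]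
    exact W.neg_mem (W.sum_mem fun i _ => W.add_mem
      (W.smul_mem _ (Submodule.subset_span ⟨(0, i), by simp [pairFam]⟩))
      (W.smul_mem _ (Submodule.subset_span ⟨(1, i), by simp [pairFam]⟩)))
  obtain ⟨g0, g1⟩ := pair_indep J a b hJ hno (pairFam_invt J a b hJ v) hu hmem
  simp only [g0, g1, zero_smul, add_zero] at hg
  have h2 := Fintype.linearIndependent_iff.1 hv (fun k => g (k.1, k.2.castSucc))
    (by rw [Fintype.sum_prod_type, Fin.sum_univ_two]; simpa [pairFam] using hg)
  rintro ⟨k, i⟩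
  induction i using Fin.lastCases with
  | last => fin_cases k <;> assumption
  | cast i => exact h2 (k, i)

/-- `J² = aJ + b` without roots in `F`: a basis `v_i, J v_i`. -/
theorem exists_pairs (J : Matrix (Fin n) (Fin n) F) (a b : F) (hJ : J * J = a • J + b • 1)
    (hno : ∀ c : F, c * c ≠ a * c + b) :
    Even n ∧ ∀ (m : ℕ) (e : Fin 2 × Fin m ≃ Fin n), ∃ P : GL (Fin n) F,
      J = pairHom e P fun _ => comp2 a b := by
  classical
  have grow : ∀ m : ℕ, 2 * m ≤ n + 1 → ∃ v : Fin m → Fin n → F, LinearIndependent F (pairFam J v) := by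
    intro m
    induction m with
    | zero => exact fun _ => ⟨Fin.elim0, linearIndependent_empty_type⟩
    | succ m ih =>
      intro hm
      obtain ⟨v, hv⟩ := ih (by omega)
      obtain ⟨u, hu⟩ : ∃ u, u ∉ Submodule.span F (Set.range (pairFam J v)) := by
        by_contra hall
        push Not at hall
        have hd := finrank_span_eq_card hv
        rw [(eq_top_iff.2 fun x _ => hall x : Submodule.span F (Set.range (pairFam J v)) = ⊤),
          finrank_top, Module.finrank_fin_fun] at hd
        simp at hd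
        omega
      exact ⟨_, pairFam_snoc J a b hJ hno hv hu⟩
  have hev : Even n := by
    by_contra hodd
    rw [Nat.not_even_iff_odd] at hodd
    obtain ⟨m, rfl⟩ := hodd
    obtain ⟨v, hv⟩ := grow (m + 1) (by omega)
    have := hv.fintype_card_le_finrank
    simp at this
    omega
  refine ⟨hev, fun m e => ?_⟩
  have hmn : 2 * m = n := by simpa using Fintype.card_congr e
  obtain ⟨v, hv⟩ := grow m (by omega)
  obtain ⟨P, hP⟩ := eq_pairHom_of_basis e J (pairFam J v) hv
  refine ⟨P, hP _ ?_⟩
  rintro ⟨k, i⟩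
  fin_cases k
  · simp [pairFam, comp2]
  · simp only [pairFam, Fin.mk_one, one_ne_zero, if_false, Matrix.mulVec_mulVec, hJ,
      Matrix.add_mulVec, Matrix.smul_mulVec, Matrix.one_mulVec]
    simp [comp2, add_comm]

end Cfsg.Agent.Linear
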