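import Cfsg.Agent.EqLemmas
import Cfsg.Agent.Lib.Linear.BlockPairs
import Cfsg.Agent.Lib.GLOrder.Symplectic

/-!
# Block diagonal matrices as similitudes of alternating forms

`exists_std_basis` (a hyperbolic basis for an alternating form given as a function) and
`exists_conj_mem_similarity`: a matrix with `2 × 2` blocks of one determinant whose centraliser has
all determinants is conjugate in `SL` into every symplectic similarity group.
-/

set_option autoImplicit false
open Matrix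

namespace Cfsg.Agent.Linear

variable {F : Type*} [Field F] {n m : ℕ}

/-- The standard alternating form in pair coordinates. -/
def stdPairForm (e : Fin 2 × Fin m ≃ Fin n) (u v : Fin n → F) : F :=
  ∑ i, (u (e (0, i)) * v (e (1, i)) - u (e (1, i)) * v (e (0, i)))

/-- A form as a bilinear map. -/
def toBilin {f : (Fin n → F) → (Fin n → F) → F} (hf : Cfsg.Geo.IsBilinearForm f) :
    LinearMap.BilinForm F (Fin n → F) :=
  LinearMap.mk₂ F f hf.add_left hf.smul_left hf.add_right hf.smul_right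

theorem exists_std_basis (e : Fin 2 × Fin m ≃ Fin n) {f : (Fin n → F) → (Fin n → F) → F}
    (hf : Cfsg.Geo.IsSymplecticForm f) :
    ∃ P : GL (Fin n) F, ∀ u v, f ((P : Matrix (Fin n) (Fin n) F) *ᵥ u) ((P : Matrix (Fin n) (Fin n) F) *ᵥ v) =
      stdPairForm e u v := by
  classical
  set B := toBilin hf.bilinear with hB
  have hBf : ∀ u v, B u v = f u v := fun u v => rfl
  have hmn : 2 * m = n := by simpa using Fintype.card_congr e
  obtain ⟨⟨⟨a, b⟩, h1, h2, h3⟩⟩ := GLOrder.nonempty_frame m B (fun x => hf.alternating x)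
    (fun x hx => by
      by_contra hne
      obtain ⟨y, hy⟩ := (hf.nondegenerate x hne).2
      exact hy (hx y)) (by rw [Module.finrank_fin_fun]; omega)
  simp only at h1 h2 h3
  let w : Fin 2 × Fin m → (Fin n → F) := fun k => if k.1 = 0 then a k.2 else b k.2
  have h4 : ∀ i j, B (b i) (a j) = -(if j = i then 1 else 0) := fun i j => by
    rw [← h3 j i, hBf, hBf, hf.skew]
  have hexp : ∀ c d : Fin 2 × Fin m → F, B (∑ k, c k • w k) (∑ k, d k • w k) =
      ∑ i, (c (0, i) * d (1, i) - c (1, i) * d (0, i)) := by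
    intro c d
    simp only [Fintype.sum_prod_type, Fin.sum_univ_two, w, if_true, one_ne_zero, if_false, map_add, map_sum,
      map_smul, LinearMap.add_apply, LinearMap.sum_apply, LinearMap.smul_apply, h1, h2, h3, h4, smul_eq_mul,
      mul_zero, Finset.sum_const_zero, zero_add, add_zero, mul_neg, mul_ite, mul_one, Finset.sum_neg_distrib,
      Finset.sum_ite_eq, Finset.sum_ite_eq', Finset.mem_univ]
    rw [Finset.sum_sub_distrib]
    simp only [mul_comm]
    ring
  have hind : LinearIndependent F w := by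
    rw [Fintype.linearIndependent_iff]
    intro c hc
    have key : ∀ d : Fin 2 × Fin m → F, ∑ i, (c (0, i) * d (1, i) - c (1, i) * d (0, i)) = 0 := fun d => by
      rw [← hexp c d, hc, map_zero, LinearMap.zero_apply]
    rintro ⟨k, i⟩
    fin_cases k
    · have := key (Pi.single (1, i) 1)
      simpa [Pi.single_apply] using this
    · have := key (Pi.single (0, i) 1)
      simpa [Pi.single_apply] using this
  let Q : Matrix (Fin n) (Fin n) F := Matrix.of fun r k => w (e.symm k) r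
  have hQ : Q.det ≠ 0 := by
    have hu : LinearIndependent F Q.col := hind.comp _ e.symm.injective
    exact ((Matrix.isUnit_iff_isUnit_det Q).mp (Matrix.linearIndependent_cols_iff_isUnit.mp hu)).ne_zero
  refine ⟨GeneralLinearGroup.mkOfDetNeZero Q hQ, fun u v => ?_⟩
  have hQv : ∀ u : Fin n → F, Q *ᵥ u = ∑ k, u (e k) • w k := by
    intro u
    funext r
    rw [Finset.sum_apply, Matrix.mulVec, dotProduct, ← e.sum_comp]
    refine Finset.sum_congr rfl fun k _ => ?_
    simp [Q, mul_comm]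
  show f (Q *ᵥ u) (Q *ᵥ v) = _
  rw [← hBf, hQv, hQv, hexp]
  rfl

theorem pairHom_mulVec (e : Fin 2 × Fin m ≃ Fin n) (M : Fin m → Matrix (Fin 2) (Fin 2) F) (u : Fin n → F)
    (k : Fin 2) (i : Fin m) :
    (pairHom e 1 M *ᵥ u) (e (k, i)) = M i k 0 * u (e (0, i)) + M i k 1 * u (e (1, i)) := by
  have h1 : pairHom e 1 M = Matrix.reindexAlgEquiv F F e (Matrix.blockDiagonal M) := by
    show (1 : Matrix (Fin n) (Fin n) F) * Matrix.reindexAlgEquiv F F e (Matrix.blockDiagonal M) * _ = _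
    simp
  rw [h1, Matrix.mulVec, dotProduct, ← e.sum_comp, Fintype.sum_prod_type, Fin.sum_univ_two]
  simp [Matrix.coe_reindexAlgEquiv, Matrix.reindex_apply, Matrix.blockDiagonal_apply, Finset.sum_ite_eq]

theorem pairHom_mul_self (e : Fin 2 × Fin m ≃ Fin n) (P : GL (Fin n) F) (M : Fin m → Matrix (Fin 2) (Fin 2) F) :
    pairHom e P M * (P : Matrix (Fin n) (Fin n) F) = (P : Matrix (Fin n) (Fin n) F) * pairHom e 1 M := by
  show ((P : Matrix (Fin n) (Fin n) F) * Matrix.reindexAlgEquiv F F e (Matrix.blockDiagonal M) *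
      ((P⁻¹ : GL (Fin n) F) : Matrix (Fin n) (Fin n) F)) * (P : Matrix (Fin n) (Fin n) F) =
    (P : Matrix (Fin n) (Fin n) F) * (((1 : GL (Fin n) F) : Matrix (Fin n) (Fin n) F) *
      Matrix.reindexAlgEquiv F F e (Matrix.blockDiagonal M) * (((1 : GL (Fin n) F)⁻¹ : GL (Fin n) F) : Matrix (Fin n) (Fin n) F))
  simp [mul_assoc]

theorem exists_conj_mem_similarity (e : Fin 2 × Fin m ≃ Fin n) {f : (Fin n → F) → (Fin n → F) → F}
    (hf : Cfsg.Geo.IsSymplecticForm f) (P : GL (Fin n) F) (M : Fin m → Matrix (Fin 2) (Fin 2) F) (δ : F)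
    (hδ : δ ≠ 0) (hM : ∀ i, (M i).det = δ) (x : Matrix.SpecialLinearGroup (Fin n) F)
    (hx : (x : Matrix (Fin n) (Fin n) F) = pairHom e P M)
    (hdet : ∀ d : F, d ≠ 0 → ∃ C : Matrix (Fin n) (Fin n) F, C.det = d ∧
      C * (x : Matrix (Fin n) (Fin n) F) = (x : Matrix (Fin n) (Fin n) F) * C) :
    ∃ Q : Matrix.SpecialLinearGroup (Fin n) F, Q⁻¹ * x * Q ∈ (Cfsg.Geo.similarityGroup f).comap
      (Matrix.SpecialLinearGroup.toGL : Matrix.SpecialLinearGroup (Fin n) F →* GL (Fin n) F) := by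
  obtain ⟨P₀, hP₀⟩ := exists_std_basis e hf
  set G : GL (Fin n) F := P * P₀⁻¹ with hG
  obtain ⟨C, hCd, hC⟩ := hdet _ (inv_ne_zero G.det_ne_zero)
  let Q : Matrix.SpecialLinearGroup (Fin n) F :=
    ⟨C * G, by rw [Matrix.det_mul, hCd, inv_mul_cancel₀ G.det_ne_zero]⟩
  refine ⟨Q, Units.mk0 δ hδ, fun u v => ?_⟩
  set y : Matrix (Fin n) (Fin n) F := ((Q⁻¹ * x * Q : Matrix.SpecialLinearGroup (Fin n) F) : Matrix (Fin n) (Fin n) F)
  show f (y *ᵥ u) (y *ᵥ v) = δ * f u v
  set R := pairHom e (1 : GL (Fin n) F) M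
  have hGR : (G : Matrix (Fin n) (Fin n) F) * ((P₀ : Matrix (Fin n) (Fin n) F) * R *
      ((P₀⁻¹ : GL (Fin n) F) : Matrix (Fin n) (Fin n) F)) = (x : Matrix (Fin n) (Fin n) F) * G := by
    rw [hx, hG, Units.val_mul, ← mul_assoc (pairHom e P M), pairHom_mul_self]
    simp [mul_assoc, R]
  have hy : y = (P₀ : Matrix (Fin n) (Fin n) F) * R * ((P₀⁻¹ : GL (Fin n) F) : Matrix (Fin n) (Fin n) F) := by
    have hQ : ((Q⁻¹ : Matrix.SpecialLinearGroup (Fin n) F) : Matrix (Fin n) (Fin n) F) * (C * G) = 1 := by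
      rw [show C * (G : Matrix (Fin n) (Fin n) F) = (Q : Matrix (Fin n) (Fin n) F) from rfl,
        ← Matrix.SpecialLinearGroup.coe_mul, inv_mul_cancel, Matrix.SpecialLinearGroup.coe_one]
    show ((Q⁻¹ * x * Q : Matrix.SpecialLinearGroup (Fin n) F) : Matrix (Fin n) (Fin n) F) = _
    rw [Matrix.SpecialLinearGroup.coe_mul, Matrix.SpecialLinearGroup.coe_mul, mul_assoc,
      show (Q : Matrix (Fin n) (Fin n) F) = C * G from rfl, ← mul_assoc (x : Matrix (Fin n) (Fin n) F), ← hC,
      mul_assoc C, ← hGR, ← mul_assoc C, ← mul_assoc, hQ, one_mul]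
  have hback : ∀ v, (P₀ : Matrix (Fin n) (Fin n) F) *ᵥ (((P₀⁻¹ : GL (Fin n) F) : Matrix (Fin n) (Fin n) F) *ᵥ v) = v := fun v => by
    rw [Matrix.mulVec_mulVec, Units.mul_inv, Matrix.one_mulVec]
  rw [hy, ← Matrix.mulVec_mulVec, ← Matrix.mulVec_mulVec, ← Matrix.mulVec_mulVec, ← Matrix.mulVec_mulVec, hP₀]
  conv_rhs => rw [← hback u, ← hback v, hP₀]
  simp only [stdPairForm, R, pairHom_mulVec, Finset.mul_sum]
  refine Finset.sum_congr rfl fun i _ => ?_
  rw [← hM i, Matrix.det_fin_two]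
  ring

end Cfsg.Agent.Linear
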