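import Cfsg.Agent.EqLemmas
import Cfsg.Agent.Lib.Linear.SimPairs
import Cfsg.Agent.Lib.PrimeOrderElt.Criteria

/-!
# Obstructions to preserving an alternating form up to a scalar

* `not_mem_similarity`: reduction to bilinear maps; `pow_multiplier`.
* `even_finrank_of_alt_nondeg`, `card_le_of_isotropic`.
* `exists_irreducible_SL`: an element of order `r` of `SL_e` acting irreducibly, `e = ord_r q`.
* `not_dvd_index_similarity`: primes dividing `|SL_n : GSp ∩ SL|` divide some odd `q^i - 1` or `q`.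
-/

set_option autoImplicit false
open Matrix Module

namespace Cfsg.Agent.Linear

open Cfsg.Agent.GLOrder

variable {F : Type*} [Field F] {n : ℕ}

theorem not_mem_similarity {f : (Fin n → F) → (Fin n → F) → F} (hf : Cfsg.Geo.IsSymplecticForm f)
    (x : Matrix.SpecialLinearGroup (Fin n) F)
    (h : ∀ (B : LinearMap.BilinForm F (Fin n → F)) (μ : F), (∀ v, B v v = 0) →
      (∀ u, (∀ v, B u v = 0) → u = 0) →
      (∀ u v, B ((x : Matrix (Fin n) (Fin n) F) *ᵥ u) ((x : Matrix (Fin n) (Fin n) F) *ᵥ v) = μ * B u v) → False)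
    (P : Matrix.SpecialLinearGroup (Fin n) F) :
    P⁻¹ * x * P ∉ (Cfsg.Geo.similarityGroup f).comap
      (Matrix.SpecialLinearGroup.toGL : Matrix.SpecialLinearGroup (Fin n) F →* GL (Fin n) F) := by
  rintro ⟨μ, hμ⟩
  set Qi : Matrix (Fin n) (Fin n) F := ((P⁻¹ : Matrix.SpecialLinearGroup (Fin n) F) : Matrix (Fin n) (Fin n) F)
  set Q : Matrix (Fin n) (Fin n) F := (P : Matrix (Fin n) (Fin n) F)
  have hQQ : Qi * Q = 1 := by
    rw [← Matrix.SpecialLinearGroup.coe_mul, inv_mul_cancel, Matrix.SpecialLinearGroup.coe_one]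
  have hQQ' : Q * Qi = 1 := by
    rw [← Matrix.SpecialLinearGroup.coe_mul, mul_inv_cancel, Matrix.SpecialLinearGroup.coe_one]
  refine h (LinearMap.compl₁₂ (toBilin hf.bilinear) (Matrix.toLin' Qi) (Matrix.toLin' Qi)) μ
    (fun v => hf.alternating _) (fun u hu => ?_) (fun u v => ?_)
  · by_contra hne
    have hne' : Qi *ᵥ u ≠ 0 := fun h0 => hne (by
      have := congrArg (Q *ᵥ ·) h0
      simpa [Matrix.mulVec_mulVec, hQQ'] using this)
    obtain ⟨y, hy⟩ := (hf.nondegenerate _ hne').2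
    apply hy
    have h1 : f (Qi *ᵥ u) (Qi *ᵥ (Q *ᵥ y)) = 0 := hu (Q *ᵥ y)
    rwa [Matrix.mulVec_mulVec, hQQ, Matrix.one_mulVec] at h1
  · have hy : ∀ u, Qi *ᵥ ((x : Matrix (Fin n) (Fin n) F) *ᵥ u) =
        ((Matrix.SpecialLinearGroup.toGL (P⁻¹ * x * P) : GL (Fin n) F) : Matrix (Fin n) (Fin n) F) *ᵥ (Qi *ᵥ u) := by
      intro u
      show _ = ((P⁻¹ * x * P : Matrix.SpecialLinearGroup (Fin n) F) : Matrix (Fin n) (Fin n) F) *ᵥ _
      have e : P⁻¹ * x * P * P⁻¹ = P⁻¹ * x := by group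
      rw [Matrix.mulVec_mulVec, Matrix.mulVec_mulVec, ← Matrix.SpecialLinearGroup.coe_mul,
        ← Matrix.SpecialLinearGroup.coe_mul, e]
    show f (Qi *ᵥ _) (Qi *ᵥ _) = _
    rw [hy, hy]
    exact hμ _ _

theorem pow_multiplier {B : LinearMap.BilinForm F (Fin n → F)} {μ : F} {X : Matrix (Fin n) (Fin n) F}
    (hX : ∀ u v, B (X *ᵥ u) (X *ᵥ v) = μ * B u v) (k : ℕ) (u v : Fin n → F) :
    B ((X ^ k) *ᵥ u) ((X ^ k) *ᵥ v) = μ ^ k * B u v := by
  induction k with
  | zero => simp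
  | succ k ih => rw [pow_succ', ← Matrix.mulVec_mulVec, ← Matrix.mulVec_mulVec, hX, ih]; ring

theorem even_finrank_of_alt_nondeg : ∀ (k : ℕ) {V : Type*} [AddCommGroup V] [Module F V] [FiniteDimensional F V]
    (B : LinearMap.BilinForm F V), (∀ x, B x x = 0) → (∀ x, (∀ y, B x y = 0) → x = 0) →
    finrank F V = k → Even k := by
  intro k
  induction k using Nat.strong_induction_on with
  | _ k ih =>
    intro V _ _ _ B halt hnd hk
    rcases Nat.eq_zero_or_pos k with rfl | hpos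
    · exact Even.zero
    haveI : Nontrivial V := Module.nontrivial_of_finrank_pos (R := F) (by omega)
    obtain ⟨e, he⟩ := exists_ne (0 : V)
    obtain ⟨g, hg⟩ := exists_apply_eq_one hnd he
    have h2 := finrank_perp2 halt hg
    obtain ⟨c, hc⟩ := ih _ (by omega) (resForm B (perp2 B e g)) (fun x => halt x)
      (fun x hx => resForm_perp2_nondeg halt hnd hg x hx) rfl
    exact ⟨c + 1, by omega⟩

theorem card_le_of_isotropic {B : LinearMap.BilinForm F (Fin n → F)}
    (hnd : ∀ u, (∀ v, B u v = 0) → u = 0) (S : Finset (Fin n))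
    (hS : ∀ k ∈ S, ∀ l ∈ S, B (Pi.single k 1) (Pi.single l 1) = 0) : 2 * S.card ≤ n := by
  classical
  let L : (S → F) →ₗ[F] ({l // l ∉ S} → F) :=
    LinearMap.pi fun l => ∑ k : S, (LinearMap.proj k).smulRight (B (Pi.single (k : Fin n) 1) (Pi.single (l : Fin n) 1))
  have hLapply : ∀ c l, L c l = ∑ k : S, c k * B (Pi.single (k : Fin n) 1) (Pi.single (l : Fin n) 1) := by
    intro c l
    simp [L]
  have hL : Function.Injective L := by
    rw [← LinearMap.ker_eq_bot, LinearMap.ker_eq_bot']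
    intro c hc
    have h0 : ∑ k : S, c k • Pi.single (k : Fin n) (1 : F) = 0 := by
      refine hnd _ fun v => ?_
      rw [pi_eq_sum_univ' v, map_sum]
      refine Finset.sum_eq_zero fun l _ => ?_
      simp only [map_smul, map_sum, LinearMap.sum_apply, LinearMap.smul_apply, smul_eq_mul]
      refine mul_eq_zero_of_right _ ?_
      by_cases hl : l ∈ S
      · exact Finset.sum_eq_zero fun k _ => mul_eq_zero_of_right _ (hS k k.2 l hl)
      · exact (hLapply c ⟨l, hl⟩).symm.trans (congrFun hc ⟨l, hl⟩)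
    funext k
    have := congrFun h0 (k : Fin n)
    simpa [Finset.sum_apply, Pi.single_apply, Subtype.coe_inj] using this
  have h := LinearMap.finrank_le_finrank_of_injective hL
  rw [Module.finrank_fintype_fun_eq_card, Module.finrank_fintype_fun_eq_card, Fintype.card_coe,
    Fintype.card_subtype_compl, Fintype.card_coe, Fintype.card_fin] at h
  omega

variable [Fintype F]

theorem exists_irreducible_SL {r : ℕ} [Fact r.Prime] (hr : (r : F) ≠ 0) {e : ℕ} (he2 : 2 ≤ e)
    (ho : orderOf (Fintype.card F : ZMod r) = e) :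
    ∃ y : Matrix.SpecialLinearGroup (Fin e) F, (y : Matrix (Fin e) (Fin e) F) ^ r = 1 ∧
      (y : Matrix (Fin e) (Fin e) F) ≠ 1 ∧
      ∀ T : Submodule F (Fin e → F), (∀ v ∈ T, (y : Matrix (Fin e) (Fin e) F) *ᵥ v ∈ T) → T = ⊥ ∨ T = ⊤ := by
  classical
  have hdvd : r ∣ Nat.card (Matrix.SpecialLinearGroup (Fin e) F) := by
    rw [card_SL, Nat.card_eq_fintype_card]
    refine dvd_mul_of_dvd_right ((dvd_trans ?_ (Finset.dvd_prod_of_mem _ (Finset.mem_Ico.2
      (show 1 ≤ e - 1 ∧ e - 1 < e by omega))))) _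
    rw [show e - 1 + 1 = e by omega, PrimeOrderElt.dvd_pow_sub_one_iff, ho]
  obtain ⟨y, hy⟩ := exists_prime_orderOf_dvd_card' r hdvd
  have hyr : (y : Matrix (Fin e) (Fin e) F) ^ r = 1 := by
    have h := pow_orderOf_eq_one y
    rw [hy] at h
    exact (Matrix.SpecialLinearGroup.coe_pow y r).symm.trans (congrArg Subtype.val h)
  have hy1 : (y : Matrix (Fin e) (Fin e) F) ≠ 1 := fun h => by
    rw [show y = 1 from Subtype.ext h, orderOf_one] at hy
    exact (Fact.out : r.Prime).ne_one hy.symm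
  refine ⟨y, hyr, hy1, fun T hT => ?_⟩
  set g : Module.End F (Fin e → F) := Matrix.toLin' (y : Matrix (Fin e) (Fin e) F) with hg
  have hgr : g ^ r = 1 := by
    show (Matrix.toLinAlgEquiv' (y : Matrix (Fin e) (Fin e) F)) ^ r = 1
    rw [← map_pow, hyr, map_one]
  have hfix : PrimeOrderElt.fix g ≠ ⊤ := fun h => hy1 (Matrix.toLin'.injective (by
    rw [Matrix.toLin'_one]
    refine LinearMap.ext fun v => ?_
    exact PrimeOrderElt.mem_fix.1 (h ▸ Submodule.mem_top)))
  obtain ⟨s, hs, -⟩ := PrimeOrderElt.exists_dims hr hgr (W := ⊤) le_top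
  rw [finrank_top, top_inf_eq, Module.finrank_fin_fun, ho] at hs
  have hs0 : s ≠ 0 := by
    rintro rfl
    refine hfix (Submodule.eq_top_of_finrank_eq ?_)
    rw [Module.finrank_fin_fun]; omega
  have hs' : e ≤ s * e := Nat.le_mul_of_pos_left _ (Nat.pos_of_ne_zero hs0)
  have hfix0 : PrimeOrderElt.fix g = ⊥ := Submodule.finrank_eq_zero.1 (by omega)
  have hTi : PrimeOrderElt.Inv g T := by rintro _ ⟨v, hv, rfl⟩; exact hT v hv
  obtain ⟨t, ht, -⟩ := PrimeOrderElt.exists_dims hr hgr hTi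
  rw [hfix0, inf_bot_eq, finrank_bot, zero_add, ho] at ht
  rcases Nat.eq_zero_or_pos t with rfl | ht0
  · exact Or.inl (Submodule.finrank_eq_zero.1 (by omega))
  · refine Or.inr (Submodule.eq_top_of_finrank_eq ?_)
    have h1 := Submodule.finrank_le T
    rw [Module.finrank_fin_fun] at h1 ⊢
    have : e ≤ t * e := Nat.le_mul_of_pos_left _ ht0
    omega

theorem exists_of_dvd_index_similarity {m : ℕ} (hm : 0 < m) (hnm : n = 2 * m) {f : (Fin n → F) → (Fin n → F) → F}
    (hf : Cfsg.Geo.IsSymplecticForm f) {r : ℕ} (hr : r.Prime) (hrq : ¬ r ∣ Fintype.card F)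
    (hd : r ∣ ((Cfsg.Geo.similarityGroup f).comap
      (Matrix.SpecialLinearGroup.toGL : Matrix.SpecialLinearGroup (Fin n) F →* GL (Fin n) F)).index) :
    ∃ i, Odd i ∧ i + 1 ≤ n ∧ r ∣ Fintype.card F ^ i - 1 := by
  classical
  set H := (Cfsg.Geo.similarityGroup f).comap
    (Matrix.SpecialLinearGroup.toGL : Matrix.SpecialLinearGroup (Fin n) F →* GL (Fin n) F) with hH
  let e : Fin 2 × Fin m ≃ Fin n := finProdFinEquiv.trans (finCongr hnm.symm)
  obtain ⟨P, hP⟩ := exists_std_basis e hf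
  let τ : Fin m ⊕ Fin m ≃ Fin 2 × Fin m :=
    { toFun := Sum.elim (fun i => (0, i)) (fun i => (1, i))
      invFun := fun t => if t.1 = 0 then Sum.inl t.2 else Sum.inr t.2
      left_inv := fun s => by rcases s with i | i <;> simp
      right_inv := fun t => by obtain ⟨k, i⟩ := t; fin_cases k <;> simp }
  let σ : Fin m ⊕ Fin m ≃ Fin n := τ.trans e
  set Pm : Matrix (Fin n) (Fin n) F := (P : Matrix (Fin n) (Fin n) F)
  set Pi' : Matrix (Fin n) (Fin n) F := ((P⁻¹ : GL (Fin n) F) : Matrix (Fin n) (Fin n) F)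
  have hPP : Pi' * Pm = 1 := P.inv_mul
  have hPP' : Pm * Pi' = 1 := P.mul_inv
  let ψ : Matrix.symplecticGroup (Fin m) F →* Matrix (Fin n) (Fin n) F :=
    { toFun := fun M => Pm * Matrix.reindexAlgEquiv F F σ M.1 * Pi'
      map_one' := by
        show Pm * Matrix.reindexAlgEquiv F F σ 1 * Pi' = 1
        rw [map_one, mul_one, hPP']
      map_mul' := fun M N => by
        show Pm * Matrix.reindexAlgEquiv F F σ (M.1 * N.1) * Pi' = _
        rw [map_mul]
        simp only [mul_assoc]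
        rw [← mul_assoc Pi' Pm, hPP, one_mul] }
  have hψdet : ∀ M, (ψ M).det = 1 := fun M => by
    show (Pm * Matrix.reindexAlgEquiv F F σ M.1 * Pi').det = 1
    rw [Matrix.det_mul, Matrix.det_mul, mul_right_comm, ← Matrix.det_mul, hPP', Matrix.det_one, one_mul,
      Matrix.det_reindexAlgEquiv, SymplecticGroup.det_eq_one M.2]
  let φ : Matrix.symplecticGroup (Fin m) F →* Matrix.SpecialLinearGroup (Fin n) F :=
    { toFun := fun M => ⟨ψ M, hψdet M⟩
      map_one' := Subtype.ext (map_one ψ)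
      map_mul' := fun M N => Subtype.ext (map_mul ψ M N) }
  have hφ : Function.Injective φ := by
    intro M N h
    have h1 : Pm * Matrix.reindexAlgEquiv F F σ M.1 * Pi' = Pm * Matrix.reindexAlgEquiv F F σ N.1 * Pi' :=
      congrArg Subtype.val h
    have h2 := congrArg (fun A => Pi' * A * Pm) h1
    simp only [← mul_assoc, hPP, one_mul] at h2
    simp only [mul_assoc, hPP, mul_one] at h2
    exact Subtype.ext ((Matrix.reindexAlgEquiv F F σ).injective h2)
  have hle : φ.range ≤ H := by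
    rintro _ ⟨M, rfl⟩
    refine ⟨1, fun u v => ?_⟩
    show f ((Pm * Matrix.reindexAlgEquiv F F σ M.1 * Pi') *ᵥ u) ((Pm * Matrix.reindexAlgEquiv F F σ M.1 * Pi') *ᵥ v) = _
    have hback : ∀ v, Pm *ᵥ (Pi' *ᵥ v) = v := fun v => by rw [Matrix.mulVec_mulVec, hPP', Matrix.one_mulVec]
    rw [← Matrix.mulVec_mulVec, ← Matrix.mulVec_mulVec, ← Matrix.mulVec_mulVec, ← Matrix.mulVec_mulVec, hP,
      Units.val_one, one_mul]
    conv_rhs => rw [← hback u, ← hback v, hP]
    have hs : ∀ a b : Fin n → F, stdPairForm e a b = sympB m F (a ∘ σ) (b ∘ σ) := fun a b => by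
      rw [sympB_apply]; rfl
    rw [hs, hs]
    have hcomp : ∀ a : Fin n → F, (Matrix.reindexAlgEquiv F F σ M.1 *ᵥ a) ∘ σ = M.1 *ᵥ (a ∘ σ) := fun a => by
      funext s
      simp [Matrix.coe_reindexAlgEquiv, Matrix.reindex_apply, Matrix.submatrix_mulVec_equiv]
    rw [hcomp, hcomp, sympB_mulVec]
  have hdvd : Nat.card (Matrix.symplecticGroup (Fin m) F) ∣ Nat.card H := by
    rw [Nat.card_congr (MonoidHom.ofInjective hφ).toEquiv]
    exact Subgroup.card_dvd_of_le hle
  obtain ⟨w, hw⟩ := hdvd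
  have hmul := H.index_mul_card
  rw [hw, card_SL, card_Sp, Nat.card_eq_fintype_card] at hmul
  set q := Fintype.card F
  have hq1 : 1 < q := Fintype.one_lt_card
  have hsplit : ∀ k, ∏ i ∈ Finset.Ico 1 (2 * (k + 1)), (q ^ (i + 1) - 1) =
      (∏ i ∈ Finset.range (k + 1), (q ^ (2 * (i + 1)) - 1)) * ∏ i ∈ Finset.range k, (q ^ (2 * i + 3) - 1) := by
    intro k
    induction k with
    | zero => simp
    | succ k ih =>
      rw [show 2 * (k + 1 + 1) = 2 * (k + 1) + 1 + 1 by ring, Finset.prod_Ico_succ_top (by omega),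
        Finset.prod_Ico_succ_top (by omega), ih, Finset.prod_range_succ (fun i => q ^ (2 * (i + 1)) - 1) (k + 1),
        Finset.prod_range_succ (fun i => q ^ (2 * i + 3) - 1) k,
        show 2 * (k + 1) + 1 = 2 * k + 3 by ring, show 2 * (k + 1 + 1) = 2 * k + 3 + 1 by ring]
      ring
  obtain ⟨k, rfl⟩ : ∃ k, m = k + 1 := ⟨m - 1, by omega⟩
  subst hnm
  rw [hsplit k] at hmul
  set A := ∏ i ∈ Finset.range (k + 1), (q ^ (2 * (i + 1)) - 1)
  have hA : 0 < A := Finset.prod_pos fun i _ => by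
    have : q ≤ q ^ (2 * (i + 1)) := Nat.le_self_pow (by omega) _
    omega
  have hkey : H.index * (q ^ ((k + 1) ^ 2) * w) =
      q ^ (2 * (k + 1) * (2 * (k + 1) - 1) / 2) * ∏ i ∈ Finset.range k, (q ^ (2 * i + 3) - 1) := by
    apply Nat.eq_of_mul_eq_mul_left hA
    linear_combination hmul
  have h1 : r ∣ q ^ (2 * (k + 1) * (2 * (k + 1) - 1) / 2) * ∏ i ∈ Finset.range k, (q ^ (2 * i + 3) - 1) :=
    hkey ▸ hd.mul_right _
  have h2 := (hr.dvd_mul.1 h1).resolve_left fun h => hrq (hr.dvd_of_dvd_pow h)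
  obtain ⟨i, hi, hdi⟩ := (hr.prime.dvd_finsetProd_iff _).1 h2
  exact ⟨2 * i + 3, ⟨i + 1, by omega⟩, by have := Finset.mem_range.1 hi; omega, hdi⟩

end Cfsg.Agent.Linear
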