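import Cfsg.Agent.Lib.Linear.GenTools
import Cfsg.Agent.Lib.Linear.Symplectic

/-!
# `Sp_4(2) ≅ S_6`
* `nonempty_spFour_two` : `Matrix.symplecticGroup (Fin 2) F ≃* Equiv.Perm (Fin 6)` for `|F| = 2`
* `symplecticMapEquiv` : change of field for the symplectic group
-/

set_option autoImplicit false

open Matrix

namespace Cfsg.Agent.Linear

/-- The symplectic group along a ring isomorphism. -/
def symplecticMapEquiv {l F K : Type*} [Fintype l] [DecidableEq l] [CommRing F] [CommRing K]
    (e : F ≃+* K) : Matrix.symplecticGroup l F ≃* Matrix.symplecticGroup l K where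
  toFun A := ⟨A.1.map e, SymplecticGroup.map_mem A.2 e⟩
  invFun A := ⟨A.1.map e.symm, SymplecticGroup.map_mem A.2 e.symm⟩
  left_inv A := Subtype.ext (Matrix.ext fun i j => by simp)
  right_inv A := Subtype.ext (Matrix.ext fun i j => by simp)
  map_mul' A B := Subtype.ext (by
    change (A.1 * B.1).map e = A.1.map e * B.1.map e
    exact Matrix.map_mul)

/-- The coordinates of an even subset of six points in the symplectic space of dimension 4. -/
def evenCoord (s : Fin 6 → Bool) : Fin 2 ⊕ Fin 2 → ZMod 2 :=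
  Sum.elim ![bif s 1 ^^ s 2 then 1 else 0, bif s 4 ^^ s 5 then 1 else 0]
    ![bif s 0 ^^ s 1 then 1 else 0, bif s 3 ^^ s 4 then 1 else 0]

/-- The even subsets related to a vector. -/
def sixRel (s : Fin 6 → Bool) (y : Fin 2 ⊕ Fin 2 → ZMod 2) : Prop :=
  (s 0 ^^ s 1 ^^ s 2 ^^ s 3 ^^ s 4 ^^ s 5) = false ∧ evenCoord s = y

instance instDecidableSixRel (s : Fin 6 → Bool) (y : Fin 2 ⊕ Fin 2 → ZMod 2) :
    Decidable (sixRel s y) :=
  inferInstanceAs (Decidable (_ ∧ _))

/-- The subset `{a, b}` as a predicate. -/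
def pairPred (a b : Fin 6) : Fin 6 → Bool := fun i => decide (i = a) || decide (i = b)

theorem sixRel_swap : ∀ (a b : Fin 6), a ≠ b → ∀ s : Fin 6 → Bool,
    (s 0 ^^ s 1 ^^ s 2 ^^ s 3 ^^ s 4 ^^ s 5) = false →
    sixRel (predHom 6 (Equiv.swap a b) s)
      (evenCoord s + (Cfsg.sympForm 2 (ZMod 2) (evenCoord s) (evenCoord (pairPred a b))) •
        evenCoord (pairPred a b)) := by
  decide +kernel

theorem sixRel_separates : ∀ y : Fin 2 ⊕ Fin 2 → ZMod 2, ∃ s, sixRel s y := by
  decide +kernel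

theorem pairPred_surjective : ∀ y : Fin 2 ⊕ Fin 2 → ZMod 2, y ≠ 0 →
    ∃ a b : Fin 6, a ≠ b ∧ evenCoord (pairPred a b) = y := by
  decide +kernel

theorem pairPred_coord_injective : ∀ a b c d : Fin 6, a ≠ b → c ≠ d →
    evenCoord (pairPred a b) = evenCoord (pairPred c d) → c = a ∧ d = b ∨ c = b ∧ d = a := by
  decide +kernel

theorem pairPred_even : ∀ a b : Fin 6, a ≠ b →
    sixRel (pairPred a b) (evenCoord (pairPred a b)) := by
  decide +kernel

theorem nonempty_spFour_two {F : Type*} [Field F] [Fintype F] (hF : Fintype.card F = 2) :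
    Nonempty (Matrix.symplecticGroup (Fin 2) F ≃* Equiv.Perm (Fin 6)) := by
  have : FaithfulSMul (Cfsg.spGL 2 (ZMod 2)) (Fin 2 ⊕ Fin 2 → ZMod 2) := ⟨fun h => spGL_ext h⟩
  have hswap : ∀ a b : Fin 6, a ≠ b → ∀ z y, sixRel z y →
      sixRel (predHom 6 (Equiv.swap a b) z) (spTv (evenCoord (pairPred a b)) (1 : ZMod 2) • y) := by
    rintro a b hab z y ⟨he, rfl⟩
    rw [spTv_smul, one_mul]
    exact sixRel_swap a b hab z he
  have hsep : ∀ y y', (∀ z, sixRel z y ↔ sixRel z y') → y = y' := by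
    intro y y' h
    obtain ⟨s, hs⟩ := sixRel_separates y
    exact hs.2.symm.trans ((h s).1 hs).2
  obtain ⟨f, hf⟩ := exists_hom_of_compat_maps (H := Cfsg.spGL 2 (ZMod 2)) (predHom 6) sixRel hsep
    Equiv.Perm.closure_isSwap (by
      rintro _ ⟨a, b, hab, rfl⟩
      exact ⟨_, hswap a b hab⟩)
  have hval : ∀ a b : Fin 6, a ≠ b →
      f (Equiv.swap a b) = spTv (evenCoord (pairPred a b)) (1 : ZMod 2) := by
    intro a b hab
    refine spGL_ext fun y => ?_
    obtain ⟨s, hs⟩ := sixRel_separates y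
    exact ((hf (Equiv.swap a b) s y).2 hs).2.symm.trans (hswap a b hab s y hs).2
  have hsurj : Function.Surjective f := by
    rw [← MonoidHom.range_eq_top]
    refine top_unique (closure_spTvSet (m := 2) (F := ZMod 2) ▸ (Subgroup.closure_le _).2 ?_)
    rintro _ ⟨w, _, c, rfl⟩
    by_cases hw : w = 0
    · subst hw; rw [spTv_zero_vec]; exact one_mem _
    obtain ⟨a, b, hab, rfl⟩ := pairPred_surjective w hw
    have hc : c = 0 ∨ c = 1 := by revert c; decide
    rcases hc with rfl | rfl
    · rw [spTv_zero]; exact one_mem _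
    · exact ⟨_, hval a b hab⟩
  have hinj : Function.Injective f := by
    refine (MonoidHom.ker_eq_bot_iff f).1 (f.ker.eq_bot_iff_forall.2 fun σ hσ => ?_)
    have h2 : ∀ a b : Fin 6, a ≠ b → σ a = a ∨ σ a = b := by
      intro a b hab
      have h := (hf σ (pairPred a b) _).2 (pairPred_even a b hab)
      rw [MonoidHom.mem_ker.1 hσ, one_smul] at h
      have e : predHom 6 σ (pairPred a b) = pairPred (σ a) (σ b) := by
        funext i
        simp [predHom_apply, pairPred, Equiv.symm_apply_eq]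
      rw [e] at h
      rcases pairPred_coord_injective a b (σ a) (σ b) hab (fun e => hab (σ.injective e)) h.2.symm
        with h' | h'
      · exact .inl h'.1
      · exact .inr h'.1
    refine Equiv.ext fun a => ?_
    obtain ⟨b, c, hb, hc, hbc⟩ : ∃ b c : Fin 6, a ≠ b ∧ a ≠ c ∧ b ≠ c := by revert a; decide
    rcases h2 a b hb with h | h
    · exact h
    · rcases h2 a c hc with h' | h'
      · exact h'
      · exact absurd (h.symm.trans h') hbc
  exact ⟨((symplecticMapEquiv (ZMod.ringEquivOfPrime F Nat.prime_two hF).symm).trans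
    (spEquiv 2 (ZMod 2))).trans (MulEquiv.ofBijective f ⟨hinj, hsurj⟩).symm⟩

end Cfsg.Agent.Linear
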