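import Cfsg.Agent.Lib.Linear.SLn
import Cfsg.Agent.Lib.Linear.Symplectic

/-!
# Block elements of `spGL m F`
* `spBlk g k l` : the four blocks, multiplication rules
* `spLevi A` (A ∈ GL_m), `spSiegel B` (B symmetric), `spPairSwap k`
* `spBorelU m F` : the maximal unipotent subgroup, `isPGroup_spBorelU`
* `exists_spLevi_mul_spSiegel`
-/

set_option autoImplicit false

open Matrix

namespace Cfsg.Agent.Linear

variable {m : ℕ} {F : Type*} [Field F]

local notation "V" => (Fin m ⊕ Fin m → F)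
local notation "f" => Cfsg.sympForm m F
local notation "eL" => fun i : Fin m => (Pi.single (Sum.inl i) 1 : Fin m ⊕ Fin m → F)
local notation "eR" => fun i : Fin m => (Pi.single (Sum.inr i) 1 : Fin m ⊕ Fin m → F)

/-- The upper left block. -/
def blkA (g : Cfsg.spGL m F) : Matrix (Fin m) (Fin m) F := g.1.1.toBlocks₁₁
/-- The upper right block. -/
def blkB (g : Cfsg.spGL m F) : Matrix (Fin m) (Fin m) F := g.1.1.toBlocks₁₂
/-- The lower left block. -/
def blkC (g : Cfsg.spGL m F) : Matrix (Fin m) (Fin m) F := g.1.1.toBlocks₂₁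
/-- The lower right block. -/
def blkD (g : Cfsg.spGL m F) : Matrix (Fin m) (Fin m) F := g.1.1.toBlocks₂₂

theorem spGL_blocks (g : Cfsg.spGL m F) :
    g.1.1 = fromBlocks (blkA g) (blkB g) (blkC g) (blkD g) :=
  (fromBlocks_toBlocks g.1.1).symm

theorem spGL_mul_val (g h : Cfsg.spGL m F) : (g * h).1.1 = g.1.1 * h.1.1 := rfl

theorem blk_mul (g h : Cfsg.spGL m F) :
    blkA (g * h) = blkA g * blkA h + blkB g * blkC h ∧
      blkB (g * h) = blkA g * blkB h + blkB g * blkD h ∧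
      blkC (g * h) = blkC g * blkA h + blkD g * blkC h ∧
      blkD (g * h) = blkC g * blkB h + blkD g * blkD h := by
  have h1 : (g * h).1.1 = fromBlocks (blkA g * blkA h + blkB g * blkC h)
      (blkA g * blkB h + blkB g * blkD h) (blkC g * blkA h + blkD g * blkC h)
      (blkC g * blkB h + blkD g * blkD h) := by
    rw [spGL_mul_val, spGL_blocks g, spGL_blocks h, fromBlocks_multiply]
  exact ⟨by rw [blkA, h1, toBlocks_fromBlocks₁₁], by rw [blkB, h1, toBlocks_fromBlocks₁₂],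
    by rw [blkC, h1, toBlocks_fromBlocks₂₁], by rw [blkD, h1, toBlocks_fromBlocks₂₂]⟩

theorem blk_one : blkA (1 : Cfsg.spGL m F) = 1 ∧ blkB (1 : Cfsg.spGL m F) = 0 ∧
    blkC (1 : Cfsg.spGL m F) = 0 ∧ blkD (1 : Cfsg.spGL m F) = 1 := by
  refine ⟨?_, ?_, ?_, ?_⟩ <;>
  · ext i j
    simp [blkA, blkB, blkC, blkD, toBlocks₁₁, toBlocks₁₂, toBlocks₂₁, toBlocks₂₂,
      Matrix.one_apply]

theorem spGL_ext_blk {g h : Cfsg.spGL m F} (hA : blkA g = blkA h) (hB : blkB g = blkB h)
    (hC : blkC g = blkC h) (hD : blkD g = blkD h) : g = h :=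
  Subtype.ext (Units.ext (by rw [spGL_blocks g, spGL_blocks h, hA, hB, hC, hD]))

theorem spGL_blk_rel (g : Cfsg.spGL m F) :
    (blkA g)ᵀ * blkC g = (blkC g)ᵀ * blkA g ∧ (blkB g)ᵀ * blkD g = (blkD g)ᵀ * blkB g ∧
      (blkA g)ᵀ * blkD g - (blkC g)ᵀ * blkB g = 1 := by
  have h := (SymplecticGroup.mem_iff' (A := g.1.1)).1 (mem_symplecticGroup_iff.2 g.2)
  rw [spGL_blocks g, Matrix.J, fromBlocks_transpose, fromBlocks_multiply, fromBlocks_multiply,
    fromBlocks_inj] at h
  simp only [Matrix.mul_zero, Matrix.mul_one, Matrix.mul_neg, add_zero, zero_add,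
    Matrix.neg_mul] at h
  obtain ⟨h1, h2, h3, h4⟩ := h
  refine ⟨?_, ?_, ?_⟩
  · linear_combination (norm := abel) -h1
  · linear_combination (norm := abel) -h4
  · linear_combination (norm := abel) -h2

theorem mem_spGL_of_blocks {A B C D : Matrix (Fin m) (Fin m) F} (h1 : Aᵀ * C = Cᵀ * A)
    (h2 : Bᵀ * D = Dᵀ * B) (h3 : Aᵀ * D - Cᵀ * B = 1) :
    fromBlocks A B C D ∈ Matrix.symplecticGroup (Fin m) F := by
  rw [SymplecticGroup.mem_iff', Matrix.J, fromBlocks_transpose, fromBlocks_multiply,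
    fromBlocks_multiply, fromBlocks_inj]
  simp only [Matrix.mul_zero, Matrix.mul_one, Matrix.mul_neg, add_zero, zero_add, Matrix.neg_mul]
  have h3' : Dᵀ * A - Bᵀ * C = 1 := by
    have := congrArg Matrix.transpose h3
    simpa using this
  exact ⟨by rw [h1]; abel, by linear_combination (norm := abel) -h3,
    by linear_combination (norm := abel) h3', by rw [h2]; abel⟩

/-- An element of `spGL` from its blocks. -/
noncomputable def spOfBlocks (A B C D : Matrix (Fin m) (Fin m) F) (h1 : Aᵀ * C = Cᵀ * A)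
    (h2 : Bᵀ * D = Dᵀ * B) (h3 : Aᵀ * D - Cᵀ * B = 1) : Cfsg.spGL m F :=
  spEquiv m F ⟨fromBlocks A B C D, mem_spGL_of_blocks h1 h2 h3⟩

theorem blk_spOfBlocks {A B C D : Matrix (Fin m) (Fin m) F} (h1 : Aᵀ * C = Cᵀ * A)
    (h2 : Bᵀ * D = Dᵀ * B) (h3 : Aᵀ * D - Cᵀ * B = 1) :
    blkA (spOfBlocks A B C D h1 h2 h3) = A ∧ blkB (spOfBlocks A B C D h1 h2 h3) = B ∧
      blkC (spOfBlocks A B C D h1 h2 h3) = C ∧ blkD (spOfBlocks A B C D h1 h2 h3) = D :=
  ⟨toBlocks_fromBlocks₁₁ .., toBlocks_fromBlocks₁₂ .., toBlocks_fromBlocks₂₁ ..,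
    toBlocks_fromBlocks₂₂ ..⟩

/-! ## Levi and Siegel elements -/

theorem leviRel₁ (A : GL (Fin m) F) :
    A.1ᵀ * (0 : Matrix (Fin m) (Fin m) F) = (0 : Matrix (Fin m) (Fin m) F)ᵀ * A.1 := by simp

theorem leviRel₂ (D : Matrix (Fin m) (Fin m) F) :
    (0 : Matrix (Fin m) (Fin m) F)ᵀ * D = Dᵀ * 0 := by simp

theorem leviRel₃ (A : GL (Fin m) F) :
    A.1ᵀ * ((A⁻¹).1)ᵀ - (0 : Matrix (Fin m) (Fin m) F)ᵀ * (0 : Matrix (Fin m) (Fin m) F) = 1 := by
  rw [← Matrix.transpose_mul, Units.inv_mul]; simp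

/-- The block-diagonal element with upper block `A`. -/
noncomputable def spLevi : GL (Fin m) F →* Cfsg.spGL m F :=
  MonoidHom.mk' (fun A => spOfBlocks A.1 0 0 ((A⁻¹).1)ᵀ (leviRel₁ A) (leviRel₂ _) (leviRel₃ A))
    fun A A' => by
      obtain ⟨a1, a2, a3, a4⟩ := blk_spOfBlocks (leviRel₁ A) (leviRel₂ _) (leviRel₃ A)
      obtain ⟨b1, b2, b3, b4⟩ := blk_spOfBlocks (leviRel₁ A') (leviRel₂ _) (leviRel₃ A')
      obtain ⟨c1, c2, c3, c4⟩ :=
        blk_spOfBlocks (leviRel₁ (A * A')) (leviRel₂ _) (leviRel₃ (A * A'))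
      refine spGL_ext_blk ?_ ?_ ?_ ?_
      · rw [(blk_mul _ _).1, a1, a2, b1, b3, c1]; simp
      · rw [(blk_mul _ _).2.1, a1, a2, b2, b4, c2]; simp
      · rw [(blk_mul _ _).2.2.1, a3, a4, b1, b3, c3]; simp
      · rw [(blk_mul _ _).2.2.2, a3, a4, b2, b4, c4, _root_.mul_inv_rev, Units.val_mul,
          Matrix.transpose_mul]
        simp

@[simp] theorem blkA_spLevi (A : GL (Fin m) F) : blkA (spLevi A) = A.1 :=
  (blk_spOfBlocks (leviRel₁ A) (leviRel₂ _) (leviRel₃ A)).1
@[simp] theorem blkB_spLevi (A : GL (Fin m) F) : blkB (spLevi A) = 0 :=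
  (blk_spOfBlocks (leviRel₁ A) (leviRel₂ _) (leviRel₃ A)).2.1
@[simp] theorem blkC_spLevi (A : GL (Fin m) F) : blkC (spLevi A) = 0 :=
  (blk_spOfBlocks (leviRel₁ A) (leviRel₂ _) (leviRel₃ A)).2.2.1
@[simp] theorem blkD_spLevi (A : GL (Fin m) F) : blkD (spLevi A) = ((A⁻¹).1)ᵀ :=
  (blk_spOfBlocks (leviRel₁ A) (leviRel₂ _) (leviRel₃ A)).2.2.2

/-- The Siegel element with symmetric upper right block `B`. -/
noncomputable def spSiegel (B : Matrix (Fin m) (Fin m) F) (hB : B.IsSymm) : Cfsg.spGL m F :=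
  spOfBlocks 1 B 0 1 (by simp) (by simp [hB.eq]) (by simp)

@[simp] theorem blkA_spSiegel {B : Matrix (Fin m) (Fin m) F} (hB : B.IsSymm) :
    blkA (spSiegel B hB) = 1 := (blk_spOfBlocks ..).1
@[simp] theorem blkB_spSiegel {B : Matrix (Fin m) (Fin m) F} (hB : B.IsSymm) :
    blkB (spSiegel B hB) = B := (blk_spOfBlocks ..).2.1
@[simp] theorem blkC_spSiegel {B : Matrix (Fin m) (Fin m) F} (hB : B.IsSymm) :
    blkC (spSiegel B hB) = 0 := (blk_spOfBlocks ..).2.2.1
@[simp] theorem blkD_spSiegel {B : Matrix (Fin m) (Fin m) F} (hB : B.IsSymm) :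
    blkD (spSiegel B hB) = 1 := (blk_spOfBlocks ..).2.2.2

theorem spSiegel_mul {B B' : Matrix (Fin m) (Fin m) F} (hB : B.IsSymm) (hB' : B'.IsSymm) :
    spSiegel B hB * spSiegel B' hB' = spSiegel (B + B') (hB.add hB') := by
  obtain ⟨ea, eb, ec, ed⟩ := blk_mul (spSiegel B hB) (spSiegel B' hB')
  refine spGL_ext_blk ?_ ?_ ?_ ?_
  · simp [ea]
  · simp [eb, add_comm]
  · simp [ec]
  · simp [ed]

theorem spSiegel_zero : spSiegel (0 : Matrix (Fin m) (Fin m) F) Matrix.isSymm_zero = 1 :=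
  spGL_ext_blk (by simp [blk_one.1]) (by simp [blk_one.2.1]) (by simp [blk_one.2.2.1])
    (by simp [blk_one.2.2.2])

theorem spSiegel_inv {B : Matrix (Fin m) (Fin m) F} (hB : B.IsSymm) :
    (spSiegel B hB)⁻¹ = spSiegel (-B) hB.neg := by
  refine inv_eq_of_mul_eq_one_right ?_
  rw [spSiegel_mul]
  simp [spSiegel_zero]

theorem isSymm_congr {B : Matrix (Fin m) (Fin m) F} (hB : B.IsSymm)
    (A : Matrix (Fin m) (Fin m) F) : (A * B * Aᵀ).IsSymm := by
  rw [Matrix.IsSymm, Matrix.transpose_mul, Matrix.transpose_mul, Matrix.transpose_transpose,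
    hB.eq, Matrix.mul_assoc]

theorem spLevi_conj_spSiegel (A : GL (Fin m) F) {B : Matrix (Fin m) (Fin m) F} (hB : B.IsSymm) :
    spLevi A * spSiegel B hB * (spLevi A)⁻¹ = spSiegel (A.1 * B * A.1ᵀ) (isSymm_congr hB A.1) := by
  rw [mul_inv_eq_iff_eq_mul]
  obtain ⟨ea, eb, ec, ed⟩ := blk_mul (spLevi A) (spSiegel B hB)
  obtain ⟨fa, fb, fc, fd⟩ := blk_mul (spSiegel (A.1 * B * A.1ᵀ) (isSymm_congr hB A.1)) (spLevi A)
  refine spGL_ext_blk ?_ ?_ ?_ ?_
  · simp [ea, fa]
  · rw [eb, fb]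
    simp only [blkA_spLevi, blkB_spSiegel, blkB_spLevi, blkD_spSiegel, blkA_spSiegel, blkD_spLevi,
      Matrix.zero_mul, add_zero, Matrix.one_mul, zero_add, Matrix.mul_assoc]
    rw [← Matrix.transpose_mul, Units.inv_mul]
    simp
  · simp [ec, fc]
  · simp [ed, fd]

/-- Every element with zero lower left block is Levi times Siegel. -/
theorem exists_spLevi_mul_spSiegel (g : Cfsg.spGL m F) (hC : blkC g = 0) :
    ∃ (A : GL (Fin m) F) (B : Matrix (Fin m) (Fin m) F) (hB : B.IsSymm),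
      A.1 = blkA g ∧ g = spLevi A * spSiegel B hB := by
  obtain ⟨-, h2, h3⟩ := spGL_blk_rel g
  rw [hC, Matrix.transpose_zero, Matrix.zero_mul, sub_zero] at h3
  have h3' := mul_eq_one_comm.1 h3
  let A : GL (Fin m) F := ⟨blkA g, (blkD g)ᵀ,
    by rw [← Matrix.transpose_transpose (blkA g), ← Matrix.transpose_mul, h3',
      Matrix.transpose_one],
    by rw [← Matrix.transpose_transpose (blkA g), ← Matrix.transpose_mul, h3,
      Matrix.transpose_one]⟩
  have hB : ((A⁻¹).1 * blkB g).IsSymm := by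
    change ((blkD g)ᵀ * blkB g)ᵀ = (blkD g)ᵀ * blkB g
    rw [Matrix.transpose_mul, Matrix.transpose_transpose, h2]
  refine ⟨A, _, hB, rfl, ?_⟩
  obtain ⟨ea, eb, ec, ed⟩ := blk_mul (spLevi A) (spSiegel _ hB)
  refine spGL_ext_blk ?_ ?_ ?_ ?_
  · rw [ea]; simp [A]
  · rw [eb, blkA_spLevi, blkB_spSiegel, blkB_spLevi, ← Matrix.mul_assoc, Units.mul_inv]; simp
  · rw [ec, hC]; simp
  · rw [ed]; simp [A]

/-- The element swapping the hyperbolic pair with index `k`. -/
noncomputable def spPairSwap (k : Fin m) : Cfsg.spGL m F :=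
  spOfBlocks (1 - Matrix.single k k 1) (-Matrix.single k k 1) (Matrix.single k k 1)
    (1 - Matrix.single k k 1)
    (by simp [Matrix.transpose_single, Matrix.sub_mul, Matrix.mul_sub])
    (by simp [Matrix.transpose_single, Matrix.sub_mul, Matrix.mul_sub])
    (by simp [Matrix.transpose_single, Matrix.sub_mul, Matrix.mul_sub])

/-- `C e_k = e_k + v` with `v k = 0`, other basis vectors fixed. -/
def colElt (k : Fin m) (v : Fin m → F) (hv : v k = 0) : GL (Fin m) F where
  val := 1 + Matrix.vecMulVec v (Pi.single k 1)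
  inv := 1 - Matrix.vecMulVec v (Pi.single k 1)
  val_inv := by
    simp [Matrix.mul_sub, Matrix.add_mul, Matrix.vecMulVec_mul_vecMulVec, hv]
  inv_val := by
    simp [Matrix.mul_add, Matrix.sub_mul, Matrix.vecMulVec_mul_vecMulVec, hv]

theorem isSymm_colPair (k : Fin m) (v : Fin m → F) :
    (Matrix.vecMulVec v (Pi.single k 1) + Matrix.vecMulVec (Pi.single k 1) v).IsSymm := by
  simp [Matrix.IsSymm, Matrix.transpose_vecMulVec, add_comm]

/-- Swapping pair `k` carries the `k`-th column elements into the Siegel group. -/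
theorem spPairSwap_conj_colElt (k : Fin m) (v : Fin m → F) (hv : v k = 0) :
    spPairSwap k * spLevi (colElt k v hv) * (spPairSwap k)⁻¹ =
      spSiegel _ (isSymm_colPair k v) := by
  rw [mul_inv_eq_iff_eq_mul]
  obtain ⟨ea, eb, ec, ed⟩ := blk_mul (spPairSwap k) (spLevi (colElt k v hv))
  obtain ⟨fa, fb, fc, fd⟩ := blk_mul (spSiegel _ (isSymm_colPair k v)) (spPairSwap (F := F) k)
  obtain ⟨w1, w2, w3, w4⟩ := blk_spOfBlocks (m := m) (F := F) (A := 1 - Matrix.single k k 1)
    (B := -Matrix.single k k 1) (C := Matrix.single k k 1) (D := 1 - Matrix.single k k 1)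
    (by simp [Matrix.transpose_single, Matrix.sub_mul, Matrix.mul_sub])
    (by simp [Matrix.transpose_single, Matrix.sub_mul, Matrix.mul_sub])
    (by simp [Matrix.transpose_single, Matrix.sub_mul, Matrix.mul_sub])
  change blkA (spPairSwap k) = _ at w1
  change blkB (spPairSwap k) = _ at w2
  change blkC (spPairSwap k) = _ at w3
  change blkD (spPairSwap k) = _ at w4
  have hk : Matrix.single k k (1 : F) = Matrix.vecMulVec (Pi.single k 1) (Pi.single k 1) := by
    ext i j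
    simp only [Matrix.single_apply, Matrix.vecMulVec_apply, Pi.single_apply, eq_comm (a := k)]
    split_ifs <;> simp_all
  have hinv : ((colElt k v hv)⁻¹).1 = 1 - Matrix.vecMulVec v (Pi.single k 1) := rfl
  have hval : (colElt k v hv).1 = 1 + Matrix.vecMulVec v (Pi.single k 1) := rfl
  refine spGL_ext_blk ?_ ?_ ?_ ?_
  · rw [ea, fa]
    simp [w1, w2, w3, w4, hk, hval, Matrix.mul_add, Matrix.add_mul, Matrix.sub_mul, Matrix.mul_sub,
      Matrix.vecMulVec_mul_vecMulVec, hv]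
  · rw [eb, fb]
    simp [w1, w2, w3, w4, hk, hinv, Matrix.mul_add, Matrix.add_mul, Matrix.sub_mul, Matrix.mul_sub,
      Matrix.vecMulVec_mul_vecMulVec, Matrix.transpose_vecMulVec, hv]
    abel
  · rw [ec, fc]
    simp [w1, w2, w3, w4, hk, hval, Matrix.mul_add, Matrix.add_mul, Matrix.sub_mul, Matrix.mul_sub,
      Matrix.vecMulVec_mul_vecMulVec, hv]
  · rw [ed, fd]
    simp [w1, w2, w3, w4, hk, hinv, Matrix.mul_add, Matrix.add_mul, Matrix.sub_mul, Matrix.mul_sub,
      Matrix.vecMulVec_mul_vecMulVec, Matrix.transpose_vecMulVec, hv]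

theorem spGL_mulVec_inl (g : Cfsg.spGL m F) (j : Fin m) :
    g • (eL j) = Sum.elim (fun i => blkA g i j) (fun i => blkC g i j) := by
  funext x
  rw [spGL_smul_eq, Matrix.mulVec_single_one]
  cases x <;> rfl

theorem spGL_mulVec_inr (g : Cfsg.spGL m F) (j : Fin m) :
    g • (eR j) = Sum.elim (fun i => blkB g i j) (fun i => blkD g i j) := by
  funext x
  rw [spGL_smul_eq, Matrix.mulVec_single_one]
  cases x <;> rfl

/-! ## The maximal unipotent subgroup -/

/-- Upper unitriangular square matrix. -/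
def IsUpperUni (A : Matrix (Fin m) (Fin m) F) : Prop :=
  ∀ i j, j ≤ i → A i j = if i = j then 1 else 0

theorem IsUpperUni.mul {A B : Matrix (Fin m) (Fin m) F} (hA : IsUpperUni A) (hB : IsUpperUni B) :
    IsUpperUni (A * B) := by
  intro i j hij
  rw [Matrix.mul_apply, Finset.sum_eq_single i]
  · rw [hA i i le_rfl, if_pos rfl, one_mul, hB i j hij]
  · intro k _ hk
    rcases lt_or_gt_of_ne hk with h | h
    · rw [hA i k h.le, if_neg h.ne', zero_mul]
    · rw [hB k j (hij.trans h.le), if_neg (hij.trans_lt h).ne', mul_zero]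
  · simp

theorem isUpperUni_one : IsUpperUni (1 : Matrix (Fin m) (Fin m) F) :=
  fun _ _ _ => Matrix.one_apply

theorem isUpperUni_colElt (k : Fin m) (v : Fin m → F) (hv : v k = 0)
    (hv' : ∀ i, k ≤ i → v i = 0) : IsUpperUni (colElt k v hv).1 := by
  intro i j hij
  change (1 + Matrix.vecMulVec v (Pi.single k 1) : Matrix _ _ F) i j = _
  rw [Matrix.add_apply, Matrix.vecMulVec_apply, Matrix.one_apply]
  by_cases hj : j = k
  · subst hj; simp [hv' i hij]
  · simp [hj]

variable [Finite F]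

/-- A subgroup of a finite group from a submonoid. -/
def subgroupOfSubmonoidFinite {G : Type*} [Group G] [Finite G] (M : Submonoid G) : Subgroup G where
  toSubmonoid := M
  inv_mem' {x} hx := by
    have h : x⁻¹ = x ^ (orderOf x - 1) := by
      refine inv_eq_of_mul_eq_one_right ?_
      rw [← pow_succ', Nat.sub_add_cancel (orderOf_pos x), pow_orderOf_eq_one]
    rw [h]
    exact pow_mem (S := M) hx _

/-- The group of elements with zero lower left block and upper unitriangular upper left block. -/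
def spBorelU (m : ℕ) (F : Type*) [Field F] [Finite F] : Subgroup (Cfsg.spGL m F) :=
  subgroupOfSubmonoidFinite
    { carrier := {g | blkC g = 0 ∧ IsUpperUni (blkA g)}
      one_mem' := ⟨blk_one.2.2.1, by rw [blk_one.1]; exact isUpperUni_one⟩
      mul_mem' := fun {g h} hg hh => by
        obtain ⟨ea, eb, ec, ed⟩ := blk_mul g h
        refine ⟨?_, ?_⟩
        · rw [ec, hg.1, hh.1]; simp
        · rw [ea, hh.1, Matrix.mul_zero, add_zero]; exact hg.2.mul hh.2 }

theorem mem_spBorelU {g : Cfsg.spGL m F} :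
    g ∈ spBorelU m F ↔ blkC g = 0 ∧ IsUpperUni (blkA g) := Iff.rfl

theorem spSiegel_mem_spBorelU {B : Matrix (Fin m) (Fin m) F} (hB : B.IsSymm) :
    spSiegel B hB ∈ spBorelU m F :=
  ⟨blkC_spSiegel hB, by rw [blkA_spSiegel]; exact isUpperUni_one⟩

theorem spLevi_mem_spBorelU {A : GL (Fin m) F} (hA : IsUpperUni A.1) :
    spLevi A ∈ spBorelU m F :=
  ⟨blkC_spLevi A, by rw [blkA_spLevi]; exact hA⟩

theorem blkA_pow_of_mem {g : Cfsg.spGL m F} (hg : g ∈ spBorelU m F) (n : ℕ) :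
    blkA (g ^ n) = blkA g ^ n := by
  induction n with
  | zero => simp [blk_one.1]
  | succ n ih =>
    rw [pow_succ, (blk_mul (g ^ n) g).1, hg.1, Matrix.mul_zero, add_zero, ih, pow_succ]

theorem exists_eq_spSiegel_of_blk (g : Cfsg.spGL m F) (hA : blkA g = 1) (hC : blkC g = 0) :
    ∃ (B : Matrix (Fin m) (Fin m) F) (hB : B.IsSymm), g = spSiegel B hB := by
  obtain ⟨A, B, hB, hA', hg⟩ := exists_spLevi_mul_spSiegel g hC
  have : A = 1 := Units.ext (hA'.trans hA)
  exact ⟨B, hB, by rw [hg, this, map_one, one_mul]⟩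

theorem spSiegel_pow_char (p : ℕ) [Fact p.Prime] [CharP F p] {B : Matrix (Fin m) (Fin m) F}
    (hB : B.IsSymm) : spSiegel B hB ^ p = 1 := by
  have : ∀ n : ℕ, ∀ h, spSiegel B hB ^ n = spSiegel ((n : F) • B) h := by
    intro n
    induction n with
    | zero =>
      intro h
      rw [pow_zero, ← spSiegel_zero]
      congr 1
      simp
    | succ n ih =>
      intro h
      rw [pow_succ, ih (hB.smul _), spSiegel_mul]
      congr 1
      rw [Nat.cast_succ, add_smul, one_smul]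
  rw [this p (hB.smul _), ← spSiegel_zero]
  congr 1
  simp

theorem isPGroup_spBorelU (p : ℕ) [Fact p.Prime] [CharP F p] : IsPGroup p (spBorelU m F) := by
  rintro ⟨g, hg⟩
  set N := blkA g - 1 with hN
  have hNm : ∀ k : ℕ, ∀ i j : Fin m, j.1 < i.1 + k → (N ^ k) i j = 0 := by
    intro k
    induction k with
    | zero => intro i j h; rw [pow_zero]; exact Matrix.one_apply_ne (Fin.ne_of_gt (by omega))
    | succ k ih =>
      intro i j h
      rw [pow_succ, Matrix.mul_apply]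
      refine Finset.sum_eq_zero fun l _ => ?_
      by_cases hl : l.1 < i.1 + k
      · rw [ih i l hl, zero_mul]
      · have hjl : j ≤ l := by rw [Fin.le_def]; omega
        rw [hN, Matrix.sub_apply, hg.2 l j hjl, Matrix.one_apply, sub_self, mul_zero]
  have hA : blkA g ^ p ^ m = 1 := by
    have h0 : N ^ p ^ m = 0 := by
      refine pow_eq_zero_of_le (Nat.lt_pow_self (Fact.out : p.Prime).one_lt).le ?_
      ext i j
      exact hNm m i j (by omega)
    by_cases hm : Nonempty (Fin m)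
    · rw [show blkA g = N + 1 by rw [hN, sub_add_cancel],
        add_pow_char_pow_of_commute (p := p) (n := m) (h := Commute.one_right N),
        h0, one_pow, zero_add]
    · ext i; exact absurd ⟨i⟩ hm
  have hgN := pow_mem hg (p ^ m)
  obtain ⟨B, hB, hgB⟩ := exists_eq_spSiegel_of_blk (g ^ p ^ m)
    (by rw [blkA_pow_of_mem hg, hA]) hgN.1
  exact ⟨m + 1, Subtype.ext (by
    rw [SubgroupClass.coe_pow, pow_succ, pow_mul, hgB, spSiegel_pow_char p hB]
    rfl)⟩

end Cfsg.Agent.Linear
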