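import Cfsg.Agent.EqLemmas
import Cfsg.Agent.Lib.GLOrder.Symplectic
import Cfsg.Agent.Lib.PrimeOrderElt.Count
import Cfsg.Agent.Lib.PrimeOrderElt.Criteria

/-!
# Pairs of complementary totally isotropic subspaces

`card_polar_pairs`: their number times `|GL_d|` is the number of hyperbolic bases;
`exists_of_dvd_polar_pairs`: a prime other than the characteristic dividing it divides some `q^i + 1`;
`exists_irreducible`: for `ord_r q = 2j`, an element of order `r` of `Sp_{2j}` acting irreducibly.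
-/

set_option autoImplicit false
open Matrix Module

namespace Cfsg.Agent.Linear

open Cfsg.Agent.GLOrder

variable {F : Type*} [Field F] {d : ℕ}

/-- Complementary totally isotropic pairs of the standard form. -/
abbrev PolarPair (d : ℕ) (F : Type*) [Field F] : Type _ :=
  {P : Submodule F (Fin d ⊕ Fin d → F) × Submodule F (Fin d ⊕ Fin d → F) // IsCompl P.1 P.2 ∧
    (∀ u ∈ P.1, ∀ v ∈ P.1, Cfsg.sympForm d F u v = 0) ∧ (∀ u ∈ P.2, ∀ v ∈ P.2, Cfsg.sympForm d F u v = 0)}

theorem polar_iso (P : PolarPair d F) :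
    (∀ u ∈ P.1.1, ∀ v ∈ P.1.1, sympB d F u v = 0) ∧ (∀ u ∈ P.1.2, ∀ v ∈ P.1.2, sympB d F u v = 0) :=
  ⟨fun u hu v hv => by rw [sympB_eq_neg_sympForm, P.2.2.1 u hu v hv, neg_zero],
    fun u hu v hv => by rw [sympB_eq_neg_sympForm, P.2.2.2 u hu v hv, neg_zero]⟩

/-- In a polar pair the second space is dual to the first. -/
theorem polar_dual_injective (P : PolarPair d F) (w : Fin d ⊕ Fin d → F) (hw : w ∈ P.1.2)
    (h : ∀ u ∈ P.1.1, sympB d F u w = 0) : w = 0 := by
  refine sympB_nondeg w fun v => ?_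
  obtain ⟨a, ha, b, hb, rfl⟩ : ∃ a ∈ P.1.1, ∃ b ∈ P.1.2, a + b = v := by
    rw [← Submodule.mem_sup, P.2.1.sup_eq_top]; trivial
  rw [map_add, sympB_swap a w, h a ha, (polar_iso P).2 w hw b hb]
  simp

theorem polar_finrank (P : PolarPair d F) : finrank F P.1.1 = d ∧ finrank F P.1.2 = d := by
  have hsum := Submodule.finrank_add_eq_of_isCompl P.2.1
  rw [finrank_sympSpace] at hsum
  let φ : P.1.2 →ₗ[F] (P.1.1 →ₗ[F] F) :=
    LinearMap.compl₁₂ (sympB d F).flip P.1.2.subtype P.1.1.subtype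
  have hφ : Function.Injective φ := by
    rw [← LinearMap.ker_eq_bot, LinearMap.ker_eq_bot']
    intro w hw
    exact Subtype.ext (polar_dual_injective P w w.2 fun u hu => LinearMap.congr_fun hw ⟨u, hu⟩)
  have h1 := LinearMap.finrank_le_finrank_of_injective hφ
  let Q : PolarPair d F := ⟨(P.1.2, P.1.1), P.2.1.symm, P.2.2.2, P.2.2.1⟩
  let ψ : P.1.1 →ₗ[F] (P.1.2 →ₗ[F] F) :=
    LinearMap.compl₁₂ (sympB d F).flip P.1.1.subtype P.1.2.subtype
  have hψ : Function.Injective ψ := by
    rw [← LinearMap.ker_eq_bot, LinearMap.ker_eq_bot']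
    intro w hw
    exact Subtype.ext (polar_dual_injective Q w w.2 fun u hu => LinearMap.congr_fun hw ⟨u, hu⟩)
  have h2 := LinearMap.finrank_le_finrank_of_injective hψ
  rw [Subspace.dual_finrank_eq] at h1 h2
  omega

theorem exists_dual (P : PolarPair d F) (s : Fin d → P.1.1) (hs : LinearIndependent F s) :
    ∃ f : Fin d → P.1.2, ∀ i j, sympB d F (s i) (f j) = if i = j then 1 else 0 := by
  have hspan := hs.span_eq_top_of_card_eq_finrank' (by rw [Fintype.card_fin, (polar_finrank P).1])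
  let L : P.1.2 →ₗ[F] (Fin d → F) := LinearMap.pi fun i => ((sympB d F) (s i)).comp P.1.2.subtype
  have hL : Function.Injective L := by
    rw [← LinearMap.ker_eq_bot, LinearMap.ker_eq_bot']
    intro w hw
    refine Subtype.ext (polar_dual_injective P w w.2 fun u hu => ?_)
    have hmem : (⟨u, hu⟩ : P.1.1) ∈ Submodule.span F (Set.range s) := hspan ▸ Submodule.mem_top
    have hle : Submodule.span F (Set.range s) ≤
        LinearMap.ker (((sympB d F).flip (w : Fin d ⊕ Fin d → F)).comp P.1.1.subtype) := by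
      rw [Submodule.span_le]
      rintro _ ⟨i, rfl⟩
      exact congrFun hw i
    exact hle hmem
  have hsurj : Function.Surjective L :=
    (LinearMap.injective_iff_surjective_of_finrank_eq_finrank
      (by rw [(polar_finrank P).2, Module.finrank_fin_fun])).1 hL
  choose f hf using fun j => hsurj (Pi.single j 1)
  exact ⟨f, fun i j => by rw [← Pi.single_apply]; exact congrFun (hf j) i⟩

theorem frame_indep {e f : Fin d → Fin d ⊕ Fin d → F} (h : IsSympFrame (sympB d F) e f) :
    LinearIndependent F e ∧ LinearIndependent F f ∧ LinearIndependent F (Sum.elim e f) := by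
  have key : LinearIndependent F (Sum.elim e f) := by
    rw [Fintype.linearIndependent_iff]
    intro c hc
    rw [Fintype.sum_sum_type] at hc
    simp only [Sum.elim_inl, Sum.elim_inr] at hc
    rintro (i | i)
    · have h1 := congrArg (fun v => sympB d F v (f i)) hc
      simpa [map_sum, h.2.1, h.2.2] using h1
    · have h1 := congrArg (fun v => sympB d F (e i) v) hc
      simpa [map_sum, h.1, h.2.2] using h1
  exact ⟨key.comp Sum.inl Sum.inl_injective, key.comp Sum.inr Sum.inr_injective, key⟩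

theorem span_iso {e : Fin d → Fin d ⊕ Fin d → F} (h : ∀ i j, sympB d F (e i) (e j) = 0) :
    ∀ u ∈ Submodule.span F (Set.range e), ∀ v ∈ Submodule.span F (Set.range e), Cfsg.sympForm d F u v = 0 := by
  intro u hu v hv
  rw [← neg_eq_zero, ← sympB_eq_neg_sympForm]
  have hle : ∀ i, Submodule.span F (Set.range e) ≤ LinearMap.ker (sympB d F (e i)) := fun i => by
    rw [Submodule.span_le]
    rintro _ ⟨j, rfl⟩
    exact h i j
  have hle2 : Submodule.span F (Set.range e) ≤ LinearMap.ker ((sympB d F).flip v) := by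
    rw [Submodule.span_le]
    rintro _ ⟨i, rfl⟩
    exact hle i hv
  exact hle2 hu

theorem card_polar_pairs [Fintype F] (d : ℕ) :
    Nat.card (PolarPair d F) * (Fintype.card F ^ (∑ j ∈ Finset.range d, j) *
        ∏ j ∈ Finset.range d, (Fintype.card F ^ (d - j) - 1)) =
      ∏ i ∈ Finset.range d, ((Fintype.card F ^ (2 * (i + 1)) - 1) * Fintype.card F ^ (2 * i + 1)) := by
  classical
  haveI : Finite (Fin d ⊕ Fin d → F) := Module.finite_of_finite F
  haveI : Finite (Submodule F (Fin d ⊕ Fin d → F)) :=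
    Finite.of_injective (fun W => (W : Set (Fin d ⊕ Fin d → F))) SetLike.coe_injective
  have hfr := card_frame d (sympB d F) sympB_self sympB_nondeg finrank_sympSpace
  rw [Nat.card_eq_fintype_card (α := F)] at hfr
  rw [← hfr]
  let T : Type _ := Σ P : PolarPair d F, {s : Fin d → P.1.1 // LinearIndependent F s}
  have hcard : Nat.card T = Nat.card (PolarPair d F) * (Fintype.card F ^ (∑ j ∈ Finset.range d, j) *
      ∏ j ∈ Finset.range d, (Fintype.card F ^ (d - j) - 1)) :=
    card_sigma_const fun P => PrimeOrderElt.card_frames (polar_finrank P).1 le_rfl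
  rw [← hcard]
  -- the pair spanned by a frame
  let toP : Frame (sympB d F) d → PolarPair d F := fun t =>
    ⟨(Submodule.span F (Set.range t.1.1), Submodule.span F (Set.range t.1.2)), by
      obtain ⟨-, -, hind⟩ := frame_indep t.2
      refine ⟨⟨?_, ?_⟩, span_iso t.2.1, span_iso t.2.2.1⟩
      · exact ((linearIndependent_sum.mp hind).2.2 : Disjoint _ _)
      · rw [codisjoint_iff, ← Submodule.span_union, ← Set.Sum.elim_range]
        exact hind.span_eq_top_of_card_eq_finrank' (by rw [finrank_sympSpace]; simp; ring)⟩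
  let E : Frame (sympB d F) d → T := fun t =>
    ⟨toP t, fun i => ⟨t.1.1 i, Submodule.subset_span ⟨i, rfl⟩⟩,
      LinearIndependent.of_comp (Submodule.span F (Set.range t.1.1)).subtype (frame_indep t.2).1⟩
  have hE : Function.Bijective E := by
    constructor
    · intro t t' h
      have hU : toP t = toP t' := congrArg Sigma.fst h
      have h1 : t.1.1 = t'.1.1 := by
        funext i
        exact congrArg (fun x : T => ((x.2.1 i : x.1.1.1) : Fin d ⊕ Fin d → F)) h
      refine Subtype.ext (Prod.ext h1 (funext fun j => ?_))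
      have hW : Submodule.span F (Set.range t.1.2) = Submodule.span F (Set.range t'.1.2) :=
        congrArg (fun P : PolarPair d F => P.1.2) hU
      have hmem : t.1.2 j - t'.1.2 j ∈ (toP t).1.2 :=
        Submodule.sub_mem _ (Submodule.subset_span ⟨j, rfl⟩) (by
          show t'.1.2 j ∈ Submodule.span F (Set.range t.1.2)
          rw [hW]; exact Submodule.subset_span ⟨j, rfl⟩)
      refine sub_eq_zero.1 (polar_dual_injective (toP t) _ hmem fun u hu => ?_)
      have hle : Submodule.span F (Set.range t.1.1) ≤ LinearMap.ker ((sympB d F).flip (t.1.2 j - t'.1.2 j)) := by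
        rw [Submodule.span_le]
        rintro _ ⟨i, rfl⟩
        show sympB d F (t.1.1 i) (t.1.2 j - t'.1.2 j) = 0
        rw [map_sub, t.2.2.2, h1, t'.2.2.2, sub_self]
      exact hle hu
    · rintro ⟨P, s, hs⟩
      obtain ⟨f, hf⟩ := exists_dual P s hs
      let t : Frame (sympB d F) d := ⟨(fun i => (s i : Fin d ⊕ Fin d → F), fun i => (f i : Fin d ⊕ Fin d → F)),
        fun i j => (polar_iso P).1 _ (s i).2 _ (s j).2, fun i j => (polar_iso P).2 _ (f i).2 _ (f j).2, hf⟩
      refine ⟨t, ?_⟩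
      obtain ⟨hd1, hd2⟩ := polar_finrank P
      have hspan1 : Submodule.span F (Set.range t.1.1) = P.1.1 := by
        refine Submodule.eq_of_le_of_finrank_eq (Submodule.span_le.2 (by rintro _ ⟨i, rfl⟩; exact (s i).2)) ?_
        rw [finrank_span_eq_card (frame_indep t.2).1, Fintype.card_fin, hd1]
      have hspan2 : Submodule.span F (Set.range t.1.2) = P.1.2 := by
        refine Submodule.eq_of_le_of_finrank_eq (Submodule.span_le.2 (by rintro _ ⟨i, rfl⟩; exact (f i).2)) ?_
        rw [finrank_span_eq_card (frame_indep t.2).2.1, Fintype.card_fin, hd2]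
      have key : ∀ (P' : PolarPair d F), P' = P → ∀ (s' : Fin d → P'.1.1) (hs' : LinearIndependent F s'),
          (∀ i, (s' i : Fin d ⊕ Fin d → F) = s i) → (⟨P', s', hs'⟩ : T) = ⟨P, s, hs⟩ := by
        rintro P' rfl s' hs' h
        obtain rfl : s' = s := funext fun i => Subtype.ext (h i)
        rfl
      exact key (toP t) (Subtype.ext (Prod.ext hspan1 hspan2)) _ _ fun i => rfl
  exact (Nat.card_congr (Equiv.ofBijective E hE)).symm

theorem exists_of_dvd_polar_pairs [Fintype F] {r : ℕ} (hr : r.Prime) (hrq : ¬ r ∣ Fintype.card F) {d : ℕ}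
    (h : r ∣ Nat.card (PolarPair d F)) : ∃ i, 1 ≤ i ∧ i ≤ d ∧ r ∣ Fintype.card F ^ i + 1 := by
  set q := Fintype.card F with hq
  have hq1 : 1 < q := Fintype.one_lt_card
  have hc := card_polar_pairs (F := F) d
  have hrefl : ∏ j ∈ Finset.range d, (q ^ (d - j) - 1) = ∏ i ∈ Finset.range d, (q ^ (i + 1) - 1) := by
    rw [← Finset.prod_range_reflect]
    refine Finset.prod_congr rfl fun j hj => ?_
    have := Finset.mem_range.1 hj
    congr 2; omega
  have hsplit : ∀ i ∈ Finset.range d, (q ^ (2 * (i + 1)) - 1) * q ^ (2 * i + 1) =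
      (q ^ (i + 1) - 1) * ((q ^ (i + 1) + 1) * q ^ (2 * i + 1)) := by
    intro i _
    rw [← mul_assoc]
    congr 1
    rw [mul_comm 2, pow_mul, mul_comm (q ^ (i + 1) - 1), ← Nat.sq_sub_sq, one_pow]
  rw [← hq, hrefl, Finset.prod_congr rfl hsplit, Finset.prod_mul_distrib] at hc
  set A := ∏ i ∈ Finset.range d, (q ^ (i + 1) - 1)
  have hA : 0 < A := Finset.prod_pos fun i _ => by
    have : q ≤ q ^ (i + 1) := Nat.le_self_pow (by omega) _
    omega
  have hc' : Nat.card (PolarPair d F) * q ^ (∑ j ∈ Finset.range d, j) =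
      ∏ i ∈ Finset.range d, (q ^ (i + 1) + 1) * q ^ (2 * i + 1) := by
    apply Nat.eq_of_mul_eq_mul_left hA
    linear_combination hc
  have hd : r ∣ ∏ i ∈ Finset.range d, (q ^ (i + 1) + 1) * q ^ (2 * i + 1) := hc' ▸ h.mul_right _
  obtain ⟨i, hi, hdi⟩ := (hr.prime.dvd_finsetProd_iff _).1 hd
  exact ⟨i + 1, by omega, by have := Finset.mem_range.1 hi; omega,
    (hr.dvd_mul.1 hdi).resolve_right fun h' => hrq (hr.dvd_of_dvd_pow h')⟩

theorem orderOf_eq_even [Fintype F] {r : ℕ} [Fact r.Prime] (hr2 : r ≠ 2) (hr : (r : F) ≠ 0) {i : ℕ}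
    (h : r ∣ Fintype.card F ^ i + 1) :
    ∃ j, 1 ≤ j ∧ orderOf (Fintype.card F : ZMod r) = 2 * j ∧ (2 * j ∣ 2 * i) := by
  set o := orderOf (Fintype.card F : ZMod r) with ho
  have hpos : 0 < o := PrimeOrderElt.orderOf_card_pos hr
  have h1 : (Fintype.card F : ZMod r) ^ i = -1 := by
    rw [eq_neg_iff_add_eq_zero, ← Nat.cast_pow, ← Nat.cast_one (R := ZMod r), ← Nat.cast_add]
    exact (ZMod.natCast_eq_zero_iff _ _).2 h
  have h2 : o ∣ 2 * i := orderOf_dvd_of_pow_eq_one (by rw [mul_comm, pow_mul, h1, neg_one_sq])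
  have h3 : ¬ o ∣ i := by
    intro hd
    rw [ho, orderOf_dvd_iff_pow_eq_one, h1] at hd
    have h4 : ((2 : ℕ) : ZMod r) = 0 := by
      rw [Nat.cast_ofNat]
      linear_combination -hd
    rw [ZMod.natCast_eq_zero_iff] at h4
    exact hr2 ((Nat.prime_dvd_prime_iff_eq Fact.out Nat.prime_two).1 h4)
  obtain ⟨j, hj⟩ : Even o := by
    rw [← Nat.not_odd_iff_even]
    intro hodd
    exact h3 ((Nat.Coprime.dvd_of_dvd_mul_left (Nat.coprime_two_right.2 hodd) h2))
  exact ⟨j, by omega, by omega, by rw [show 2 * j = o by omega]; exact h2⟩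

theorem exists_irreducible [Fintype F] {r : ℕ} [Fact r.Prime] (hr : (r : F) ≠ 0) {j : ℕ} (hj : 1 ≤ j)
    (ho : orderOf (Fintype.card F : ZMod r) = 2 * j) :
    ∃ y : Matrix.symplecticGroup (Fin j) F, y.1 ^ r = 1 ∧ y.1 ≠ 1 ∧
      ∀ T : Submodule F (Fin j ⊕ Fin j → F), (∀ v ∈ T, y.1 *ᵥ v ∈ T) → T = ⊥ ∨ T = ⊤ := by
  classical
  have hdvd : r ∣ Nat.card (Matrix.symplecticGroup (Fin j) F) := by
    rw [card_Sp, Nat.card_eq_fintype_card]
    refine dvd_mul_of_dvd_right ((dvd_trans ?_ (Finset.dvd_prod_of_mem _ (Finset.mem_range.2 (show j - 1 < j by omega))))) _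
    rw [show 2 * (j - 1 + 1) = 2 * j by omega, PrimeOrderElt.dvd_pow_sub_one_iff, ho]
  haveI : Finite (Matrix.symplecticGroup (Fin j) F) := Subtype.finite
  obtain ⟨y, hy⟩ := exists_prime_orderOf_dvd_card' r hdvd
  have hyr : y.1 ^ r = 1 := by
    have h := pow_orderOf_eq_one y
    rw [hy] at h
    exact (SubmonoidClass.coe_pow y r).symm.trans (congrArg Subtype.val h)
  have hy1 : y.1 ≠ 1 := fun h => by
    rw [show y = 1 from Subtype.ext h, orderOf_one] at hy
    exact (Fact.out : r.Prime).ne_one hy.symm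
  refine ⟨y, hyr, hy1, fun T hT => ?_⟩
  set g : Module.End F (Fin j ⊕ Fin j → F) := Matrix.toLin' y.1 with hg
  have hgr : g ^ r = 1 := by
    show (Matrix.toLinAlgEquiv' y.1) ^ r = 1
    rw [← map_pow, hyr, map_one]
  have hfix : PrimeOrderElt.fix g ≠ ⊤ := fun h => hy1 (Matrix.toLin'.injective (by
    rw [Matrix.toLin'_one]
    refine LinearMap.ext fun v => ?_
    exact PrimeOrderElt.mem_fix.1 (h ▸ Submodule.mem_top)))
  obtain ⟨s, hs, -⟩ := PrimeOrderElt.exists_dims hr hgr (W := ⊤) le_top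
  rw [finrank_top, top_inf_eq, finrank_sympSpace, ho] at hs
  have hs0 : s ≠ 0 := by
    rintro rfl
    refine hfix (Submodule.eq_top_of_finrank_eq ?_)
    rw [finrank_sympSpace]; omega
  have hs' : 2 * j ≤ s * (2 * j) := Nat.le_mul_of_pos_left _ (Nat.pos_of_ne_zero hs0)
  have hfix0 : PrimeOrderElt.fix g = ⊥ := Submodule.finrank_eq_zero.1 (by omega)
  have hTi : PrimeOrderElt.Inv g T := by rintro _ ⟨v, hv, rfl⟩; exact hT v hv
  obtain ⟨t, ht, -⟩ := PrimeOrderElt.exists_dims hr hgr hTi
  rw [hfix0, inf_bot_eq, finrank_bot, zero_add, ho] at ht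
  rcases Nat.eq_zero_or_pos t with rfl | ht0
  · exact Or.inl (Submodule.finrank_eq_zero.1 (by omega))
  · refine Or.inr (Submodule.eq_top_of_finrank_eq ?_)
    have h1 := Submodule.finrank_le T
    rw [finrank_sympSpace] at h1 ⊢
    have : 2 * j ≤ t * (2 * j) := Nat.le_mul_of_pos_left _ ht0
    omega

end Cfsg.Agent.Linear
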