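import Cfsg.Agent.EqLemmas
import Cfsg.Agent.Lib.Linear.BlockPairs

/-!
# Normalisers of quadratic extension fields in the matrix algebra

For a subalgebra `K = F[j]` of degree two, `exists_mem_normalizer_iff`: a determinant one matrix is
conjugate in `SL` into the normaliser of `K` iff it centralises or inverts some `J` with the
quadratic equation of `j`.
-/

set_option autoImplicit false
open Matrix

namespace Cfsg.Agent.Linear

variable {F : Type*} [Field F] {n : ℕ}

/-- A generator of a quadratic field subalgebra. -/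
theorem exists_gen_of_quad [NeZero n] {K : Subalgebra F (Matrix (Fin n) (Fin n) F)}
    (hK : Cfsg.Geo.IsFieldSubalgebra 2 K) :
    ∃ j ∈ K, ∃ a b : F, j * j = a • j + b • (1 : Matrix (Fin n) (Fin n) F) ∧
      (∀ c : F, c * c ≠ a * c + b) ∧ ∀ k ∈ K, ∃ α β : F, k = α • (1 : Matrix (Fin n) (Fin n) F) + β • j := by
  have hfd : Module.Finite F K := Module.finite_of_finrank_pos (by rw [hK.finrank_eq]; norm_num)
  obtain ⟨j, hjK, hj⟩ : ∃ j ∈ K, ∀ c : F, j ≠ c • (1 : Matrix (Fin n) (Fin n) F) := by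
    by_contra hall
    push Not at hall
    have hle : Module.finrank F K ≤ 1 := by
      refine finrank_le_one (⟨1, K.one_mem⟩ : K) fun w => ?_
      obtain ⟨c, hc⟩ := hall w w.2
      exact ⟨c, Subtype.ext hc.symm⟩
    rw [hK.finrank_eq] at hle
    omega
  have hind : LinearIndependent F ![(⟨1, K.one_mem⟩ : K), ⟨j, hjK⟩] := by
    rw [LinearIndependent.pair_iff]
    intro s t h
    have h' : s • (1 : Matrix (Fin n) (Fin n) F) + t • j = 0 := congrArg Subtype.val h
    by_cases ht : t = 0
    · subst ht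
      rw [zero_smul, add_zero, smul_eq_zero] at h'
      exact ⟨h'.resolve_right one_ne_zero, rfl⟩
    · refine absurd ?_ (hj (-(t⁻¹ * s)))
      have h2 : t • j = (-s) • (1 : Matrix (Fin n) (Fin n) F) := by
        rw [neg_smul]; exact eq_neg_of_add_eq_zero_right h'
      calc j = t⁻¹ • (t • j) := by rw [smul_smul, inv_mul_cancel₀ ht, one_smul]
        _ = _ := by rw [h2, smul_smul, mul_neg]
  have hspan := hind.span_eq_top_of_card_eq_finrank' (by rw [Fintype.card_fin, hK.finrank_eq])
  have hsp : ∀ k ∈ K, ∃ α β : F, k = α • (1 : Matrix (Fin n) (Fin n) F) + β • j := by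
    intro k hk
    have : (⟨k, hk⟩ : K) ∈ Submodule.span F (Set.range ![(⟨1, K.one_mem⟩ : K), ⟨j, hjK⟩]) :=
      hspan ▸ Submodule.mem_top
    rw [Matrix.range_cons, Matrix.range_cons, Matrix.range_empty, Set.union_empty,
      Set.singleton_union, Submodule.mem_span_pair] at this
    obtain ⟨α, β, h⟩ := this
    exact ⟨α, β, (congrArg Subtype.val h).symm⟩
  obtain ⟨b, a, hab⟩ := hsp (j * j) (K.mul_mem hjK hjK)
  refine ⟨j, hjK, a, b, by rw [hab, add_comm], fun c hc => ?_, hsp⟩
  have hm1 : j - c • (1 : Matrix (Fin n) (Fin n) F) ∈ K := K.sub_mem hjK (K.smul_mem K.one_mem c)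
  have hne : j - c • (1 : Matrix (Fin n) (Fin n) F) ≠ 0 := fun h => hj c (sub_eq_zero.1 h)
  obtain ⟨y, -, hy⟩ := hK.inv _ hm1 hne
  have hzero : (j - (a - c) • (1 : Matrix (Fin n) (Fin n) F)) * (j - c • 1) = 0 := by
    simp only [mul_sub, sub_mul, Matrix.smul_mul, Matrix.mul_smul, one_mul, mul_one, hab]
    match_scalars
    · linear_combination -hc
    · ring
  apply hj (a - c)
  have h2 := congrArg (· * y) hzero
  simp only [mul_assoc, hy, mul_one, zero_mul] at h2
  exact sub_eq_zero.1 h2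

theorem exists_det_centralizer [Fintype F] {m : ℕ} (hm : 0 < m) (e : Fin 2 × Fin m ≃ Fin n)
    (P : GL (Fin n) F) (a b : F) (hno : ∀ c : F, c * c ≠ a * c + b) (d : F) (hd : d ≠ 0) :
    ∃ C : GL (Fin n) F, (C : Matrix (Fin n) (Fin n) F).det = d ∧
      (C : Matrix (Fin n) (Fin n) F) * pairHom e P (fun _ => comp2 a b) =
        pairHom e P (fun _ => comp2 a b) * (C : Matrix (Fin n) (Fin n) F) := by
  obtain ⟨x, y, hxy⟩ := exists_norm_eq a b d hno
  let blk : Fin m → Matrix (Fin 2) (Fin 2) F :=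
    fun i => if i = ⟨0, hm⟩ then x • 1 + y • comp2 a b else 1
  have hdet : (pairHom e P blk).det = d := by
    rw [det_pairHom, Finset.prod_eq_single ⟨0, hm⟩]
    · simp only [blk, if_true]
      rw [← hxy, Matrix.det_fin_two]
      simp [comp2]; ring
    · intro i _ hi; simp [blk, hi]
    · simp
  refine ⟨GeneralLinearGroup.mkOfDetNeZero (pairHom e P blk) (by rw [hdet]; exact hd), hdet, ?_⟩
  show pairHom e P blk * _ = _ * pairHom e P blk
  rw [← map_mul, ← map_mul]
  congr 1
  funext i
  simp only [Pi.mul_apply, blk]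
  split_ifs
  · simp [add_mul, mul_add]
  · simp

theorem exists_mem_normalizer_iff [Fintype F] [NeZero n] {K : Subalgebra F (Matrix (Fin n) (Fin n) F)}
    {j : Matrix (Fin n) (Fin n) F} {a b : F} (hjK : j ∈ K)
    (hj2 : j * j = a • j + b • (1 : Matrix (Fin n) (Fin n) F)) (hno : ∀ c : F, c * c ≠ a * c + b)
    (hsp : ∀ k ∈ K, ∃ α β : F, k = α • (1 : Matrix (Fin n) (Fin n) F) + β • j)
    (hK : Cfsg.Geo.IsFieldSubalgebra 2 K) (x : Matrix.SpecialLinearGroup (Fin n) F) :
    (∃ P : Matrix.SpecialLinearGroup (Fin n) F, P⁻¹ * x * P ∈ (Cfsg.Geo.subalgebraNormalizer K).comap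
      (Matrix.SpecialLinearGroup.toGL : Matrix.SpecialLinearGroup (Fin n) F →* GL (Fin n) F)) ↔
    ∃ J : Matrix (Fin n) (Fin n) F, J * J = a • J + b • 1 ∧
      ((x : Matrix (Fin n) (Fin n) F) * J = J * x ∨
        (x : Matrix (Fin n) (Fin n) F) * J = (a • 1 - J) * x) := by
  constructor
  · rintro ⟨P, hP⟩
    rw [Subgroup.mem_comap] at hP
    set y : GL (Fin n) F := Matrix.SpecialLinearGroup.toGL (P⁻¹ * x * P) with hy
    have hk := (hP j).1 hjK
    set k := (y : Matrix (Fin n) (Fin n) F) * j * ((y⁻¹ : GL (Fin n) F) : Matrix (Fin n) (Fin n) F) with hkdef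
    have hk2 : k * k = a • k + b • (1 : Matrix (Fin n) (Fin n) F) := by
      calc k * k = (y : Matrix (Fin n) (Fin n) F) * (j * j) * ((y⁻¹ : GL (Fin n) F) : Matrix (Fin n) (Fin n) F) := by
            simp only [hkdef, mul_assoc, Units.inv_mul_cancel_left]
        _ = _ := by
            rw [hj2, mul_add, add_mul]
            simp [hkdef, mul_assoc]
    have hz : (k - j) * (k - (a • 1 - j)) = 0 := by
      have hc := hK.comm k hk j hjK
      simp only [mul_sub, sub_mul, Matrix.mul_smul, mul_one, hk2, hc, hj2]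
      module
    have hor : k = j ∨ k = a • (1 : Matrix (Fin n) (Fin n) F) - j := by
      by_contra hne
      push Not at hne
      obtain ⟨z, -, hz'⟩ := hK.inv _
        (K.sub_mem hk (K.sub_mem (K.smul_mem K.one_mem a) hjK)) (sub_ne_zero.2 hne.2)
      have h2 := congrArg (· * z) hz
      simp only [mul_assoc, hz', mul_one, zero_mul] at h2
      exact hne.1 (sub_eq_zero.1 h2)
    set Pm : Matrix (Fin n) (Fin n) F := ((Matrix.SpecialLinearGroup.toGL P : GL (Fin n) F) : Matrix (Fin n) (Fin n) F)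
    set Pi' : Matrix (Fin n) (Fin n) F :=
      (((Matrix.SpecialLinearGroup.toGL P)⁻¹ : GL (Fin n) F) : Matrix (Fin n) (Fin n) F)
    have hPP : Pi' * Pm = 1 := Units.inv_mul _
    have hPP' : Pm * Pi' = 1 := Units.mul_inv _
    have hxy : (x : Matrix (Fin n) (Fin n) F) * Pm = Pm * (y : Matrix (Fin n) (Fin n) F) := by
      have : (Matrix.SpecialLinearGroup.toGL x : GL (Fin n) F) * Matrix.SpecialLinearGroup.toGL P =
          Matrix.SpecialLinearGroup.toGL P * y := by rw [hy, ← map_mul, ← map_mul]; congr 1; group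
      exact congrArg (fun g : GL (Fin n) F => (g : Matrix (Fin n) (Fin n) F)) this
    refine ⟨Pm * j * Pi', ?_, ?_⟩
    · calc Pm * j * Pi' * (Pm * j * Pi') = Pm * (j * (Pi' * Pm) * j) * Pi' := by simp only [mul_assoc]
        _ = _ := by
          rw [hPP, mul_one, hj2, mul_add, add_mul]
          simp [hPP', mul_assoc]
    · have hyj : (y : Matrix (Fin n) (Fin n) F) * j = k * y := by
        simp [hkdef, mul_assoc]
      have hPix : Pi' * (x : Matrix (Fin n) (Fin n) F) = (y : Matrix (Fin n) (Fin n) F) * Pi' := by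
        calc Pi' * (x : Matrix (Fin n) (Fin n) F) = Pi' * ((x : Matrix (Fin n) (Fin n) F) * Pm) * Pi' := by
              simp only [mul_assoc, hPP', mul_one]
          _ = _ := by rw [hxy, ← mul_assoc, hPP, one_mul]
      rcases hor with h | h
      · left
        calc (x : Matrix (Fin n) (Fin n) F) * (Pm * j * Pi') = Pm * ((y : Matrix (Fin n) (Fin n) F) * j) * Pi' := by
              simp only [← mul_assoc, hxy]
          _ = _ := by rw [hyj, h]; simp only [mul_assoc, hPix]
      · right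
        calc (x : Matrix (Fin n) (Fin n) F) * (Pm * j * Pi') = Pm * ((y : Matrix (Fin n) (Fin n) F) * j) * Pi' := by
              simp only [← mul_assoc, hxy]
          _ = _ := by
            rw [hyj, h]
            simp only [sub_mul, mul_sub, Matrix.smul_mul, Matrix.mul_smul, one_mul, mul_assoc, hPix]
            rw [← mul_assoc, ← hxy, mul_assoc, hPP', mul_one]
  · rintro ⟨J, hJ, hx⟩
    obtain ⟨⟨m, hnm⟩, hp₁⟩ := exists_pairs j a b hj2 hno
    let e : Fin 2 × Fin m ≃ Fin n := finProdFinEquiv.trans (finCongr (by omega))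
    obtain ⟨P₁, h₁⟩ := hp₁ m e
    obtain ⟨P₂, h₂⟩ := (exists_pairs J a b hJ hno).2 m e
    -- an invertible `g` with `g j = J g`
    set g : GL (Fin n) F := P₂ * P₁⁻¹ with hg
    have hgj : (g : Matrix (Fin n) (Fin n) F) * j = J * g := by
      rw [h₁, h₂]
      show _ * (_ * Matrix.reindexAlgEquiv F F e _ * _) = (_ * Matrix.reindexAlgEquiv F F e _ * _) * _
      simp only [hg, Units.val_mul, mul_assoc, Units.inv_mul_cancel_left]
    have hm : 0 < m := by
      have := NeZero.ne n
      omega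
    have hgdet : (g : Matrix (Fin n) (Fin n) F).det ≠ 0 := g.det_ne_zero
    obtain ⟨C, hCd, hC⟩ := exists_det_centralizer hm e P₁ a b hno _ (inv_ne_zero hgdet)
    rw [← h₁] at hC
    have hdet1 : ((g * C : GL (Fin n) F) : Matrix (Fin n) (Fin n) F).det = 1 := by
      rw [Units.val_mul, Matrix.det_mul, hCd, mul_inv_cancel₀ hgdet]
    let Q : Matrix.SpecialLinearGroup (Fin n) F := ⟨_, hdet1⟩
    have hP : (Matrix.SpecialLinearGroup.toGL Q : GL (Fin n) F) = g * C := Units.ext rfl
    refine ⟨Q, ?_⟩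
    rw [Subgroup.mem_comap]
    rw [map_mul, map_mul, map_inv, hP]
    set G := g * C with hG
    have hGj : (G : Matrix (Fin n) (Fin n) F) * j = J * G := by
      rw [hG, Units.val_mul, mul_assoc, hC, ← mul_assoc, hgj, mul_assoc]
    have hjG : j * ((G⁻¹ : GL (Fin n) F) : Matrix (Fin n) (Fin n) F) =
        ((G⁻¹ : GL (Fin n) F) : Matrix (Fin n) (Fin n) F) * J := by
      calc j * ((G⁻¹ : GL (Fin n) F) : Matrix (Fin n) (Fin n) F)
          = ((G⁻¹ : GL (Fin n) F) : Matrix (Fin n) (Fin n) F) * ((G : Matrix (Fin n) (Fin n) F) * j) *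
            ((G⁻¹ : GL (Fin n) F) : Matrix (Fin n) (Fin n) F) := by simp [← mul_assoc]
        _ = _ := by rw [hGj]; simp [mul_assoc]
    -- the conjugate of `j` is `j` or `a - j`
    set y : GL (Fin n) F := G⁻¹ * Matrix.SpecialLinearGroup.toGL x * G with hy
    have hyv : (y : Matrix (Fin n) (Fin n) F) * j = j * y ∨
        (y : Matrix (Fin n) (Fin n) F) * j = (a • 1 - j) * y := by
      have e1 : (y : Matrix (Fin n) (Fin n) F) * j =
          ((G⁻¹ : GL (Fin n) F) : Matrix (Fin n) (Fin n) F) * ((x : Matrix (Fin n) (Fin n) F) * J) * G := by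
        simp [hy, mul_assoc, hGj]
      rcases hx with hx | hx
      · left; rw [e1, hx, ← mul_assoc, ← hjG]; simp [hy, mul_assoc]
      · right
        rw [e1, hx, ← mul_assoc, mul_sub, ← hjG]
        simp [hy, mul_assoc, sub_mul]
    -- hence `y` and its inverse normalise `K`
    have norm_of : ∀ z : GL (Fin n) F, ((z : Matrix (Fin n) (Fin n) F) * j = j * z ∨
        (z : Matrix (Fin n) (Fin n) F) * j = (a • 1 - j) * z) →
        ∀ k ∈ K, (z : Matrix (Fin n) (Fin n) F) * k * ((z⁻¹ : GL (Fin n) F) : Matrix (Fin n) (Fin n) F) ∈ K := by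
      intro z hz k hk
      obtain ⟨α, β, rfl⟩ := hsp k hk
      have hzj : (z : Matrix (Fin n) (Fin n) F) * j * ((z⁻¹ : GL (Fin n) F) : Matrix (Fin n) (Fin n) F) ∈ K := by
        rcases hz with hz | hz <;> rw [hz, mul_assoc, Units.mul_inv, mul_one]
        · exact hjK
        · exact K.sub_mem (K.smul_mem K.one_mem a) hjK
      rw [mul_add, add_mul, Matrix.mul_smul, Matrix.mul_smul, Matrix.smul_mul, Matrix.smul_mul, mul_one,
        Units.mul_inv]
      exact K.add_mem (K.smul_mem K.one_mem α) (K.smul_mem hzj β)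
    intro k
    refine ⟨norm_of y hyv k, fun hk => ?_⟩
    have hyv' : ((y⁻¹ : GL (Fin n) F) : Matrix (Fin n) (Fin n) F) * j = j * ((y⁻¹ : GL (Fin n) F) : Matrix (Fin n) (Fin n) F) ∨
        ((y⁻¹ : GL (Fin n) F) : Matrix (Fin n) (Fin n) F) * j = (a • 1 - j) * ((y⁻¹ : GL (Fin n) F) : Matrix (Fin n) (Fin n) F) := by
      have hcancel : ∀ u v : Matrix (Fin n) (Fin n) F, (y : Matrix (Fin n) (Fin n) F) * u = v * y →
          ((y⁻¹ : GL (Fin n) F) : Matrix (Fin n) (Fin n) F) * v =
            u * ((y⁻¹ : GL (Fin n) F) : Matrix (Fin n) (Fin n) F) := by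
        intro u v h
        calc ((y⁻¹ : GL (Fin n) F) : Matrix (Fin n) (Fin n) F) * v
            = ((y⁻¹ : GL (Fin n) F) : Matrix (Fin n) (Fin n) F) * (v * (y : Matrix (Fin n) (Fin n) F)) *
              ((y⁻¹ : GL (Fin n) F) : Matrix (Fin n) (Fin n) F) := by simp [mul_assoc]
          _ = _ := by rw [← h]; simp
      rcases hyv with h | h
      · exact Or.inl (hcancel _ _ h)
      · right
        have h3 := hcancel _ _ h
        rw [mul_sub, Matrix.mul_smul, mul_one] at h3
        rw [sub_mul, Matrix.smul_mul, one_mul, ← h3]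
        abel
    have h4 := norm_of y⁻¹ hyv' _ hk
    rw [inv_inv] at h4
    simpa [mul_assoc] using h4

end Cfsg.Agent.Linear
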