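import Cfsg.Agent.Lib.Linear.BlockPairs
import Cfsg.Agent.Lib.GLOrder.Torus

/-!
# A Sylow 2-subgroup of `SL_2(q)`, `q` odd, and its normalizer

* `iS`, `jS`, `gS` : a quaternion pair and an element of order three or six permuting it
* `exists_conj_of_sq` : elements with square `-1` are conjugate
* `exists_two_sylow` : a Sylow 2-subgroup containing `iS`, `jS`, generated by elements with square
  `-1`, and self-normalizing up to powers of `gS`
-/

set_option autoImplicit false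
set_option linter.unusedSectionVars false

open Matrix
open scoped MatrixGroups

namespace Cfsg.Agent.Linear.SLTwo

variable {F : Type*} [Field F]

theorem mul_apply' (x y : SL(2, F)) (r c : Fin 2) :
    ((x * y : SL(2, F)) : Matrix (Fin 2) (Fin 2) F) r c = x r 0 * y 0 c + x r 1 * y 1 c :=
  GLOrder.SL2_mul_apply x y r c

/-- The first quaternion generator. -/
def iS : SL(2, F) := ⟨!![0, 1; -1, 0], by simp [Matrix.det_fin_two]⟩

/-- The second quaternion generator. -/
def jS (α β : F) (hab : α ^ 2 + β ^ 2 = -1) : SL(2, F) :=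
  ⟨!![α, β; β, -α], by rw [Matrix.det_fin_two_of]; linear_combination -hab⟩

/-- `(1 + i + j + k) / 2`. -/
def gS (α β : F) (hab : α ^ 2 + β ^ 2 = -1) (h2 : (2 : F) ≠ 0) : SL(2, F) :=
  ⟨!![(1 + α + β) / 2, (1 + β - α) / 2; (-1 + β - α) / 2, (1 - α - β) / 2], by
    rw [Matrix.det_fin_two_of]; field_simp; linear_combination -2 * hab⟩

variable {α β : F} {hab : α ^ 2 + β ^ 2 = -1} {h2 : (2 : F) ≠ 0}

theorem iS_sq : (iS : SL(2, F)) * iS = -1 := by
  ext r c; fin_cases r <;> fin_cases c <;>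
    simp only [Matrix.SpecialLinearGroup.coe_neg, Matrix.SpecialLinearGroup.coe_one, Matrix.neg_apply, mul_apply'] <;>
    simp [iS]

theorem jS_sq : jS α β hab * jS α β hab = -1 := by
  ext r c; fin_cases r <;> fin_cases c <;>
    simp only [Matrix.SpecialLinearGroup.coe_neg, Matrix.SpecialLinearGroup.coe_one, Matrix.neg_apply, mul_apply'] <;>
    simp [jS] <;>
    first | ring1 | linear_combination hab

theorem jS_iS : jS α β hab * iS = -(iS * jS α β hab) := by
  ext r c; fin_cases r <;> fin_cases c <;>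
    simp only [Matrix.SpecialLinearGroup.coe_neg, Matrix.SpecialLinearGroup.coe_one, Matrix.neg_apply, mul_apply'] <;>
    simp [iS, jS]

theorem inv_eq_neg {x : SL(2, F)} (hx : x * x = -1) : x⁻¹ = -x :=
  inv_eq_of_mul_eq_one_right (by rw [mul_neg, hx, neg_neg])

theorem gS_iS : gS α β hab h2 * iS = jS α β hab * gS α β hab h2 := by
  ext r c; fin_cases r <;> fin_cases c <;>
    simp only [Matrix.SpecialLinearGroup.coe_neg, Matrix.SpecialLinearGroup.coe_one, Matrix.neg_apply, mul_apply'] <;>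
    simp [iS, jS, gS] <;>
    field_simp <;> first | ring1 | linear_combination hab | linear_combination -hab

theorem gS_jS : gS α β hab h2 * jS α β hab = iS * jS α β hab * gS α β hab h2 := by
  ext r c; fin_cases r <;> fin_cases c <;>
    simp only [Matrix.SpecialLinearGroup.coe_neg, Matrix.SpecialLinearGroup.coe_one, Matrix.neg_apply, mul_apply'] <;>
    simp [iS, jS, gS] <;>
    field_simp <;> first | ring1 | linear_combination hab | linear_combination -hab

theorem det_eq (x : SL(2, F)) : x 0 0 * x 1 1 - x 0 1 * x 1 0 = 1 := GLOrder.SL2_det x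

theorem inv_apply (x : SL(2, F)) :
    ((x⁻¹ : SL(2, F)) : Matrix (Fin 2) (Fin 2) F) = !![x 1 1, -x 0 1; -x 1 0, x 0 0] := by
  rw [Matrix.SpecialLinearGroup.coe_inv, Matrix.adjugate_fin_two]

theorem trace_of_sq {x : SL(2, F)} (hx : x * x = -1) : x 1 1 = -x 0 0 := by
  have h := congrArg (fun y : SL(2, F) => y 0 0) (inv_eq_neg hx)
  simp only [inv_apply, Matrix.SpecialLinearGroup.coe_neg, Matrix.neg_apply] at h
  simpa using h

/-- An element of square `-1` is conjugate to `iS`. -/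
theorem exists_conj_iS [Fintype F] (h2 : (2 : F) ≠ 0) {a : SL(2, F)} (ha : a * a = -1) :
    ∃ P : SL(2, F), a = P * iS * P⁻¹ := by
  have ht := trace_of_sq ha
  have hd := det_eq a
  rw [ht] at hd
  obtain ⟨x, y, hq⟩ : ∃ x y : F,
      x * -(a 1 0 * x + a 1 1 * y) + (a 0 0 * x + a 0 1 * y) * y = 1 := by
    by_cases h10 : a 1 0 = 0
    · have h00 : a 0 0 ≠ 0 := fun h => by
        rw [h, h10] at hd; simp at hd
      refine ⟨(1 - a 0 1) / (2 * a 0 0), 1, ?_⟩
      rw [h10, ht]; field_simp; ring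
    · obtain ⟨u, w, huw⟩ := Linear.exists_sq_sub_eq 0 (-a 1 0) (-1 : F) (neg_ne_zero.2 one_ne_zero)
      refine ⟨(u + a 0 0 * w) / a 1 0, w, ?_⟩
      rw [ht]; field_simp
      linear_combination -huw - w ^ 2 * hd
  let P : SL(2, F) := ⟨!![x, -(a 0 0 * x + a 0 1 * y); y, -(a 1 0 * x + a 1 1 * y)], by
    rw [Matrix.det_fin_two_of]; linear_combination hq⟩
  refine ⟨P, eq_mul_inv_of_mul_eq ?_⟩
  ext r c
  fin_cases r <;> fin_cases c <;>
    simp only [mul_apply'] <;>
    simp [P, iS, ht] <;>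
    (first | ring1 | linear_combination -x * hd | linear_combination -y * hd
           | linear_combination x * hd | linear_combination y * hd)

/-- Elements of square `-1` are conjugate. -/
theorem exists_conj_of_sq [Fintype F] (h2 : (2 : F) ≠ 0) {a b : SL(2, F)} (ha : a * a = -1)
    (hb : b * b = -1) : ∃ h : SL(2, F), h * a * h⁻¹ = b := by
  obtain ⟨P, rfl⟩ := exists_conj_iS h2 ha
  obtain ⟨R, rfl⟩ := exists_conj_iS h2 hb
  exact ⟨R * P⁻¹, by group⟩

/-- An element commuting with `iS` and `jS` is `±1`. -/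
theorem eq_one_or_of_commute (h2 : (2 : F) ≠ 0) {a : SL(2, F)} (hi : Commute a iS)
    (hj : Commute a (jS α β hab)) : a = 1 ∨ a = -1 := by
  have i00 := congrArg (fun y : SL(2, F) => y 0 0) hi.eq
  have i01 := congrArg (fun y : SL(2, F) => y 0 1) hi.eq
  have j00 := congrArg (fun y : SL(2, F) => y 0 0) hj.eq
  have j01 := congrArg (fun y : SL(2, F) => y 0 1) hj.eq
  simp only [mul_apply'] at i00 i01 j00 j01
  simp [iS, jS] at i00 i01 j00 j01
  have hv : (2 : F) * a 0 1 = 0 := by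
    linear_combination (-β) * j00 + β ^ 2 * i00 + α * j01 - α * β * i01 + 2 * a 0 1 * hab
  have h01 : a 0 1 = 0 := (mul_eq_zero.1 hv).resolve_left h2
  have h10 : a 1 0 = 0 := by linear_combination (-1 : F) * i00 - h01
  have hd := det_eq a
  rw [h01, h10] at hd
  have h11 : a 1 1 = a 0 0 := by linear_combination (-1 : F) * i01
  rw [h11] at hd
  rcases mul_self_eq_one_iff.1 (by linear_combination hd : a 0 0 * a 0 0 = 1) with h | h
  · left; ext r c; fin_cases r <;> fin_cases c <;> simp [h, h01, h10, h11]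
  · right; ext r c; fin_cases r <;> fin_cases c <;> simp [h, h01, h10, h11]

/-- What commutes with a non-scalar element is a linear combination of it and `1`. -/
theorem exists_coeff {t x : SL(2, F)} (ht : t 0 1 ≠ 0 ∨ t 1 0 ≠ 0 ∨ t 0 0 ≠ t 1 1)
    (h : Commute x t) :
    ∃ u v : F, x 0 0 = u + v * t 0 0 ∧ x 0 1 = v * t 0 1 ∧ x 1 0 = v * t 1 0 ∧
      x 1 1 = u + v * t 1 1 := by
  have e00 := congrArg (fun y : SL(2, F) => y 0 0) h.eq
  have e01 := congrArg (fun y : SL(2, F) => y 0 1) h.eq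
  have e10 := congrArg (fun y : SL(2, F) => y 1 0) h.eq
  simp [mul_apply'] at e00 e01 e10
  rcases ht with h1 | h1 | h1
  · refine ⟨x 0 0 - x 0 1 / t 0 1 * t 0 0, x 0 1 / t 0 1, by ring, by field_simp, ?_, ?_⟩
    · field_simp; linear_combination -e00
    · field_simp; linear_combination -e01
  · refine ⟨x 0 0 - x 1 0 / t 1 0 * t 0 0, x 1 0 / t 1 0, by ring, ?_, by field_simp, ?_⟩
    · field_simp; linear_combination e00
    · field_simp; linear_combination e10
  · have h1' := sub_ne_zero.2 h1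
    refine ⟨x 0 0 - (x 0 0 - x 1 1) / (t 0 0 - t 1 1) * t 0 0,
      (x 0 0 - x 1 1) / (t 0 0 - t 1 1), by ring, ?_, ?_, ?_⟩
    · field_simp; linear_combination -e01
    · field_simp; linear_combination e10
    · field_simp; ring

theorem eq_scalar_or (t : SL(2, F)) :
    (t 0 1 ≠ 0 ∨ t 1 0 ≠ 0 ∨ t 0 0 ≠ t 1 1) ∨ (t = 1 ∨ t = -1) := by
  by_cases h : t 0 1 ≠ 0 ∨ t 1 0 ≠ 0 ∨ t 0 0 ≠ t 1 1
  · exact .inl h
  · right
    simp only [not_or, not_not, ne_eq] at h
    obtain ⟨h01, h10, h11⟩ := h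
    have hd := det_eq t
    rw [h01, h10, ← h11] at hd
    rcases mul_self_eq_one_iff.1 (by linear_combination hd : t 0 0 * t 0 0 = 1) with e | e
    · left; ext r c; fin_cases r <;> fin_cases c <;> simp [← h11, e, h01, h10]
    · right; ext r c; fin_cases r <;> fin_cases c <;> simp [← h11, e, h01, h10]

/-- An inverting element inverts the centralizer. -/
theorem conj_eq_inv {t w x : SL(2, F)} (ht : t ≠ 1 ∧ t ≠ -1) (hw : w * t * w⁻¹ = t⁻¹)
    (hx : Commute x t) : w * x * w⁻¹ = x⁻¹ := by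
  obtain ⟨u, v, h00, h01, h10, h11⟩ :=
    exists_coeff ((eq_scalar_or t).resolve_right (by tauto)) hx
  rw [mul_inv_eq_iff_eq_mul]
  rw [mul_inv_eq_iff_eq_mul] at hw
  have hm : (w : Matrix (Fin 2) (Fin 2) F) * (t : Matrix (Fin 2) (Fin 2) F) =
      ((t⁻¹ : SL(2, F)) : Matrix (Fin 2) (Fin 2) F) * (w : Matrix (Fin 2) (Fin 2) F) :=
    congrArg Subtype.val hw
  have hx' : (x : Matrix (Fin 2) (Fin 2) F) = u • 1 + v • (t : Matrix (Fin 2) (Fin 2) F) := by
    ext r c; fin_cases r <;> fin_cases c <;> simp [h00, h01, h10, h11]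
  have hi' : ((x⁻¹ : SL(2, F)) : Matrix (Fin 2) (Fin 2) F) =
      u • 1 + v • ((t⁻¹ : SL(2, F)) : Matrix (Fin 2) (Fin 2) F) := by
    rw [inv_apply, inv_apply]
    ext r c; fin_cases r <;> fin_cases c <;> simp [h00, h01, h10, h11]
  apply Subtype.ext
  show (w : Matrix (Fin 2) (Fin 2) F) * (x : Matrix (Fin 2) (Fin 2) F) = _ * _
  rw [hx', hi', Matrix.mul_add, Matrix.add_mul, Matrix.mul_smul, Matrix.mul_smul, hm,
    Matrix.smul_mul, Matrix.smul_mul, Matrix.one_mul, Matrix.mul_one]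

/-- Elements with the same trace in a cyclic 2-group are equal or inverse. -/
theorem eq_or_eq_inv_of_trace {t y : SL(2, F)} (ht : t ≠ 1 ∧ t ≠ -1) (hc : Commute y t)
    (htr : y 0 0 + y 1 1 = t 0 0 + t 1 1) (hne : (t 0 0 + t 1 1) ^ 2 ≠ 4) (h2 : (2 : F) ≠ 0) :
    y = t ∨ y = t⁻¹ := by
  obtain ⟨u, v, h00, h01, h10, h11⟩ :=
    exists_coeff ((eq_scalar_or t).resolve_right (by tauto)) hc
  have hd := det_eq y
  have hdt := det_eq t
  rw [h00, h01, h10, h11] at hd
  have hu : 2 * u = (t 0 0 + t 1 1) * (1 - v) := by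
    rw [h00, h11] at htr; linear_combination htr
  have key : (1 - v ^ 2) * ((t 0 0 + t 1 1) ^ 2 - 4) = 0 := by
    linear_combination 4 * hd - 4 * v ^ 2 * hdt
      - (2 * u + (t 0 0 + t 1 1) * (1 + v)) * hu
  have hv : v * v = 1 := by
    have := (mul_eq_zero.1 key).resolve_right (sub_ne_zero.2 hne)
    linear_combination -this
  rcases mul_self_eq_one_iff.1 hv with rfl | rfl
  · left
    have hu0 : u = 0 := by
      have : 2 * u = 0 := by linear_combination hu
      exact (mul_eq_zero.1 this).resolve_left h2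
    ext r c; fin_cases r <;> fin_cases c <;> simp [h00, h01, h10, h11, hu0]
  · right
    have hu' : u = t 0 0 + t 1 1 := by
      refine mul_left_cancel₀ h2 ?_
      linear_combination hu
    ext r c; fin_cases r <;> fin_cases c <;> simp [h00, h01, h10, h11, hu', Matrix.adjugate_fin_two]

/-- The trace of the iterated squares of an element of trace `±2`. -/
theorem trace_sq_pow {t : SL(2, F)} (h : (t 0 0 + t 1 1) ^ 2 = 4) (j : ℕ) :
    ((t ^ 2 ^ j : SL(2, F)) 0 0 + (t ^ 2 ^ j : SL(2, F)) 1 1) ^ 2 = 4 := by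
  induction j with
  | zero => simpa using h
  | succ j ih =>
    rw [show 2 ^ (j + 1) = 2 ^ j + 2 ^ j by ring, pow_add, mul_apply', mul_apply']
    have hd := det_eq (t ^ 2 ^ j)
    generalize t ^ 2 ^ j = x at *
    linear_combination ((x 0 0 + x 1 1) ^ 2) * ih
      - (4 * (x 0 0 + x 1 1) ^ 2 - 4 * (x 0 0 * x 1 1 - x 0 1 * x 1 0) - 4) * hd

theorem trace_conj (h t : SL(2, F)) :
    (h * t * h⁻¹ : SL(2, F)) 0 0 + (h * t * h⁻¹ : SL(2, F)) 1 1 = t 0 0 + t 1 1 := by
  simp only [mul_apply', inv_apply]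
  simp
  linear_combination (t 0 0 + t 1 1) * det_eq h

theorem inv_sq {x : SL(2, F)} (hx : x * x = -1) : x⁻¹ * x⁻¹ = -1 := by
  rw [inv_eq_neg hx, neg_mul_neg, hx]

theorem neg_one_ne_one (h2 : (2 : F) ≠ 0) : (-1 : SL(2, F)) ≠ 1 := fun h => by
  have := congrArg (fun x : SL(2, F) => x 0 0) h
  simp at this
  exact h2 (by linear_combination -this)

theorem ne_scalar_of_sq (h2 : (2 : F) ≠ 0) {x : SL(2, F)} (hx : x * x = -1) :
    x ≠ 1 ∧ x ≠ -1 := by
  constructor <;> rintro rfl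
  · rw [one_mul] at hx; exact neg_one_ne_one h2 hx.symm
  · rw [neg_mul_neg, one_mul] at hx; exact neg_one_ne_one h2 hx.symm

/-- An element of `N(Q)` fixing or inverting an inverted non-scalar element of `Q` lies in `Q`. -/
theorem mem_of_normalizer [Fintype F] [Fact (Nat.Prime 2)] (Q : Sylow 2 SL(2, F))
    {t w h : SL(2, F)} (hts : t ≠ 1 ∧ t ≠ -1) (hw : w ∈ Q)
    (hwt : w * t * w⁻¹ = t⁻¹) (hh : h ∈ Subgroup.normalizer ((Q : Subgroup SL(2, F)) : Set SL(2, F)))
    (hht : h * t * h⁻¹ = t ∨ h * t * h⁻¹ = t⁻¹) : h ∈ Q := by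
  have hc : Commute (h * h) t := by
    refine mul_inv_eq_iff_eq_mul.1 ?_
    rw [show h * h * t * (h * h)⁻¹ = h * (h * t * h⁻¹) * h⁻¹ by group]
    rcases hht with e | e
    · rw [e, e]
    · rw [e, show h * t⁻¹ * h⁻¹ = (h * t * h⁻¹)⁻¹ by group, e, inv_inv]
  have hinv : w * (h * h) * w⁻¹ = (h * h)⁻¹ := conj_eq_inv hts hwt hc
  have h4 : h * h * (h * h) ∈ (Q : Subgroup SL(2, F)) := by
    have e : h * h * (h * h) = h * h * w * (h * h)⁻¹ * w⁻¹ := by
      calc h * h * (h * h) = h * h * (h * h)⁻¹⁻¹ := by rw [inv_inv]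
        _ = h * h * (w * (h * h) * w⁻¹)⁻¹ := by rw [hinv]
        _ = _ := by group
    rw [e]
    exact mul_mem ((Subgroup.mem_normalizer_iff.1 (mul_mem hh hh) w).1 hw) (inv_mem hw)
  obtain ⟨r, hr⟩ := IsPGroup.iff_card.1 Q.isPGroup'
  have hpow : h ^ 2 ^ (2 + r) = 1 := by
    rw [pow_add, pow_mul, show h ^ 2 ^ 2 = h * h * (h * h) by simp [pow_succ, mul_assoc], ← hr]
    exact congrArg Subtype.val
      (pow_card_eq_one' (x := (⟨_, h4⟩ : (Q : Subgroup SL(2, F)))))
  obtain ⟨k, -, hk⟩ := (Nat.dvd_prime_pow Nat.prime_two).1 (orderOf_dvd_of_pow_eq_one hpow)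
  have hp : IsPGroup 2 (Subgroup.zpowers h) := IsPGroup.of_card (by rw [Nat.card_zpowers, hk])
  exact ((IsPGroup.inf_normalizer_sylow hp Q).le ⟨Subgroup.mem_zpowers h, hh⟩).2

/-- A Sylow 2-subgroup containing the quaternion pair. -/
theorem exists_two_sylow [Fintype F] [Fact (Nat.Prime 2)] (hodd : Odd (Nat.card F))
    (α β : F) (hab : α ^ 2 + β ^ 2 = -1) (h2 : (2 : F) ≠ 0) :
    ∃ Q : Sylow 2 SL(2, F), iS ∈ Q ∧ jS α β hab ∈ Q ∧
      (Q : Subgroup SL(2, F)) ≤ Subgroup.closure {x | x ∈ Q ∧ x * x = -1} ∧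
      ∀ h ∈ Subgroup.normalizer ((Q : Subgroup SL(2, F)) : Set SL(2, F)), ∃ n : ℕ,
        gS α β hab h2 ^ n * h ∈ Q ∧
        (n = 0 ∨ gS α β hab h2 ∈ Subgroup.normalizer ((Q : Subgroup SL(2, F)) : Set SL(2, F))) := by
  set i : SL(2, F) := iS with hi
  set j : SL(2, F) := jS α β hab with hj
  set g : SL(2, F) := gS α β hab h2 with hg
  have hi2 : i * i = -1 := iS_sq
  have hj2 : j * j = -1 := jS_sq
  have hji : j * i * j⁻¹ = i⁻¹ := by
    rw [hj, hi, jS_iS, inv_eq_neg jS_sq, inv_eq_neg iS_sq, neg_mul_neg, mul_assoc, jS_sq, mul_neg,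
      mul_one]
  have hp4 : ∀ x : SL(2, F), x * x = -1 → IsPGroup 2 (Subgroup.zpowers x) := by
    intro x hx
    have h4 : x ^ 2 ^ 2 = 1 := by
      rw [show (2 : ℕ) ^ 2 = 2 * 2 from rfl, pow_mul, sq x, hx, sq, neg_mul_neg, one_mul]
    obtain ⟨k, -, hk⟩ := (Nat.dvd_prime_pow Nat.prime_two).1 (orderOf_dvd_of_pow_eq_one h4)
    exact IsPGroup.of_card (by rw [Nat.card_zpowers, hk])
  have hnorm : Subgroup.zpowers j ≤
      Subgroup.normalizer ((Subgroup.zpowers i : Subgroup SL(2, F)) : Set SL(2, F)) := by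
    rw [Subgroup.zpowers_le, ← Subgroup.coe_toSubmonoid]
    refine Subgroup.mem_normalizer_iff_map_conj_eq.2 ?_
    rw [MonoidHom.map_zpowers]
    show Subgroup.zpowers (j * i * j⁻¹) = _
    rw [hji, Subgroup.zpowers_inv]
  obtain ⟨Q, hQ⟩ := (IsPGroup.to_sup_of_normal_left' (hp4 i hi2) (hp4 j hj2) hnorm).exists_le_sylow
  have hiQ : i ∈ Q := hQ (Subgroup.mem_sup_left (Subgroup.mem_zpowers i))
  have hjQ : j ∈ Q := hQ (Subgroup.mem_sup_right (Subgroup.mem_zpowers j))
  obtain ⟨k, hk, ⟨e⟩⟩ := GLOrder.sylow_two_SL_two hodd Q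
  haveI : NeZero (2 ^ k) := ⟨by positivity⟩
  have hcoe : ∀ x y, ((e.symm (x * y) : (Q : Subgroup SL(2, F))) : SL(2, F)) =
      e.symm x * e.symm y := fun x y => by rw [map_mul, Subgroup.coe_mul]
  have hxa : ∀ m, ((e.symm (.xa m) : (Q : Subgroup SL(2, F))) : SL(2, F)) *
      e.symm (.xa m) = -1 := by
    intro m
    have hn : QuaternionGroup.a ((2 ^ k : ℕ) : ZMod (2 * 2 ^ k)) ≠ 1 := by
      rw [QuaternionGroup.one_def, ne_eq, QuaternionGroup.a.injEq, ZMod.natCast_eq_zero_iff]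
      exact fun h => absurd (Nat.le_of_dvd (by positivity) h) (by have := Nat.two_pow_pos k; omega)
    have h4 : QuaternionGroup.xa m * QuaternionGroup.xa m =
        QuaternionGroup.a ((2 ^ k : ℕ) : ZMod (2 * 2 ^ k)) := by
      rw [QuaternionGroup.xa_mul_xa, add_sub_cancel_right]
    rw [← hcoe, h4]
    refine (GLOrder.SL2_eq_one_or_neg_one_of_sq h2 ?_).resolve_left fun hh => hn ?_
    · rw [← hcoe, show QuaternionGroup.a ((2 ^ k : ℕ) : ZMod (2 * 2 ^ k)) *
          QuaternionGroup.a ((2 ^ k : ℕ) : ZMod (2 * 2 ^ k)) = 1 from ?_, map_one, Subgroup.coe_one]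
      rw [QuaternionGroup.a_mul_a, QuaternionGroup.one_def, ← Nat.cast_add, ← two_mul,
        ZMod.natCast_self]
    · exact e.symm.injective (Subtype.ext (by rw [hh, map_one, Subgroup.coe_one]))
  refine ⟨Q, hiQ, hjQ, fun x hx => ?_, fun h hh => ?_⟩
  · have hmem : ∀ m, ((e.symm (.xa m) : (Q : Subgroup SL(2, F))) : SL(2, F)) ∈
        Subgroup.closure {x | x ∈ Q ∧ x * x = -1} :=
      fun m => Subgroup.subset_closure ⟨(e.symm (.xa m)).2, hxa m⟩
    obtain ⟨z, hz⟩ : ∃ z, e.symm z = ⟨x, hx⟩ := ⟨_, e.symm_apply_apply _⟩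
    have hxz : x = ((e.symm z : (Q : Subgroup SL(2, F))) : SL(2, F)) := by rw [hz]
    rw [hxz]
    rcases z with m | m
    · have : QuaternionGroup.a m = (QuaternionGroup.xa 0)⁻¹ * QuaternionGroup.xa m := by
        rw [eq_inv_mul_iff_mul_eq, QuaternionGroup.xa_mul_a, zero_add]
      rw [this, hcoe, map_inv, Subgroup.coe_inv]
      exact mul_mem (inv_mem (hmem 0)) (hmem m)
    · exact hmem m
  by_cases hk2 : 2 ≤ k
  · refine ⟨0, ?_, .inl rfl⟩
    rw [pow_zero, one_mul]
    set T : SL(2, F) := ((e.symm (.a 1) : (Q : Subgroup SL(2, F))) : SL(2, F)) with hT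
    have hord : orderOf T = 2 ^ (k + 1) := by
      rw [hT, Subgroup.orderOf_coe, MulEquiv.orderOf_eq, QuaternionGroup.orderOf_a_one, pow_succ']
    have hTs : T ≠ 1 ∧ T ≠ -1 := by
      have h8 : 8 ≤ orderOf T := hord ▸ (Nat.pow_le_pow_right (by norm_num) (by omega) :
        2 ^ 3 ≤ 2 ^ (k + 1))
      constructor <;> intro e1
      · rw [e1, orderOf_one] at h8; omega
      · have : orderOf T ≤ 2 := orderOf_le_of_pow_eq_one two_pos
          (by rw [e1, sq, neg_mul_neg, one_mul])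
        omega
    set w : SL(2, F) := ((e.symm (.xa 0) : (Q : Subgroup SL(2, F))) : SL(2, F)) with hw
    have hwT : w * T * w⁻¹ = T⁻¹ := by
      rw [mul_inv_eq_iff_eq_mul, hw, hT, ← hcoe, ← Subgroup.coe_inv, ← map_inv, ← hcoe]
      congr 2
      show QuaternionGroup.xa 0 * QuaternionGroup.a 1 =
        QuaternionGroup.a (-1) * QuaternionGroup.xa 0
      rw [QuaternionGroup.xa_mul_a, QuaternionGroup.a_mul_xa, zero_add, zero_sub, neg_neg]
    refine mem_of_normalizer Q hTs (e.symm (.xa 0)).2 hwT hh ?_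
    have hy : h * T * h⁻¹ ∈ (Q : Subgroup SL(2, F)) :=
      (Subgroup.mem_normalizer_iff.1 hh T).1 (e.symm (.a 1)).2
    obtain ⟨z, hz⟩ : ∃ z, e.symm z = ⟨_, hy⟩ := ⟨_, e.symm_apply_apply _⟩
    have hyz : h * T * h⁻¹ = ((e.symm z : (Q : Subgroup SL(2, F))) : SL(2, F)) := by rw [hz]
    rcases z with m | m
    · refine eq_or_eq_inv_of_trace hTs ?_ (trace_conj h T) (fun h4 => ?_) h2
      · rw [hyz, hT]
        show _ * _ = _ * _
        rw [← hcoe, ← hcoe, QuaternionGroup.a_mul_a, QuaternionGroup.a_mul_a, add_comm]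
      · have h5 := trace_sq_pow h4 (k - 1)
        have hu : T ^ 2 ^ (k - 1) * T ^ 2 ^ (k - 1) = -1 := by
          rw [← pow_add, ← two_mul, ← pow_succ']
          refine (GLOrder.SL2_eq_one_or_neg_one_of_sq h2 ?_).resolve_left fun hh1 => ?_
          · rw [← pow_add, ← two_mul, ← pow_succ']
            rw [show k - 1 + 1 + 1 = k + 1 by omega, ← hord, pow_orderOf_eq_one]
          · have := Nat.le_of_dvd (by positivity) (orderOf_dvd_of_pow_eq_one hh1)
            rw [hord] at this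
            have : 2 ^ (k - 1 + 1) < 2 ^ (k + 1) := Nat.pow_lt_pow_right (by norm_num) (by omega)
            omega
        rw [trace_of_sq hu, add_neg_cancel] at h5
        exact h2 (pow_eq_zero_iff (two_ne_zero) |>.1 (by linear_combination -h5 : (2 : F) ^ 2 = 0))
    · exfalso
      have h4 : (h * T * h⁻¹) ^ 4 = 1 := by
        have h4' : ∀ x : SL(2, F), x ^ 4 = x * x * (x * x) := fun x => by
          simp [pow_succ, mul_assoc]
        rw [hyz, h4', hxa, neg_mul_neg, one_mul]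
      rw [conj_pow, mul_inv_eq_one, mul_eq_left] at h4
      have := Nat.le_of_dvd (by norm_num) (orderOf_dvd_of_pow_eq_one h4)
      rw [hord] at this
      have := Nat.pow_le_pow_right (show 0 < 2 by norm_num) (show 3 ≤ k + 1 by omega)
      omega
  -- the quaternion group of order eight
  obtain rfl : k = 1 := by omega
  have hle : Subgroup.zpowers i ≤ (Q : Subgroup SL(2, F)) := Subgroup.zpowers_le.2 hiQ
  have hi4 : orderOf i = 4 := by
    refine orderOf_eq_prime_pow (p := 2) (n := 1) (hnot := ?_) (hfin := ?_)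
    · rw [pow_one, sq, hi2]; exact neg_one_ne_one h2
    · rw [show (2 : ℕ) ^ (1 + 1) = 2 * 2 from rfl, pow_mul, sq i, hi2, sq, neg_mul_neg, one_mul]
  have hidx : ((Subgroup.zpowers i).subgroupOf (Q : Subgroup SL(2, F))).index = 2 := by
    have h1 := ((Subgroup.zpowers i).subgroupOf (Q : Subgroup SL(2, F))).card_mul_index
    rw [Nat.card_congr (Subgroup.subgroupOfEquivOfLe hle).toEquiv, Nat.card_zpowers, hi4,
      Nat.card_congr e.toEquiv, Nat.card_eq_fintype_card, QuaternionGroup.card] at h1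
    omega
  have hjn : j ∉ Subgroup.zpowers i := by
    intro hjm
    obtain ⟨m, hm⟩ := hjm
    have hc : Commute j i := hm ▸ Commute.zpow_self i m
    rw [hc.eq, mul_inv_cancel_right] at hji
    exact (ne_scalar_of_sq h2 hi2).1 (by
      have : i * i = 1 := mul_eq_one_iff_eq_inv.2 hji
      exact absurd (hi2.symm.trans this) (neg_one_ne_one h2))
  have hzi : ∀ y ∈ Subgroup.zpowers i, y = 1 ∨ y = i ∨ y = -1 ∨ y = -i := by
    rintro y ⟨m, rfl⟩
    show i ^ m = 1 ∨ i ^ m = i ∨ i ^ m = -1 ∨ i ^ m = -i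
    rw [zpow_eq_zpow_emod' m (n := 4) (by rw [← hi4, pow_orderOf_eq_one])]
    have h1 := Int.emod_nonneg m (show ((4 : ℕ) : ℤ) ≠ 0 by norm_num)
    have h3 := Int.emod_lt_of_pos m (show (0 : ℤ) < ((4 : ℕ) : ℤ) by norm_num)
    obtain ⟨r, hr⟩ := Int.eq_ofNat_of_zero_le h1
    rw [hr] at h3 ⊢
    rw [zpow_natCast]
    have : r < 4 := by exact_mod_cast h3
    interval_cases r
    · exact .inl (pow_zero i)
    · exact .inr (.inl (pow_one i))
    · exact .inr (.inr (.inl (by rw [sq, hi2])))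
    · exact .inr (.inr (.inr (by rw [pow_succ, sq, hi2, neg_mul, one_mul])))
  have hQ8 : ∀ y ∈ (Q : Subgroup SL(2, F)), y * y = -1 →
      y = i ∨ y = -i ∨ y = j ∨ y = -j ∨ y = i * j ∨ y = -(i * j) := by
    intro y hy hy2
    by_cases hym : y ∈ Subgroup.zpowers i
    · rcases hzi y hym with rfl | rfl | rfl | rfl
      · exact absurd rfl (ne_scalar_of_sq h2 hy2).1
      · exact .inl rfl
      · exact absurd rfl (ne_scalar_of_sq h2 hy2).2
      · exact .inr (.inl rfl)
    · have hm := (Subgroup.mul_mem_iff_of_index_two hidx (a := ⟨j⁻¹, inv_mem hjQ⟩)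
        (b := ⟨y, hy⟩)).2 (by
          simp only [Subgroup.mem_subgroupOf, inv_mem_iff]
          exact iff_of_false hjn hym)
      rw [Subgroup.mem_subgroupOf] at hm
      have hjy : y = j * (j⁻¹ * y) := by group
      rcases hzi _ hm with e1 | e1 | e1 | e1 <;>
        (simp only [Subgroup.coe_mul] at e1; rw [hjy, e1])
      · exact .inr (.inr (.inl (mul_one j)))
      · exact .inr (.inr (.inr (.inr (.inr (by rw [hj, hi, jS_iS])))))
      · exact .inr (.inr (.inr (.inl (by rw [mul_neg, mul_one]))))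
      · exact .inr (.inr (.inr (.inr (.inl (by rw [hj, hi, mul_neg, jS_iS, neg_neg])))))
  have hgi : g * i * g⁻¹ = j := mul_inv_eq_iff_eq_mul.2 gS_iS
  have hgj : g * j * g⁻¹ = i * j := mul_inv_eq_iff_eq_mul.2 gS_jS
  have hgk : g * (i * j) * g⁻¹ = i := by
    rw [show g * (i * j) * g⁻¹ = (g * i * g⁻¹) * (g * j * g⁻¹) by group, hgi, hgj, ← mul_assoc,
      hj, hi, jS_iS, neg_mul, mul_assoc, jS_sq, mul_neg, mul_one, neg_neg]
  have hQij : (Q : Subgroup SL(2, F)) ≤ Subgroup.closure {i, j} := by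
    intro y hy
    by_cases hym : y ∈ Subgroup.zpowers i
    · exact Subgroup.zpowers_le.2 (Subgroup.subset_closure (Set.mem_insert i {j})) hym
    · have hm := (Subgroup.mul_mem_iff_of_index_two hidx (a := ⟨j⁻¹, inv_mem hjQ⟩)
        (b := ⟨y, hy⟩)).2 (by
          simp only [Subgroup.mem_subgroupOf, inv_mem_iff]
          exact iff_of_false hjn hym)
      rw [Subgroup.mem_subgroupOf, Subgroup.coe_mul] at hm
      rw [show y = j * (j⁻¹ * y) by group]
      exact mul_mem (Subgroup.subset_closure (Set.mem_insert_of_mem i rfl))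
        (Subgroup.zpowers_le.2 (Subgroup.subset_closure (Set.mem_insert i {j})) hm)
  have hgN : g ∈ Subgroup.normalizer ((Q : Subgroup SL(2, F)) : Set SL(2, F)) := by
    refine Subgroup.mem_normalizer_iff_map_conj_eq.2 (Subgroup.eq_of_le_of_card_ge ?_ ?_)
    · refine (Subgroup.map_mono hQij).trans ?_
      rw [MonoidHom.map_closure, Subgroup.closure_le]
      rintro _ ⟨y, rfl | rfl, rfl⟩
      · show g * i * g⁻¹ ∈ Q
        rw [hgi]; exact hjQ
      · show g * j * g⁻¹ ∈ Q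
        rw [hgj]; exact mul_mem hiQ hjQ
    · rw [Subgroup.card_map_of_injective (MulAut.conj g).injective]
  have hy2 : h * i * h⁻¹ * (h * i * h⁻¹) = -1 := by
    rw [show h * i * h⁻¹ * (h * i * h⁻¹) = h * (i * i) * h⁻¹ by group, hi2, mul_neg, mul_one,
      neg_mul, mul_inv_cancel]
  have fin : ∀ n : ℕ, g ^ n * (h * i * h⁻¹) * (g ^ n)⁻¹ = i ∨
      g ^ n * (h * i * h⁻¹) * (g ^ n)⁻¹ = -i →
      ∃ m : ℕ, g ^ m * h ∈ Q ∧ (m = 0 ∨ g ∈ Subgroup.normalizer
        ((Q : Subgroup SL(2, F)) : Set SL(2, F))) := by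
    intro n hn
    refine ⟨n, mem_of_normalizer Q (ne_scalar_of_sq h2 hi2) hjQ hji
      (mul_mem (pow_mem hgN n) hh) ?_, .inr hgN⟩
    rw [show g ^ n * h * i * (g ^ n * h)⁻¹ = g ^ n * (h * i * h⁻¹) * (g ^ n)⁻¹ by group,
      inv_eq_neg hi2]
    exact hn
  have hneg : ∀ x y : SL(2, F), x * -y * x⁻¹ = -(x * y * x⁻¹) := fun x y => by
    rw [mul_neg, neg_mul]
  have hg2 : g ^ 2 * j * (g ^ 2)⁻¹ = i := by
    rw [sq, show g * g * j * (g * g)⁻¹ = g * (g * j * g⁻¹) * g⁻¹ by group, hgj, hgk]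
  rcases hQ8 _ ((Subgroup.mem_normalizer_iff.1 hh i).1 hiQ) hy2 with e1 | e1 | e1 | e1 | e1 | e1
  · exact fin 0 (.inl (by rw [e1]; group))
  · exact fin 0 (.inr (by rw [e1]; group))
  · exact fin 2 (.inl (by rw [e1, hg2]))
  · exact fin 2 (.inr (by rw [e1, hneg, hg2]))
  · exact fin 1 (.inl (by rw [e1, pow_one, hgk]))
  · exact fin 1 (.inr (by rw [e1, pow_one, hneg, hgk]))

end Cfsg.Agent.Linear.SLTwo
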