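import Cfsg.Agent.Lib.Linear.SLTwoSylow
import Cfsg.Agent.Lib.SympSylowTwo.Monomial

/-!
# The Sylow 2-subgroup `Q ≀ 2` of `Sp_4(q)`, `q` odd, and its fusion

* `spW Q` : the subgroup `(Q × Q) : 2`, `card_spW`
* `spE` : the subgroup `2^{1+4}`, self-centralizing up to sign (`mem_spE_of_sign`); the products of
  two transposition-like elements `xOne`, `xTwo` normalize it and multiply to `pair g g`
* `spW_le_of_closed` : no proper fusion-closed subgroup above `±1`
* `mem_of_normalizes_spW` : the normalizer of `spW Q`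
-/

set_option autoImplicit false
set_option linter.unusedSectionVars false

open Matrix
open scoped MatrixGroups

namespace Cfsg.Agent.Linear.SpFour

open Cfsg.Agent.Linear.SLTwo Cfsg.Agent.SympSylowTwo

variable {F : Type*} [Field F]

set_option quotPrecheck false in
local notation "G₀" => Subtype (fun x => x ∈ Matrix.symplecticGroup (Fin 2) F)

/-- Block diagonal elements. -/
def pair (a b : SL(2, F)) : G₀ := diagHom 2 F ![a, b]

/-- The permutation of the two planes. -/
def sw : G₀ := permHom 2 F (Equiv.swap 0 1)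

theorem pair_mul (a b c d : SL(2, F)) : pair a b * pair c d = pair (a * c) (b * d) := by
  rw [pair, pair, pair, ← map_mul]
  congr 1
  funext i; fin_cases i <;> rfl

theorem pair_one : pair (1 : SL(2, F)) 1 = 1 := by
  rw [pair, ← map_one (diagHom 2 F)]
  congr 1
  funext i; fin_cases i <;> rfl

theorem pair_inv (a b : SL(2, F)) : (pair a b)⁻¹ = pair a⁻¹ b⁻¹ :=
  inv_eq_of_mul_eq_one_right (by rw [pair_mul, mul_inv_cancel, mul_inv_cancel, pair_one])

theorem pair_eq_mono (a b : SL(2, F)) : pair a b = monoHom 2 F (SemidirectProduct.inl ![a, b]) := by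
  rw [monoHom, SemidirectProduct.lift_inl]; rfl

theorem sw_eq_mono : (sw : G₀) = monoHom 2 F (SemidirectProduct.inr (Equiv.swap 0 1)) := by
  rw [monoHom, SemidirectProduct.lift_inr]; rfl

theorem pair_inj {a b c d : SL(2, F)} (h : pair a b = pair c d) : a = c ∧ b = d := by
  rw [pair_eq_mono, pair_eq_mono] at h
  have := SemidirectProduct.inl_injective (monoHom_injective h)
  exact ⟨congrFun this 0, congrFun this 1⟩

theorem pair_ne_sw (a b c d : SL(2, F)) : pair a b ≠ pair c d * sw := by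
  intro h
  rw [pair_eq_mono, pair_eq_mono, sw_eq_mono, ← map_mul] at h
  have h' := congrArg SemidirectProduct.right (monoHom_injective h)
  simp at h'
  exact absurd h' (by decide)

theorem sw_mul_self : (sw : G₀) * sw = 1 := by
  rw [sw, ← map_mul, Equiv.swap_mul_self, map_one]

theorem sw_inv : (sw : G₀)⁻¹ = sw := inv_eq_of_mul_eq_one_right sw_mul_self

theorem sw_pair (a b : SL(2, F)) : sw * pair a b = pair b a * sw := by
  rw [pair_eq_mono, pair_eq_mono, sw_eq_mono, ← map_mul, ← map_mul]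
  congr 1
  refine SemidirectProduct.ext (funext fun i => ?_) (by simp)
  rw [SemidirectProduct.mul_left, SemidirectProduct.mul_left]
  simp only [SemidirectProduct.left_inl, SemidirectProduct.left_inr, SemidirectProduct.right_inl,
    SemidirectProduct.right_inr, map_one, one_mul, mul_one]
  show ![a, b] ((Equiv.swap (0 : Fin 2) 1)⁻¹ i) = ![b, a] i
  fin_cases i <;> simp

/-- `-1`. -/
def negOne : G₀ := pair (-1) (-1)

theorem pair_val (a b : SL(2, F)) :
    ((pair a b : G₀) : Matrix (Fin 2 ⊕ Fin 2) (Fin 2 ⊕ Fin 2) F) =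
      fromBlocks (diagonal ![a 0 0, b 0 0]) (diagonal ![a 0 1, b 0 1])
        (diagonal ![a 1 0, b 1 0]) (diagonal ![a 1 1, b 1 1]) := by
  show diagMat ![a, b] = _
  rw [diagMat]
  congr 1 <;> congr 1 <;> funext i <;> fin_cases i <;> rfl

theorem negOne_val :
    ((negOne : G₀) : Matrix (Fin 2 ⊕ Fin 2) (Fin 2 ⊕ Fin 2) F) = -1 := by
  rw [negOne, pair_val, ← fromBlocks_one, fromBlocks_neg]
  congr 1 <;> ext i j <;> fin_cases i <;> fin_cases j <;> simp

theorem negOne_comm (x : G₀) : negOne * x = x * negOne := by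
  apply Subtype.ext
  rw [Submonoid.coe_mul, Submonoid.coe_mul, negOne_val, neg_one_mul, mul_neg_one]

theorem negOne_mem_center : (negOne : G₀) ∈ Subgroup.center G₀ :=
  Subgroup.mem_center_iff.2 fun x => (negOne_comm x).symm

theorem negOne_mul_self : (negOne : G₀) * negOne = 1 := by
  rw [negOne, pair_mul, neg_mul_neg, one_mul, pair_one]

/-- The first generator `diag(1, -1)` of `spE`. -/
def ga : G₀ := pair 1 (-1)

/-- What commutes with `ga` is block diagonal. -/
theorem exists_pair_of_commute_ga (h2 : (2 : F) ≠ 0) {h : G₀} (hc : h * ga = ga * h) :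
    ∃ a b : SL(2, F), h = pair a b := by
  obtain ⟨A, B, C, D, hM⟩ : ∃ A B C D : Matrix (Fin 2) (Fin 2) F,
      (h : Matrix (Fin 2 ⊕ Fin 2) (Fin 2 ⊕ Fin 2) F) = fromBlocks A B C D :=
    ⟨_, _, _, _, (fromBlocks_toBlocks _).symm⟩
  have hga : ((ga : G₀) : Matrix (Fin 2 ⊕ Fin 2) (Fin 2 ⊕ Fin 2) F) =
      fromBlocks (diagonal ![1, -1]) 0 0 (diagonal ![1, -1]) := by
    rw [ga, pair_val]
    congr 1 <;> ext i j <;> fin_cases i <;> fin_cases j <;> simp
  have hv := congrArg Subtype.val hc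
  rw [Submonoid.coe_mul, Submonoid.coe_mul, hM, hga, fromBlocks_multiply, fromBlocks_multiply,
    fromBlocks_inj] at hv
  simp only [Matrix.mul_zero, Matrix.zero_mul, add_zero, zero_add] at hv
  obtain ⟨hA, hB, hC, hD⟩ := hv
  have key : ∀ X : Matrix (Fin 2) (Fin 2) F, X * diagonal ![1, -1] = diagonal ![1, -1] * X →
      X = diagonal ![X 0 0, X 1 1] := by
    intro X hX
    have e01 := congrFun (congrFun hX 0) 1
    have e10 := congrFun (congrFun hX 1) 0
    simp [Matrix.mul_diagonal, Matrix.diagonal_mul] at e01 e10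
    have h01 : X 0 1 = 0 := (mul_eq_zero.1 (by linear_combination -e01 : (2 : F) * X 0 1 = 0)).resolve_left h2
    have h10 : X 1 0 = 0 := (mul_eq_zero.1 (by linear_combination e10 : (2 : F) * X 1 0 = 0)).resolve_left h2
    ext i j; fin_cases i <;> fin_cases j <;> simp [h01, h10]
  rw [key A hA, key B hB, key C hC, key D hD] at hM
  have hs : (h : Matrix (Fin 2 ⊕ Fin 2) (Fin 2 ⊕ Fin 2) F) ∈ Matrix.symplecticGroup (Fin 2) F := h.2
  rw [SymplecticGroup.mem_iff', hM, Matrix.J, fromBlocks_transpose, fromBlocks_multiply,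
    fromBlocks_multiply] at hs
  have d0 := congrFun (congrFun hs (.inl 0)) (.inr 0)
  have d1 := congrFun (congrFun hs (.inl 1)) (.inr 1)
  simp at d0 d1
  refine ⟨⟨!![A 0 0, B 0 0; C 0 0, D 0 0], ?_⟩, ⟨!![A 1 1, B 1 1; C 1 1, D 1 1], ?_⟩, ?_⟩
  · rw [det_fin_two_of]; linear_combination -d0
  · rw [det_fin_two_of]; linear_combination -d1
  · apply Subtype.ext
    refine hM.trans (Eq.trans ?_ (pair_val _ _).symm)
    congr 1 <;> congr 1 <;> funext i <;> fin_cases i <;> simp

theorem ga_sw : (ga : G₀) * sw * ga⁻¹ = negOne * sw := by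
  rw [ga, pair_inv, mul_assoc, sw_pair, ← mul_assoc, pair_mul, negOne]
  simp

theorem sw_ga : (sw : G₀) * ga * sw⁻¹ = negOne * ga := by
  rw [sw_inv, ga, sw_pair, mul_assoc, sw_mul_self, mul_one, negOne, pair_mul]
  simp

section Pair

variable (α β : F) (hab : α ^ 2 + β ^ 2 = -1) (h2 : (2 : F) ≠ 0)

/-- `diag(i, i)`. -/
def gi : G₀ := pair iS iS

/-- `diag(j, j)`. -/
def gj : G₀ := pair (jS α β hab) (jS α β hab)

/-- The subgroup `2^{1+4}`. -/
def spE : Subgroup G₀ := Subgroup.closure {ga, sw, gi, gj α β hab}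

theorem ga_mem : (ga : G₀) ∈ spE α β hab := Subgroup.subset_closure (by simp)

theorem sw_mem : (sw : G₀) ∈ spE α β hab := Subgroup.subset_closure (by simp)

theorem gi_mem : (gi : G₀) ∈ spE α β hab := Subgroup.subset_closure (by simp)

theorem gj_mem : gj α β hab ∈ spE α β hab := Subgroup.subset_closure (by simp)

theorem negOne_mem_spE : (negOne : G₀) ∈ spE α β hab := by
  have : (negOne : G₀) = gi * gi := by rw [gi, pair_mul, iS_sq]; rfl
  rw [this]; exact mul_mem (gi_mem α β hab) (gi_mem α β hab)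

theorem gi_gj : (gi : G₀) * gj α β hab * gi⁻¹ = negOne * gj α β hab := by
  have e : iS * jS α β hab * iS⁻¹ = -jS α β hab := by
    rw [inv_eq_neg iS_sq, mul_neg, mul_assoc, jS_iS, mul_neg, neg_neg, ← mul_assoc, iS_sq,
      neg_mul, one_mul]
  rw [gi, gj, pair_inv, pair_mul, pair_mul, negOne, pair_mul, e, neg_mul, one_mul]

theorem gj_gi : gj α β hab * gi * (gj α β hab)⁻¹ = negOne * gi := by
  have e : jS α β hab * iS * (jS α β hab)⁻¹ = -iS := by
    rw [jS_iS, inv_eq_neg jS_sq, neg_mul_neg, mul_assoc, jS_sq, mul_neg, mul_one]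
  rw [gi, gj, pair_inv, pair_mul, pair_mul, negOne, pair_mul, e, neg_mul, one_mul]

/-- What fixes the generators is `±1`. -/
theorem eq_one_or_negOne (h2 : (2 : F) ≠ 0) {w : G₀} (ha : w * ga = ga * w)
    (hb : w * sw = sw * w) (hi : w * gi = gi * w) (hj : w * gj α β hab = gj α β hab * w) :
    w = 1 ∨ w = negOne := by
  obtain ⟨a, b, rfl⟩ := exists_pair_of_commute_ga h2 ha
  rw [sw_pair, mul_left_inj] at hb
  obtain ⟨rfl, -⟩ := pair_inj hb
  rw [gi, pair_mul, pair_mul] at hi
  rw [gj, pair_mul, pair_mul] at hj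
  rcases eq_one_or_of_commute h2 (pair_inj hi).1 (pair_inj hj).1 with rfl | rfl
  · exact .inl pair_one
  · exact .inr rfl

theorem fix_one {w g h : G₀} (hg : w * g * w⁻¹ = g ∨ w * g * w⁻¹ = negOne * g)
    (hh : h * g * h⁻¹ = negOne * g) :
    ∃ e : G₀, (e = 1 ∨ e = h) ∧ e * w * g * (e * w)⁻¹ = g := by
  rcases hg with e1 | e1
  · exact ⟨1, .inl rfl, by rw [one_mul, e1]⟩
  · refine ⟨h, .inr rfl, ?_⟩
    rw [show h * w * g * (h * w)⁻¹ = h * (w * g * w⁻¹) * h⁻¹ by group, e1, ← mul_assoc h,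
      ← negOne_comm, mul_assoc negOne, mul_assoc negOne, hh, ← mul_assoc, negOne_mul_self, one_mul]

theorem sign_keep {w g h : G₀} (hg : w * g * w⁻¹ = g ∨ w * g * w⁻¹ = negOne * g)
    (hh : h * g = g * h) :
    h * w * g * (h * w)⁻¹ = g ∨ h * w * g * (h * w)⁻¹ = negOne * g := by
  rw [show h * w * g * (h * w)⁻¹ = h * (w * g * w⁻¹) * h⁻¹ by group]
  rcases hg with e1 | e1 <;> rw [e1]
  · exact .inl (by rw [hh, mul_inv_cancel_right])
  · right
    rw [← mul_assoc h, ← negOne_comm, mul_assoc negOne, hh, ← mul_assoc, mul_inv_cancel_right]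

theorem fix_keep {w g h : G₀} (hg : w * g * w⁻¹ = g) (hh : h * g = g * h) :
    h * w * g * (h * w)⁻¹ = g := by
  rw [show h * w * g * (h * w)⁻¹ = h * (w * g * w⁻¹) * h⁻¹ by group, hg, hh, mul_inv_cancel_right]

theorem comm_gi_gsw : (gi : G₀) * sw = sw * gi := by rw [gi, sw_pair]

theorem comm_gj_sw : gj α β hab * sw = sw * gj α β hab := by rw [gj, sw_pair]

theorem comm_gi_ga : (gi : G₀) * ga = ga * gi := by
  rw [gi, ga, pair_mul, pair_mul, one_mul, mul_one, neg_one_mul, mul_neg_one]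

theorem comm_gj_ga : gj α β hab * ga = ga * gj α β hab := by
  rw [gj, ga, pair_mul, pair_mul, one_mul, mul_one, neg_one_mul, mul_neg_one]

/-- `spE` is self-centralizing up to sign. -/
theorem mem_spE_of_sign (h2 : (2 : F) ≠ 0) {w : G₀}
    (hw : ∀ g ∈ ({ga, sw, gi, gj α β hab} : Set G₀),
      w * g * w⁻¹ = g ∨ w * g * w⁻¹ = negOne * g) : w ∈ spE α β hab := by
  have sa := hw ga (by simp)
  have sb := hw sw (by simp)
  have si := hw gi (by simp)
  have sj := hw (gj α β hab) (by simp)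
  obtain ⟨e1, he1, fa⟩ := fix_one sa sw_ga
  have me1 : e1 ∈ spE α β hab := by
    rcases he1 with rfl | rfl
    exacts [one_mem _, sw_mem α β hab]
  have c1 : e1 * sw = sw * e1 ∧ e1 * gi = gi * e1 ∧ e1 * gj α β hab = gj α β hab * e1 := by
    rcases he1 with rfl | rfl
    · simp
    · exact ⟨rfl, comm_gi_gsw.symm, (comm_gj_sw α β hab).symm⟩
  obtain ⟨e2, he2, fb⟩ := fix_one (sign_keep sb c1.1) ga_sw
  have me2 : e2 ∈ spE α β hab := by
    rcases he2 with rfl | rfl
    exacts [one_mem _, ga_mem α β hab]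
  have c2 : e2 * ga = ga * e2 ∧ e2 * gi = gi * e2 ∧ e2 * gj α β hab = gj α β hab * e2 := by
    rcases he2 with rfl | rfl
    · simp
    · exact ⟨rfl, comm_gi_ga.symm, (comm_gj_ga α β hab).symm⟩
  obtain ⟨e3, he3, fi⟩ := fix_one (sign_keep (sign_keep si c1.2.1) c2.2.1) (gj_gi α β hab)
  have me3 : e3 ∈ spE α β hab := by
    rcases he3 with rfl | rfl
    exacts [one_mem _, gj_mem α β hab]
  have c3 : e3 * ga = ga * e3 ∧ e3 * sw = sw * e3 ∧ e3 * gj α β hab = gj α β hab * e3 := by
    rcases he3 with rfl | rfl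
    · simp
    · exact ⟨comm_gj_ga α β hab, comm_gj_sw α β hab, rfl⟩
  obtain ⟨e4, he4, fj⟩ :=
    fix_one (sign_keep (sign_keep (sign_keep sj c1.2.2) c2.2.2) c3.2.2) (gi_gj α β hab)
  have me4 : e4 ∈ spE α β hab := by
    rcases he4 with rfl | rfl
    exacts [one_mem _, gi_mem α β hab]
  have c4 : e4 * ga = ga * e4 ∧ e4 * sw = sw * e4 ∧ e4 * gi = gi * e4 := by
    rcases he4 with rfl | rfl
    · simp
    · exact ⟨comm_gi_ga, comm_gi_gsw, rfl⟩
  have fa' := fix_keep (fix_keep (fix_keep fa c2.1) c3.1) c4.1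
  have fb' := fix_keep (fix_keep fb c3.2.1) c4.2.1
  have fi' := fix_keep fi c4.2.2
  set v := e4 * (e3 * (e2 * (e1 * w))) with hv
  have hwv : w = e1⁻¹ * (e2⁻¹ * (e3⁻¹ * (e4⁻¹ * v))) := by rw [hv]; group
  have hvE : v ∈ spE α β hab := by
    rcases eq_one_or_negOne α β hab h2 (mul_inv_eq_iff_eq_mul.1 fa') (mul_inv_eq_iff_eq_mul.1 fb')
      (mul_inv_eq_iff_eq_mul.1 fi') (mul_inv_eq_iff_eq_mul.1 fj) with e | e <;> rw [e]
    exacts [one_mem _, negOne_mem_spE α β hab]
  rw [hwv]
  exact mul_mem (inv_mem me1) (mul_mem (inv_mem me2) (mul_mem (inv_mem me3)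
    (mul_mem (inv_mem me4) hvE)))

/-- `c ⊗ M`. -/
def kr (c M : Matrix (Fin 2) (Fin 2) F) : Matrix (Fin 2 ⊕ Fin 2) (Fin 2 ⊕ Fin 2) F :=
  fromBlocks (M 0 0 • c) (M 0 1 • c) (M 1 0 • c) (M 1 1 • c)

theorem kr_mul (c c' M M' : Matrix (Fin 2) (Fin 2) F) :
    kr c M * kr c' M' = kr (c * c') (M * M') := by
  simp only [kr, fromBlocks_multiply, Matrix.smul_mul, Matrix.mul_smul, smul_smul, ← add_smul,
    Matrix.mul_apply, Fin.sum_univ_two]
  congr 1 <;> congr 1 <;> ring

theorem kr_smul (s : F) (c M : Matrix (Fin 2) (Fin 2) F) : kr (s • c) M = kr c (s • M) := by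
  simp only [kr, smul_smul, Matrix.smul_apply, smul_eq_mul]
  congr 1 <;> congr 1 <;> ring

theorem kr_mem {c M : Matrix (Fin 2) (Fin 2) F} (hc : cᵀ = c) (hcc : c * c = (2 : F) • 1)
    (hM : (M 0 0 * M 1 1 - M 0 1 * M 1 0) * 2 = 1) :
    kr c M ∈ Matrix.symplecticGroup (Fin 2) F := by
  rw [SymplecticGroup.mem_iff', kr, Matrix.J, fromBlocks_transpose, fromBlocks_multiply,
    fromBlocks_multiply]
  simp only [transpose_smul, hc, Matrix.mul_zero, Matrix.mul_one, Matrix.mul_neg,
    Matrix.neg_mul, add_zero, zero_add, Matrix.smul_mul, Matrix.mul_smul, hcc, smul_smul, ← neg_smul,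
    ← add_smul]
  congr 1
  · convert zero_smul F (1 : Matrix (Fin 2) (Fin 2) F) using 2; ring
  · convert neg_one_smul F (1 : Matrix (Fin 2) (Fin 2) F) using 2; linear_combination -hM
  · convert one_smul F (1 : Matrix (Fin 2) (Fin 2) F) using 2; linear_combination hM
  · convert zero_smul F (1 : Matrix (Fin 2) (Fin 2) F) using 2; ring

/-- `[[1, 1], [1, -1]]`. -/
def cMat : Matrix (Fin 2) (Fin 2) F := !![1, 1; 1, -1]

theorem cMat_mul_self : (cMat : Matrix (Fin 2) (Fin 2) F) * cMat = (2 : F) • 1 := by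
  ext i j; fin_cases i <;> fin_cases j <;> simp [cMat] <;> norm_num

theorem cMat_transpose : (cMat : Matrix (Fin 2) (Fin 2) F)ᵀ = cMat := by
  ext i j; fin_cases i <;> fin_cases j <;> simp [cMat]

/-- `(i - j) / 2`. -/
def mOne : Matrix (Fin 2) (Fin 2) F := !![-α / 2, (1 - β) / 2; (-1 - β) / 2, α / 2]

/-- `(j - k) / 2`. -/
def mTwo : Matrix (Fin 2) (Fin 2) F := !![(α - β) / 2, (β + α) / 2; (β + α) / 2, (-α + β) / 2]

/-- The first element of `N(spE)` exchanging the generators in pairs. -/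
def xOne : G₀ := ⟨kr cMat (mOne α β), kr_mem cMat_transpose cMat_mul_self (by
  simp [mOne]; field_simp; linear_combination -hab)⟩

/-- The second such element. -/
def xTwo : G₀ := ⟨kr cMat (mTwo α β), kr_mem cMat_transpose cMat_mul_self (by
  simp [mTwo]; field_simp; linear_combination -2 * hab)⟩

theorem pair_same_val (a : SL(2, F)) :
    ((pair a a : G₀) : Matrix (Fin 2 ⊕ Fin 2) (Fin 2 ⊕ Fin 2) F) = kr 1 (a : Matrix (Fin 2) (Fin 2) F) := by
  rw [pair_val, kr]
  congr 1 <;> ext i j <;> fin_cases i <;> fin_cases j <;> simp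

theorem negOne_kr :
    ((negOne : G₀) : Matrix (Fin 2 ⊕ Fin 2) (Fin 2 ⊕ Fin 2) F) = kr 1 (-1) := by
  rw [negOne, pair_same_val]; simp

theorem ga_val :
    ((ga : G₀) : Matrix (Fin 2 ⊕ Fin 2) (Fin 2 ⊕ Fin 2) F) = kr !![1, 0; 0, -1] 1 := by
  rw [ga, pair_val, kr]
  congr 1 <;> ext i j <;> fin_cases i <;> fin_cases j <;> simp

theorem sw_val :
    ((sw : G₀) : Matrix (Fin 2 ⊕ Fin 2) (Fin 2 ⊕ Fin 2) F) = kr !![0, 1; 1, 0] 1 := by
  show fromBlocks (permMat (Equiv.swap 0 1)) 0 0 (permMat (Equiv.swap 0 1)) = _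
  rw [kr]
  congr 1 <;> ext i j <;> fin_cases i <;> fin_cases j <;> simp [permMat_apply]

theorem kr_congr {c c' M M' : Matrix (Fin 2) (Fin 2) F} (h1 : c = c') (h2 : M = M') :
    kr c M = kr c' M' := by rw [h1, h2]

theorem xOne_ga : xOne α β hab h2 * ga = sw * xOne α β hab h2 := by
  apply Subtype.ext
  rw [Submonoid.coe_mul, Submonoid.coe_mul, ga_val, sw_val, xOne, kr_mul, kr_mul, mul_one, one_mul]
  refine kr_congr ?_ rfl
  ext i j; fin_cases i <;> fin_cases j <;> simp [cMat]

theorem xOne_sw : xOne α β hab h2 * sw = ga * xOne α β hab h2 := by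
  apply Subtype.ext
  rw [Submonoid.coe_mul, Submonoid.coe_mul, ga_val, sw_val, xOne, kr_mul, kr_mul, mul_one, one_mul]
  refine kr_congr ?_ rfl
  ext i j; fin_cases i <;> fin_cases j <;> simp [cMat]

theorem xTwo_ga : xTwo α β hab h2 * ga = sw * xTwo α β hab h2 := by
  apply Subtype.ext
  rw [Submonoid.coe_mul, Submonoid.coe_mul, ga_val, sw_val, xTwo, kr_mul, kr_mul, mul_one, one_mul]
  refine kr_congr ?_ rfl
  ext i j; fin_cases i <;> fin_cases j <;> simp [cMat]

theorem xTwo_sw : xTwo α β hab h2 * sw = ga * xTwo α β hab h2 := by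
  apply Subtype.ext
  rw [Submonoid.coe_mul, Submonoid.coe_mul, ga_val, sw_val, xTwo, kr_mul, kr_mul, mul_one, one_mul]
  refine kr_congr ?_ rfl
  ext i j; fin_cases i <;> fin_cases j <;> simp [cMat]

theorem xOne_gi : xOne α β hab h2 * gi = negOne * gj α β hab * xOne α β hab h2 := by
  apply Subtype.ext
  rw [Submonoid.coe_mul, Submonoid.coe_mul, Submonoid.coe_mul, gi, gj, pair_same_val,
    pair_same_val, negOne_kr, xOne, kr_mul, kr_mul, kr_mul, one_mul, one_mul, mul_one]
  refine kr_congr rfl ?_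
  ext r c; fin_cases r <;> fin_cases c <;>
    simp [mOne, iS, jS, Matrix.mul_apply, Fin.sum_univ_two] <;>
    field_simp <;>
    (first | ring1 | linear_combination hab | linear_combination -hab | linear_combination 2 * hab | linear_combination -2 * hab | (right; ring1) | linear_combination 4 * hab | linear_combination -4 * hab)

theorem xOne_gj : xOne α β hab h2 * gj α β hab = negOne * gi * xOne α β hab h2 := by
  apply Subtype.ext
  rw [Submonoid.coe_mul, Submonoid.coe_mul, Submonoid.coe_mul, gi, gj, pair_same_val,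
    pair_same_val, negOne_kr, xOne, kr_mul, kr_mul, kr_mul, one_mul, one_mul, mul_one]
  refine kr_congr rfl ?_
  ext r c; fin_cases r <;> fin_cases c <;>
    simp [mOne, iS, jS, Matrix.mul_apply, Fin.sum_univ_two] <;>
    field_simp <;>
    (first | ring1 | linear_combination hab | linear_combination -hab | linear_combination 2 * hab | linear_combination -2 * hab | (right; ring1) | linear_combination 4 * hab | linear_combination -4 * hab)

theorem xTwo_gi : xTwo α β hab h2 * gi = negOne * gi * xTwo α β hab h2 := by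
  apply Subtype.ext
  rw [Submonoid.coe_mul, Submonoid.coe_mul, Submonoid.coe_mul, gi, pair_same_val, negOne_kr, xTwo,
    kr_mul, kr_mul, kr_mul, one_mul, one_mul, mul_one]
  refine kr_congr rfl ?_
  ext r c; fin_cases r <;> fin_cases c <;>
    simp [mTwo, iS, Matrix.mul_apply, Fin.sum_univ_two] <;>
    field_simp <;>
    (first | ring1 | linear_combination hab | linear_combination -hab | linear_combination 2 * hab | linear_combination -2 * hab | (right; ring1) | linear_combination 4 * hab | linear_combination -4 * hab)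

theorem xTwo_gj : xTwo α β hab h2 * gj α β hab =
    negOne * (gi * gj α β hab) * xTwo α β hab h2 := by
  apply Subtype.ext
  rw [Submonoid.coe_mul, Submonoid.coe_mul, Submonoid.coe_mul, Submonoid.coe_mul, gi, gj,
    pair_same_val, pair_same_val, negOne_kr, xTwo, kr_mul, kr_mul, kr_mul, kr_mul, one_mul,
    one_mul, one_mul, mul_one]
  refine kr_congr rfl ?_
  ext r c; fin_cases r <;> fin_cases c <;>
    simp [mTwo, iS, jS, Matrix.mul_apply, Fin.sum_univ_two] <;>
    field_simp <;>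
    (first | ring1 | linear_combination hab | linear_combination -hab | linear_combination 2 * hab | linear_combination -2 * hab | (right; ring1) | linear_combination 4 * hab | linear_combination -4 * hab)

theorem xOne_sq : xOne α β hab h2 * xOne α β hab h2 = negOne := by
  apply Subtype.ext
  rw [Submonoid.coe_mul, negOne_kr, xOne, kr_mul, cMat_mul_self, kr_smul]
  refine kr_congr rfl ?_
  ext r c; fin_cases r <;> fin_cases c <;>
    simp [mOne, Matrix.mul_apply, Fin.sum_univ_two] <;>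
    field_simp <;>
    (first | ring1 | linear_combination hab | linear_combination -hab | linear_combination 2 * hab | linear_combination -2 * hab | (right; ring1) | linear_combination 4 * hab | linear_combination -4 * hab)

theorem xTwo_sq : xTwo α β hab h2 * xTwo α β hab h2 = negOne := by
  apply Subtype.ext
  rw [Submonoid.coe_mul, negOne_kr, xTwo, kr_mul, cMat_mul_self, kr_smul]
  refine kr_congr rfl ?_
  ext r c; fin_cases r <;> fin_cases c <;>
    simp [mTwo, Matrix.mul_apply, Fin.sum_univ_two] <;>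
    field_simp <;>
    (first | ring1 | linear_combination hab | linear_combination -hab | linear_combination 2 * hab | linear_combination -2 * hab | (right; ring1) | linear_combination 4 * hab | linear_combination -4 * hab)

theorem xOne_mul_xTwo : xOne α β hab h2 * xTwo α β hab h2 =
    pair (gS α β hab h2) (gS α β hab h2) := by
  apply Subtype.ext
  rw [Submonoid.coe_mul, pair_same_val, xOne, xTwo, kr_mul, cMat_mul_self, kr_smul]
  refine kr_congr rfl ?_
  ext r c; fin_cases r <;> fin_cases c <;>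
    simp [mOne, mTwo, gS, Matrix.mul_apply, Fin.sum_univ_two] <;>
    field_simp <;>
    (first | ring1 | linear_combination hab | linear_combination -hab | linear_combination 2 * hab | linear_combination -2 * hab | (right; ring1) | linear_combination 4 * hab | linear_combination -4 * hab)

theorem mem_normalizer_spE [Finite F] {x : G₀}
    (hx : ∀ g ∈ ({ga, sw, gi, gj α β hab} : Set G₀), x * g * x⁻¹ ∈ spE α β hab) :
    x ∈ Subgroup.normalizer ((spE α β hab : Subgroup G₀) : Set G₀) := by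
  haveI : Finite G₀ := inferInstanceAs (Finite (Matrix.symplecticGroup (Fin 2) F))
  refine Subgroup.mem_normalizer_iff_map_conj_eq.2 (Subgroup.eq_of_le_of_card_ge ?_ ?_)
  · rw [spE, MonoidHom.map_closure, Subgroup.closure_le]
    rintro _ ⟨y, hy, rfl⟩
    exact hx y hy
  · rw [Subgroup.card_map_of_injective (MulAut.conj x).injective]

theorem xOne_normalizes [Finite F] :
    xOne α β hab h2 ∈ Subgroup.normalizer ((spE α β hab : Subgroup G₀) : Set G₀) := by
  refine mem_normalizer_spE α β hab fun g hg => ?_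
  simp only [Set.mem_insert_iff, Set.mem_singleton_iff] at hg
  rcases hg with rfl | rfl | rfl | rfl
  · rw [xOne_ga, mul_inv_cancel_right]; exact sw_mem α β hab
  · rw [xOne_sw, mul_inv_cancel_right]; exact ga_mem α β hab
  · rw [xOne_gi, mul_inv_cancel_right]; exact mul_mem (negOne_mem_spE α β hab) (gj_mem α β hab)
  · rw [xOne_gj, mul_inv_cancel_right]; exact mul_mem (negOne_mem_spE α β hab) (gi_mem α β hab)

theorem xTwo_normalizes [Finite F] :
    xTwo α β hab h2 ∈ Subgroup.normalizer ((spE α β hab : Subgroup G₀) : Set G₀) := by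
  refine mem_normalizer_spE α β hab fun g hg => ?_
  simp only [Set.mem_insert_iff, Set.mem_singleton_iff] at hg
  rcases hg with rfl | rfl | rfl | rfl
  · rw [xTwo_ga, mul_inv_cancel_right]; exact sw_mem α β hab
  · rw [xTwo_sw, mul_inv_cancel_right]; exact ga_mem α β hab
  · rw [xTwo_gi, mul_inv_cancel_right]; exact mul_mem (negOne_mem_spE α β hab) (gi_mem α β hab)
  · rw [xTwo_gj, mul_inv_cancel_right]
    exact mul_mem (negOne_mem_spE α β hab) (mul_mem (gi_mem α β hab) (gj_mem α β hab))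

end Pair

/-- `(Q × Q) : 2`. -/
def spW (Q : Subgroup SL(2, F)) : Subgroup G₀ where
  carrier := {x | ∃ a ∈ Q, ∃ b ∈ Q, x = pair a b ∨ x = pair a b * sw}
  one_mem' := ⟨1, one_mem _, 1, one_mem _, .inl pair_one.symm⟩
  mul_mem' := by
    rintro x y ⟨a, ha, b, hb, hx⟩ ⟨c, hc, d, hd, hy⟩
    rcases hx with rfl | rfl <;> rcases hy with rfl | rfl
    · exact ⟨_, mul_mem ha hc, _, mul_mem hb hd, .inl (pair_mul a b c d)⟩
    · exact ⟨_, mul_mem ha hc, _, mul_mem hb hd, .inr (by rw [← mul_assoc, pair_mul])⟩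
    · exact ⟨_, mul_mem ha hd, _, mul_mem hb hc, .inr (by
        rw [mul_assoc, sw_pair, ← mul_assoc, pair_mul])⟩
    · exact ⟨_, mul_mem ha hd, _, mul_mem hb hc, .inl (by
        rw [mul_assoc (pair a b), ← mul_assoc sw, sw_pair, mul_assoc (pair d c), sw_mul_self,
          mul_one, pair_mul])⟩
  inv_mem' := by
    rintro x ⟨a, ha, b, hb, rfl | rfl⟩
    · exact ⟨_, inv_mem ha, _, inv_mem hb, .inl (pair_inv a b)⟩
    · exact ⟨_, inv_mem hb, _, inv_mem ha, .inr (by rw [_root_.mul_inv_rev, pair_inv, sw_inv, sw_pair])⟩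

variable {Q : Subgroup SL(2, F)}

theorem pair_mem {a b : SL(2, F)} (ha : a ∈ Q) (hb : b ∈ Q) : pair a b ∈ spW Q :=
  ⟨a, ha, b, hb, .inl rfl⟩

theorem sw_mem_spW : (sw : G₀) ∈ spW Q :=
  ⟨1, one_mem _, 1, one_mem _, .inr (by rw [pair_one, one_mul])⟩

theorem pair_mem_iff {a b : SL(2, F)} : pair a b ∈ spW Q ↔ a ∈ Q ∧ b ∈ Q := by
  refine ⟨?_, fun h => pair_mem h.1 h.2⟩
  rintro ⟨c, hc, d, hd, h | h⟩
  · obtain ⟨rfl, rfl⟩ := pair_inj h
    exact ⟨hc, hd⟩
  · exact absurd h (pair_ne_sw _ _ _ _)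

theorem pair_sw_mem_iff {a b : SL(2, F)} : pair a b * sw ∈ spW Q ↔ a ∈ Q ∧ b ∈ Q := by
  rw [Subgroup.mul_mem_cancel_right _ sw_mem_spW, pair_mem_iff]

theorem card_spW [Finite F] : Nat.card (spW Q) = Nat.card Q ^ 2 * 2 := by
  classical
  let f : (Q × Q) × Fin 2 → spW Q := fun x =>
    if x.2 = 0 then ⟨pair x.1.1 x.1.2, pair_mem x.1.1.2 x.1.2.2⟩
    else ⟨pair x.1.1 x.1.2 * sw, pair_sw_mem_iff.2 ⟨x.1.1.2, x.1.2.2⟩⟩
  have hf : Function.Bijective f := by
    constructor
    · rintro ⟨⟨a, b⟩, u⟩ ⟨⟨c, d⟩, v⟩ h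
      fin_cases u <;> fin_cases v <;> simp [f] at h
      · obtain ⟨e1, e2⟩ := pair_inj h
        rw [Subtype.ext e1, Subtype.ext e2]
      · exact absurd h (pair_ne_sw _ _ _ _)
      · exact absurd h.symm (pair_ne_sw _ _ _ _)
      · obtain ⟨e1, e2⟩ := pair_inj h
        rw [Subtype.ext e1, Subtype.ext e2]
    · rintro ⟨x, a, ha, b, hb, rfl | rfl⟩
      · exact ⟨((⟨a, ha⟩, ⟨b, hb⟩), 0), by simp [f]⟩
      · exact ⟨((⟨a, ha⟩, ⟨b, hb⟩), 1), by simp [f]⟩
  rw [← Nat.card_congr (Equiv.ofBijective f hf), Nat.card_prod, Nat.card_prod, Nat.card_fin, sq]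

theorem spE_le_spW {α β : F} {hab : α ^ 2 + β ^ 2 = -1} (hi : iS ∈ Q) (hj : jS α β hab ∈ Q) :
    spE α β hab ≤ spW Q := by
  have hm1 : (-1 : SL(2, F)) ∈ Q := by rw [← iS_sq]; exact mul_mem hi hi
  rw [spE, Subgroup.closure_le]
  intro g hg
  simp only [Set.mem_insert_iff, Set.mem_singleton_iff] at hg
  rcases hg with rfl | rfl | rfl | rfl
  exacts [pair_mem (one_mem _) hm1, sw_mem_spW, pair_mem hi hi, pair_mem hj hj]

/-- No proper subgroup of `spW Q` strictly above `±1` is closed under fusion. -/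
theorem spW_le_of_closed [Fintype F] [Fact (Nat.Prime 2)] (h2 : (2 : F) ≠ 0) {α β : F}
    {hab : α ^ 2 + β ^ 2 = -1} (hQp : IsPGroup 2 Q) (hi : iS ∈ Q) (hj : jS α β hab ∈ Q)
    (hgen : Q ≤ Subgroup.closure {x | x ∈ Q ∧ x * x = -1})
    {T : Subgroup G₀} (hT : T ≤ spW Q) (hneg : negOne ∈ T)
    {x : G₀} (hx : x ∈ T) (hx1 : x ≠ 1) (hx2 : x ≠ negOne)
    (hcl : ∀ y ∈ T, ∀ g : G₀, g * y * g⁻¹ ∈ spW Q → g * y * g⁻¹ ∈ T) : spW Q ≤ T := by
  have hm1 : (-1 : SL(2, F)) ∈ Q := by rw [← iS_sq]; exact mul_mem hi hi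
  have hnormal : ∀ y ∈ T, ∀ w ∈ spW Q, w * y * w⁻¹ ∈ T := fun y hy w hw =>
    hcl y hy w (mul_mem (mul_mem hw (hT hy)) (inv_mem hw))
  have hcomm : ∀ y ∈ T, ∀ w ∈ spW Q, w * y * w⁻¹ * y⁻¹ ∈ T := fun y hy w hw =>
    mul_mem (hnormal y hy w hw) (inv_mem hy)
  have hpow : ∀ a ∈ Q, a ≠ 1 → ∃ m : ℕ, a ^ m = -1 := by
    intro a ha ha1
    obtain ⟨k, hk⟩ := hQp ⟨a, ha⟩
    have hk' : a ^ 2 ^ k = 1 := congrArg Subtype.val hk
    clear hk
    induction k with
    | zero => rw [pow_zero, pow_one] at hk'; exact absurd hk' ha1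
    | succ k ih =>
      rw [pow_succ, pow_mul, sq] at hk'
      rcases GLOrder.SL2_eq_one_or_neg_one_of_sq h2 hk' with e | e
      exacts [ih e, ⟨_, e⟩]
  have hsplit : ∀ a b, pair a b ∈ T → a ≠ 1 ∧ a ≠ -1 → (pair (-1) 1 : G₀) ∈ T := by
    intro a b hab' hne
    have ha := (pair_mem_iff.1 (hT hab')).1
    have hex : ∃ c ∈ Q, c * a * c⁻¹ * a⁻¹ ≠ 1 := by
      by_contra! hc
      have h : ∀ c ∈ Q, Commute a c := fun c hc' => by
        have := hc c hc'
        rw [mul_inv_eq_one, mul_inv_eq_iff_eq_mul] at this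
        exact this.symm
      rcases eq_one_or_of_commute h2 (h _ hi) (h _ hj) with e | e
      exacts [hne.1 e, hne.2 e]
    obtain ⟨c, hc, hc1⟩ := hex
    have hmem := hcomm _ hab' (pair c 1) (pair_mem hc (one_mem _))
    rw [pair_inv, pair_inv, pair_mul, pair_mul, pair_mul, inv_one, one_mul, mul_one,
      mul_inv_cancel] at hmem
    obtain ⟨m, hm⟩ := hpow _ (pair_mem_iff.1 (hT hmem)).1 hc1
    have := pow_mem hmem m
    have hp : ∀ (u v : SL(2, F)) (m : ℕ), pair u v ^ m = pair (u ^ m) (v ^ m) := by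
      intro u v m
      induction m with
      | zero => simp [pair_one]
      | succ m ih => rw [pow_succ, ih, pair_mul, pow_succ, pow_succ]
    rwa [hp, hm, one_pow] at this
  have hsplit' : ∀ a b, pair a b ∈ T → b ≠ 1 ∧ b ≠ -1 → (pair (-1) 1 : G₀) ∈ T := by
    intro a b hab' hne
    refine hsplit b a ?_ hne
    have := hnormal _ hab' sw sw_mem_spW
    rwa [sw_pair, sw_inv, mul_assoc, sw_mul_self, mul_one] at this
  have hz : (ga : G₀) ∈ T := by
    suffices h : (pair (-1) 1 : G₀) ∈ T by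
      have := mul_mem h hneg
      rwa [negOne, pair_mul, neg_mul_neg, one_mul, one_mul] at this
    obtain ⟨a, ha, b, hb, rfl | rfl⟩ := hT hx
    · by_cases hA : a = 1 ∨ a = -1
      · by_cases hB : b = 1 ∨ b = -1
        · rcases hA with rfl | rfl <;> rcases hB with rfl | rfl
          · exact absurd pair_one hx1
          · have := mul_mem hx hneg
            rwa [negOne, pair_mul, neg_mul_neg, one_mul, one_mul] at this
          · exact hx
          · exact absurd rfl hx2
        · exact hsplit' a b hx (by tauto)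
      · exact hsplit a b hx (by tauto)
    · have hmem := hcomm _ hx (pair iS 1) (pair_mem hi (one_mem _))
      have e : pair iS 1 * (pair a b * sw) * (pair iS 1)⁻¹ * (pair a b * sw)⁻¹ =
          pair (iS * a * 1 * a⁻¹) (b * iS⁻¹ * b⁻¹) := by
        rw [pair_inv, inv_one, ← mul_assoc, pair_mul, mul_assoc (pair (iS * a) (1 * b)), sw_pair,
          ← mul_assoc, pair_mul, _root_.mul_inv_rev, sw_inv, ← mul_assoc, mul_assoc (pair _ _),
          sw_mul_self, mul_one, pair_inv, pair_mul]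
        simp [mul_assoc]
      rw [e, mul_one, mul_inv_cancel_right] at hmem
      exact hsplit _ _ hmem (ne_scalar_of_sq h2 iS_sq)
  have hsw : (sw : G₀) ∈ T := by
    have := hcl _ hz (xOne α β hab h2) (by
      rw [xOne_ga, mul_inv_cancel_right]; exact sw_mem_spW)
    rwa [xOne_ga, mul_inv_cancel_right] at this
  have hpair : ∀ a b, a ∈ Q → b ∈ Q → a * a = -1 → b * b = -1 → pair a b ∈ T := by
    intro a b ha hb ha2 hb2
    have h1 := hcomm _ hsw (pair 1 b) (pair_mem (one_mem _) hb)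
    rw [pair_inv, inv_one, mul_assoc (pair 1 b), sw_pair, ← mul_assoc, pair_mul, sw_inv,
      mul_assoc, sw_mul_self, mul_one, one_mul, mul_one] at h1
    obtain ⟨h, hh⟩ := exists_conj_of_sq h2 (inv_sq hb2) ha2
    have key : pair h 1 * pair b⁻¹ b * (pair h 1)⁻¹ = pair a b := by
      rw [pair_inv, pair_mul, pair_mul, inv_one, one_mul, mul_one, hh]
    rw [← key]
    exact hcl _ h1 _ (key ▸ pair_mem ha hb)
  have hleft : ∀ a ∈ Q, a * a = -1 → pair a 1 ∈ T := by
    intro a ha ha2
    have hij : iS * (jS α β hab)⁻¹ * (iS * (jS α β hab)⁻¹) = -1 := by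
      rw [inv_eq_neg jS_sq, mul_neg, neg_mul_neg, mul_assoc, ← mul_assoc (jS α β hab), jS_iS,
        neg_mul, mul_neg, ← mul_assoc, ← mul_assoc, iS_sq, neg_mul, one_mul, neg_mul, jS_sq,
        neg_neg]
    have h1 := mul_mem (hpair iS iS hi hi iS_sq iS_sq)
      (inv_mem (hpair (jS α β hab) iS hj hi jS_sq iS_sq))
    rw [pair_inv, pair_mul, mul_inv_cancel] at h1
    obtain ⟨h, hh⟩ := exists_conj_of_sq h2 hij ha2
    have key : pair h 1 * pair (iS * (jS α β hab)⁻¹) 1 * (pair h 1)⁻¹ = pair a 1 := by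
      rw [pair_inv, pair_mul, pair_mul, inv_one, one_mul, mul_one, hh]
    rw [← key]
    exact hcl _ h1 _ (key ▸ pair_mem ha (one_mem _))
  have hleft' : ∀ a ∈ Q, pair a 1 ∈ T := by
    intro a ha
    have : a ∈ T.comap ((diagHom 2 F).comp (MonoidHom.mulSingle (fun _ : Fin 2 => SL(2, F)) 0)) := by
      refine (Subgroup.closure_le _).2 (fun y hy => ?_) (hgen ha)
      show diagHom 2 F (Pi.mulSingle 0 y) ∈ T
      have e : (Pi.mulSingle 0 y : Fin 2 → SL(2, F)) = ![y, 1] := by
        funext i; fin_cases i <;> simp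
      rw [e]; exact hleft y hy.1 hy.2
    have e : (Pi.mulSingle 0 a : Fin 2 → SL(2, F)) = ![a, 1] := by
      funext i; fin_cases i <;> simp
    rw [Subgroup.mem_comap] at this
    simp only [MonoidHom.coe_comp, Function.comp_apply, MonoidHom.mulSingle_apply, e] at this
    exact this
  have hpair' : ∀ a b, a ∈ Q → b ∈ Q → pair a b ∈ T := by
    intro a b ha hb
    have h1 := hnormal _ (hleft' b hb) sw sw_mem_spW
    rw [sw_pair, sw_inv, mul_assoc, sw_mul_self, mul_one] at h1
    have := mul_mem (hleft' a ha) h1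
    rwa [pair_mul, mul_one, one_mul] at this
  rintro y ⟨a, ha, b, hb, rfl | rfl⟩
  exacts [hpair' a b ha hb, mul_mem (hpair' a b ha hb) hsw]

/-- The elements normalizing `spW Q`. -/
theorem mem_of_normalizes_spW (h2 : (2 : F) ≠ 0) {α β : F} {hab : α ^ 2 + β ^ 2 = -1}
    (hi : iS ∈ Q) (hj : jS α β hab ∈ Q)
    (hN : ∀ h ∈ Subgroup.normalizer (Q : Set SL(2, F)), ∃ n : ℕ, gS α β hab h2 ^ n * h ∈ Q ∧
      (n = 0 ∨ gS α β hab h2 ∈ Subgroup.normalizer (Q : Set SL(2, F))))
    {H : Subgroup G₀} (hW : spW Q ≤ H)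
    (hg : gS α β hab h2 ∈ Subgroup.normalizer (Q : Set SL(2, F)) →
      pair (gS α β hab h2) (gS α β hab h2) ∈ H)
    {h : G₀} (hh : h ∈ Subgroup.normalizer ((spW Q : Subgroup G₀) : Set G₀)) : h ∈ H := by
  have hm1 : (-1 : SL(2, F)) ∈ Q := by rw [← iS_sq]; exact mul_mem hi hi
  have hsign : ∀ w ∈ spW Q, ∀ g ∈ ({ga} : Set G₀),
      w * g * w⁻¹ = g ∨ w * g * w⁻¹ = negOne * g := by
    rintro _ ⟨a, -, b, -, rfl | rfl⟩ g rfl
    · left
      rw [ga, pair_inv, pair_mul, pair_mul, mul_one, mul_inv_cancel, mul_neg_one, neg_mul,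
        mul_inv_cancel]
    · right
      rw [ga, _root_.mul_inv_rev, sw_inv, mul_assoc (pair a b), sw_pair, ← mul_assoc (pair a b),
        pair_mul, mul_assoc, ← mul_assoc sw, sw_mul_self, one_mul, pair_inv, pair_mul, negOne,
        pair_mul]
      simp
  -- the image of `ga` is `± ga`
  have hy : h * ga * h⁻¹ ∈ spW Q :=
    (Subgroup.mem_normalizer_iff.1 hh _).1 (pair_mem (one_mem _) hm1)
  have hcy : ∀ w ∈ spW Q, w * (h * ga * h⁻¹) * w⁻¹ = h * ga * h⁻¹ ∨
      w * (h * ga * h⁻¹) * w⁻¹ = negOne * (h * ga * h⁻¹) := by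
    intro w hw
    have e : w * (h * ga * h⁻¹) * w⁻¹ = h * (h⁻¹ * w * h * ga * (h⁻¹ * w * h)⁻¹) * h⁻¹ := by group
    rw [e]
    rcases hsign _ ((Subgroup.mem_normalizer_iff''.1 hh w).1 hw) ga rfl with e1 | e1 <;> rw [e1]
    · exact .inl rfl
    · right
      rw [← mul_assoc h negOne, ← negOne_comm, mul_assoc, mul_assoc, ← mul_assoc h]
  have hga : h * ga * h⁻¹ = ga ∨ h * ga * h⁻¹ = negOne * ga := by
    have hsplit : ∀ c ∈ Q, ∀ a b : SL(2, F), h * ga * h⁻¹ = pair a b → Commute c a ∧ Commute c b := by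
      intro c hc a b e
      have r1 := hcy (pair c 1) (pair_mem hc (one_mem _))
      have r2 := hcy (pair 1 c) (pair_mem (one_mem _) hc)
      rw [e, pair_inv, pair_mul, pair_mul, inv_one, one_mul, mul_one, negOne, pair_mul,
        neg_one_mul, neg_one_mul] at r1 r2
      constructor
      · refine mul_inv_eq_iff_eq_mul.1 ?_
        rcases r1 with r | r
        · exact (pair_inj r).1
        · exfalso
          have h1 := (pair_inj r).2
          exact neg_one_ne_one h2 (mul_eq_right (b := b).1 (by rw [neg_one_mul, ← h1]))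
      · refine mul_inv_eq_iff_eq_mul.1 ?_
        rcases r2 with r | r
        · exact (pair_inj r).2
        · exfalso
          have h1 := (pair_inj r).1
          exact neg_one_ne_one h2 (mul_eq_right (b := a).1 (by rw [neg_one_mul, ← h1]))
    obtain ⟨a, -, b, -, e | e⟩ := hy
    · obtain ⟨a1, b1⟩ := hsplit _ hi a b e
      obtain ⟨a2, b2⟩ := hsplit _ hj a b e
      have hne : h * ga * h⁻¹ ≠ 1 ∧ h * ga * h⁻¹ ≠ negOne := by
        constructor <;> intro e'
        · rw [mul_inv_eq_one, mul_eq_left, ga] at e'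
          exact neg_one_ne_one h2 (pair_inj (e'.trans pair_one.symm)).2
        · rw [mul_inv_eq_iff_eq_mul, negOne_comm, mul_right_inj, ga, negOne] at e'
          exact neg_one_ne_one h2 (pair_inj e').1.symm
      rcases eq_one_or_of_commute h2 a1.symm a2.symm with rfl | rfl <;>
        rcases eq_one_or_of_commute h2 b1.symm b2.symm with rfl | rfl
      · exact absurd (e.trans pair_one) hne.1
      · exact .inl e
      · right; rw [e, negOne, ga, pair_mul, neg_mul_neg, one_mul, mul_one]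
      · exact absurd e hne.2
    · exfalso
      have r := hcy (pair iS 1) (pair_mem hi (one_mem _))
      rw [e, pair_inv, inv_one, ← mul_assoc, pair_mul, mul_assoc, sw_pair, ← mul_assoc, pair_mul,
        negOne, ← mul_assoc, pair_mul, one_mul, mul_one] at r
      rcases r with r | r
      · rw [mul_left_inj] at r
        exact (ne_scalar_of_sq h2 iS_sq).1 (mul_eq_right.1 (pair_inj r).1)
      · rw [mul_left_inj] at r
        exact (ne_scalar_of_sq h2 iS_sq).2 (by
          have := (pair_inj r).1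
          rwa [mul_left_inj] at this)
  have key : ∀ h : G₀, h ∈ Subgroup.normalizer ((spW Q : Subgroup G₀) : Set G₀) →
      h * ga = ga * h → h ∈ H := by
    intro h hh hc
    obtain ⟨a, b, rfl⟩ := exists_pair_of_commute_ga h2 hc
    have hfin : Subgroup.normalizer (Q : Set SL(2, F)) ≥ Subgroup.zpowers a ⊔ Subgroup.zpowers b := by
      refine sup_le (Subgroup.zpowers_le.2 ?_) (Subgroup.zpowers_le.2 ?_) <;>
        refine Subgroup.mem_normalizer_iff.2 fun y => ⟨fun hy => ?_, fun hy => ?_⟩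
      · have := (Subgroup.mem_normalizer_iff.1 hh _).1 (pair_mem hy (one_mem Q))
        rw [pair_inv, pair_mul, pair_mul] at this
        exact (pair_mem_iff.1 this).1
      · have := (Subgroup.mem_normalizer_iff''.1 hh _).1 (pair_mem hy (one_mem Q))
        rw [pair_inv, pair_mul, pair_mul] at this
        have := (pair_mem_iff.1 this).1
        rwa [← mul_assoc, ← mul_assoc, inv_mul_cancel, one_mul, inv_mul_cancel_right] at this
      · have := (Subgroup.mem_normalizer_iff.1 hh _).1 (pair_mem (one_mem Q) hy)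
        rw [pair_inv, pair_mul, pair_mul] at this
        exact (pair_mem_iff.1 this).2
      · have := (Subgroup.mem_normalizer_iff''.1 hh _).1 (pair_mem (one_mem Q) hy)
        rw [pair_inv, pair_mul, pair_mul] at this
        have := (pair_mem_iff.1 this).2
        rwa [← mul_assoc, ← mul_assoc, inv_mul_cancel, one_mul, inv_mul_cancel_right] at this
    have hab' : a * b⁻¹ ∈ Q := by
      have := (Subgroup.mem_normalizer_iff.1 hh _).1 (sw_mem_spW (Q := Q))
      rw [pair_inv, mul_assoc, sw_pair, ← mul_assoc, pair_mul, pair_sw_mem_iff] at this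
      exact this.1
    obtain ⟨n, hn, hn'⟩ := hN b (hfin (Subgroup.mem_sup_right (Subgroup.mem_zpowers b)))
    have hsplit : pair a b = pair (a * b⁻¹) 1 * pair b b := by
      rw [pair_mul, inv_mul_cancel_right, one_mul]
    rw [hsplit]
    refine mul_mem (hW (pair_mem hab' (one_mem _))) ?_
    rcases hn' with rfl | hgN
    · rw [pow_zero, one_mul] at hn
      exact hW (pair_mem hn hn)
    · have hp : ∀ m : ℕ, pair (gS α β hab h2 ^ m) (gS α β hab h2 ^ m) ∈ H := by
        intro m
        induction m with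
        | zero => rw [pow_zero, pair_one]; exact one_mem _
        | succ m ih => rw [pow_succ, ← pair_mul]; exact mul_mem ih (hg hgN)
      have e : pair b b = (pair (gS α β hab h2 ^ n) (gS α β hab h2 ^ n))⁻¹ *
          pair (gS α β hab h2 ^ n * b) (gS α β hab h2 ^ n * b) := by
        rw [pair_inv, pair_mul, inv_mul_cancel_left]
      rw [e]
      exact mul_mem (inv_mem (hp n)) (hW (pair_mem hn hn))
  rcases hga with e | e
  · exact key h hh (mul_inv_eq_iff_eq_mul.1 e)
  · have h' : sw * h ∈ H := by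
      refine key _ (mul_mem (Subgroup.le_normalizer sw_mem_spW) hh) (mul_inv_eq_iff_eq_mul.1 ?_)
      rw [show sw * h * ga * (sw * h)⁻¹ = sw * (h * ga * h⁻¹) * sw⁻¹ by group, e, ← mul_assoc,
        ← negOne_comm, mul_assoc negOne, mul_assoc negOne, sw_ga, ← mul_assoc, negOne_mul_self,
        one_mul]
    have := mul_mem (hW sw_mem_spW) h'
    rwa [← mul_assoc, sw_mul_self, one_mul] at this

end Cfsg.Agent.Linear.SpFour
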