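import Cfsg.Agent.Lib.Linear.SpUnipotent

/-!
# Minimal parabolic data for `spGL m F`
* `spShortR k k'`, `spLongR l` : radicals of the minimal parabolics, self-centralizing up to sign
* `torus_mem_closure` : the diagonal torus is generated by coroots, each a product of six
  `p`-elements normalising the corresponding radical
-/

set_option autoImplicit false

open Matrix

namespace Cfsg.Agent.Linear

variable {m : ℕ} {F : Type*} [Field F]

theorem blkA_mul (g h : Cfsg.spGL m F) : blkA (g * h) = blkA g * blkA h + blkB g * blkC h :=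
  (blk_mul g h).1

theorem blkB_mul (g h : Cfsg.spGL m F) : blkB (g * h) = blkA g * blkB h + blkB g * blkD h :=
  (blk_mul g h).2.1

theorem blkC_mul (g h : Cfsg.spGL m F) : blkC (g * h) = blkC g * blkA h + blkD g * blkC h :=
  (blk_mul g h).2.2.1

theorem blkD_mul (g h : Cfsg.spGL m F) : blkD (g * h) = blkC g * blkB h + blkD g * blkD h :=
  (blk_mul g h).2.2.2

/-- The central element `-1`. -/
noncomputable def spNegOne (m : ℕ) (F : Type*) [Field F] : Cfsg.spGL m F := spLevi (-1)

theorem spNegOne_smul (x : Fin m ⊕ Fin m → F) : spNegOne m F • x = -x := by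
  rw [spNegOne, spGL_smul_eq, spGL_blocks, blkA_spLevi, blkB_spLevi, blkC_spLevi, blkD_spLevi,
    inv_neg, inv_one, Units.val_neg, Units.val_one, Matrix.transpose_neg, Matrix.transpose_one,
    Matrix.fromBlocks_mulVec]
  funext y
  rcases y with y | y <;> simp [Matrix.neg_mulVec]

theorem spNegOne_mem_center : spNegOne m F ∈ Subgroup.center (Cfsg.spGL m F) :=
  Subgroup.mem_center_iff.2 fun g => spGL_ext fun x => by
    rw [mul_smul, mul_smul, spNegOne_smul, spNegOne_smul, smul_neg]

theorem spNegOne_mul_self : spNegOne m F * spNegOne m F = 1 :=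
  spGL_ext fun x => by simp [mul_smul, spNegOne_smul]

theorem spTv_inj {u v : Fin m ⊕ Fin m → F} (hv : v ≠ 0) (h : spTv u (1 : F) = spTv v 1) :
    u = v ∨ u = -v := by
  obtain ⟨w, hw⟩ := exists_sympForm_ne_zero hv
  have hw' : Cfsg.sympForm m F w v ≠ 0 := by rwa [sympForm_swap, neg_ne_zero]
  have hx := congrArg (fun g : Cfsg.spGL m F => g • w) h
  simp only [spTv_smul, one_mul, add_right_inj] at hx
  set a := Cfsg.sympForm m F w u
  set b := Cfsg.sympForm m F w v
  have ha : a ≠ 0 := fun e => by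
    rw [e, zero_smul] at hx
    exact (smul_ne_zero hw' hv) hx.symm
  have hu : u = (b / a) • v := by
    rw [div_eq_inv_mul, mul_smul, ← hx, inv_smul_smul₀ ha]
  have hab : a * a = b * b := by
    have h1 : a = (b / a) * b := by
      have := congrArg (Cfsg.sympForm m F w) hu
      rwa [sympForm_smul_right] at this
    field_simp at h1
    linear_combination h1
  rcases mul_self_eq_mul_self_iff.1 hab with e | e
  · left; rw [hu, e, div_self (e ▸ ha), one_smul]
  · right
    have hb : b ≠ 0 := hw'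
    rw [hu, e, div_neg, div_self hb, neg_smul, one_smul]

theorem isSymm_single_diag (i : Fin m) (c : F) : (Matrix.single i i c).IsSymm :=
  Matrix.transpose_single ..

theorem isSymm_vecMulVec_self (v : Fin m → F) : (Matrix.vecMulVec v v).IsSymm :=
  Matrix.transpose_vecMulVec ..

theorem spTv_single_inl (i : Fin m) (c : F) :
    spTv (Pi.single (.inl i) 1) c =
      spSiegel (Matrix.single i i c) (isSymm_single_diag i c) := by
  refine spGL_ext fun x => ?_
  have hf : Cfsg.sympForm m F x (Pi.single (.inl i) 1) = x (.inr i) := by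
    rw [sympForm_swap, sympForm_single_inl_left, neg_neg]
  rw [spTv_smul, hf, spGL_smul_eq, spGL_blocks, blkA_spSiegel, blkB_spSiegel, blkC_spSiegel,
    blkD_spSiegel, Matrix.fromBlocks_mulVec]
  funext y
  rcases y with y | y
  · by_cases hy : y = i <;> simp [Matrix.single_mulVec, hy]
  · simp

theorem spTv_add_inl (i j : Fin m) :
    spTv (Pi.single (.inl i) 1 + Pi.single (.inl j) 1) (1 : F) =
      spSiegel (Matrix.vecMulVec (Pi.single i 1 + Pi.single j 1) (Pi.single i 1 + Pi.single j 1))
        (isSymm_vecMulVec_self _) := by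
  refine spGL_ext fun x => ?_
  have hf : Cfsg.sympForm m F x (Pi.single (.inl i) 1 + Pi.single (.inl j) 1) =
      x (.inr i) + x (.inr j) := by
    rw [sympForm_add_right, sympForm_swap, sympForm_single_inl_left, neg_neg,
      sympForm_swap, sympForm_single_inl_left, neg_neg]
  rw [spTv_smul, hf, spGL_smul_eq, spGL_blocks, blkA_spSiegel, blkB_spSiegel, blkC_spSiegel,
    blkD_spSiegel, Matrix.fromBlocks_mulVec]
  funext y
  rcases y with y | y
  · simp [Matrix.vecMulVec_mulVec, Pi.single_apply, add_dotProduct]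
  · simp

/-- An element commuting with the transvections on the span of `eL i`, `i ∈ I`, fixes those
vectors up to a common sign. -/
theorem exists_sign_fix (I : Set (Fin m)) {g : Cfsg.spGL m F}
    (h1 : ∀ i ∈ I, g * spTv (Pi.single (.inl i) 1) (1 : F) * g⁻¹ = spTv (Pi.single (.inl i) 1) 1)
    (h2 : ∀ i ∈ I, ∀ j ∈ I, i ≠ j →
      g * spTv (Pi.single (.inl i) 1 + Pi.single (.inl j) 1) (1 : F) * g⁻¹ =
        spTv (Pi.single (.inl i) 1 + Pi.single (.inl j) 1) 1) :
    ∃ z ∈ ({1, spNegOne m F} : Set (Cfsg.spGL m F)), ∀ i ∈ I,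
      (z * g) • (Pi.single (.inl i) 1 : Fin m ⊕ Fin m → F) = Pi.single (.inl i) 1 := by
  have hsign : ∀ v : Fin m ⊕ Fin m → F, v ≠ 0 → g * spTv v (1 : F) * g⁻¹ = spTv v 1 →
      g • v = v ∨ g • v = -v := fun v hv h => spTv_inj hv (spTv_conj g v 1 ▸ h)
  have hne : ∀ i : Fin m, (Pi.single (.inl i) 1 : Fin m ⊕ Fin m → F) ≠ 0 := fun i => by simp
  rcases I.eq_empty_or_nonempty with h0 | ⟨i₀, hi₀⟩
  · exact ⟨1, by simp, fun i hi => by rw [h0] at hi; simp at hi⟩
  have key : ∀ i ∈ I, ∀ ε : F,
      g • (Pi.single (.inl i₀) 1 : Fin m ⊕ Fin m → F) = ε • Pi.single (.inl i₀) 1 →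
      g • (Pi.single (.inl i) 1 : Fin m ⊕ Fin m → F) = ε • Pi.single (.inl i) 1 := by
    intro i hi ε hε
    by_cases hii : i = i₀
    · rw [hii]; exact hε
    obtain ⟨a, ha⟩ : ∃ a : F, g • (Pi.single (.inl i) 1 : Fin m ⊕ Fin m → F) =
        a • (Pi.single (.inl i) 1 : Fin m ⊕ Fin m → F) := by
      rcases hsign _ (hne i) (h1 i hi) with h | h
      · exact ⟨1, by rw [h, one_smul]⟩
      · exact ⟨-1, by rw [h, neg_smul, one_smul]⟩
    have hv : (Pi.single (.inl i) 1 + Pi.single (.inl i₀) 1 : Fin m ⊕ Fin m → F) ≠ 0 := fun e => by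
      simpa [hii] using congrFun e (.inl i)
    let u₁ : Fin m ⊕ Fin m → F := Pi.single (.inl i) 1
    let u₂ : Fin m ⊕ Fin m → F := Pi.single (.inl i₀) 1
    obtain ⟨b, hb⟩ : ∃ b : F, g • (u₁ + u₂) = b • (u₁ + u₂) := by
      rcases hsign _ hv (h2 i hi i₀ hi₀ hii) with h | h
      · exact ⟨1, by rw [h, one_smul]⟩
      · exact ⟨-1, by rw [h, neg_smul, one_smul]⟩
    simp only [u₁, u₂, smul_add, ha, hε] at hb
    have e1 := congrFun hb (.inl i)
    have e2 := congrFun hb (.inl i₀)
    simp [hii, Ne.symm hii] at e1 e2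
    rw [ha, e1, e2]
  rcases hsign _ (hne i₀) (h1 i₀ hi₀) with h | h
  · refine ⟨1, by simp, fun i hi => ?_⟩
    rw [one_mul, key i hi 1 (by rw [h, one_smul]), one_smul]
  · refine ⟨spNegOne m F, by simp, fun i hi => ?_⟩
    rw [mul_smul, key i hi (-1) (by rw [h, neg_smul, one_smul]), spNegOne_smul, neg_smul, one_smul,
      neg_neg]

/-- Lower Siegel element supported at `(l, l)`. -/
noncomputable def spLow (l : Fin m) (c : F) : Cfsg.spGL m F :=
  spOfBlocks 1 0 (Matrix.single l l c) 1 (by simp [Matrix.transpose_single]) (by simp) (by simp)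

@[simp] theorem blkA_spLow (l : Fin m) (c : F) : blkA (spLow l c) = 1 :=
  toBlocks_fromBlocks₁₁ ..
@[simp] theorem blkB_spLow (l : Fin m) (c : F) : blkB (spLow l c) = 0 :=
  toBlocks_fromBlocks₁₂ ..
@[simp] theorem blkC_spLow (l : Fin m) (c : F) : blkC (spLow l c) = Matrix.single l l c :=
  toBlocks_fromBlocks₂₁ ..
@[simp] theorem blkD_spLow (l : Fin m) (c : F) : blkD (spLow l c) = 1 :=
  toBlocks_fromBlocks₂₂ ..

theorem spLow_add (l : Fin m) (c d : F) : spLow l (c + d) = spLow l c * spLow l d :=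
  spGL_ext_blk (by simp [blkA_mul]) (by simp [blkB_mul])
    (by simp [blkC_mul, Matrix.single_add]) (by simp [blkD_mul])

theorem spLow_inv (l : Fin m) (c : F) : (spLow l c)⁻¹ = spLow l (-c) := by
  refine inv_eq_of_mul_eq_one_right ?_
  rw [← spLow_add, add_neg_cancel]
  exact spGL_ext_blk (by simp [blk_one.1]) (by simp [blk_one.2.1]) (by simp [blk_one.2.2.1])
    (by simp [blk_one.2.2.2])

theorem pow_char_eq_one_of_add {G : Type*} [Group G] (p : ℕ) [CharP F p] (φ : F → G)
    (h : ∀ a b, φ (a + b) = φ a * φ b) (a : F) : φ a ^ p = 1 := by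
  have h0 : φ 0 = 1 := by have := h 0 0; rw [add_zero] at this; exact mul_eq_left.1 this.symm
  have : ∀ n : ℕ, φ ((n : F) * a) = φ a ^ n := by
    intro n
    induction n with
    | zero => simp [h0]
    | succ n ih => rw [Nat.cast_succ, add_mul, one_mul, h, ih, pow_succ]
  rw [← this, CharP.cast_eq_zero, zero_mul, h0]

/-- The coroot `λ` at `k`, `λ⁻¹` at `k'`, inside the Levi subgroup. -/
def shortCoroot (k k' : Fin m) (a : Fˣ) : Fin m → Fˣ := Pi.mulSingle k a * Pi.mulSingle k' a⁻¹

theorem spLevi_shortCoroot {k k' : Fin m} (h : k ≠ k') (a : Fˣ) :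
    spLevi (glDiag (shortCoroot k k' a)) =
      spLevi (glElem h (a : F)) * spLevi (glElem h.symm (-(a : F)⁻¹)) * spLevi (glElem h (a : F)) *
        spLevi (glElem h (-1)) * spLevi (glElem h.symm 1) * spLevi (glElem h (-1)) := by
  simp only [glElem, ← map_mul]
  congr 1
  rw [← diag2n_eq h a.ne_zero]
  refine Units.ext ?_
  rw [glDiag_val]
  change _ = (SpecialLinearGroup.diag2n h (a : F) a.ne_zero).1
  rw [SpecialLinearGroup.diag2n_coe]
  congr 1
  funext i
  by_cases hi : i = k
  · subst hi; simp [shortCoroot, h]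
  · by_cases hi' : i = k'
    · subst hi'; simp [shortCoroot, Ne.symm h]
    · simp [shortCoroot, hi, hi']

theorem spLevi_mulSingle (l : Fin m) (a : Fˣ) :
    spLevi (glDiag (Pi.mulSingle l a)) =
      spSiegel (Matrix.single l l (a : F)) (isSymm_single_diag l _) * spLow l (-(a : F)⁻¹) *
        spSiegel (Matrix.single l l (a : F)) (isSymm_single_diag l _) *
        spSiegel (Matrix.single l l (-1 : F)) (isSymm_single_diag l _) * spLow l 1 *
        spSiegel (Matrix.single l l (-1 : F)) (isSymm_single_diag l _) := by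
  have ha := a.ne_zero
  refine spGL_ext_blk ?_ ?_ ?_ ?_
  all_goals
    simp only [blkA_mul, blkB_mul, blkC_mul, blkD_mul, blkA_spSiegel, blkB_spSiegel, blkC_spSiegel,
      blkD_spSiegel, blkA_spLow, blkB_spLow, blkC_spLow, blkD_spLow, blkA_spLevi, blkB_spLevi,
      blkC_spLevi, blkD_spLevi, ← map_inv, glDiag_val]
    ext x y
    simp [Matrix.mul_add, Matrix.add_mul, Matrix.single_mul_single_same, Matrix.diagonal_apply,
      Matrix.one_apply, Matrix.single_apply, Pi.mulSingle_apply]
    by_cases hx : x = l <;> by_cases hy : y = l <;> by_cases hxy : x = y <;>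
      simp_all [eq_comm (a := l)] <;> (try field_simp) <;> (try ring) <;>
      exact Ne.symm hxy

variable [Finite F]

theorem spBorelU_blkD {g : Cfsg.spGL m F} (hg : g ∈ spBorelU m F) {i j : Fin m} (h : i ≤ j) :
    blkD g i j = if i = j then 1 else 0 := by
  obtain ⟨A, B, hB, hA, rfl⟩ := exists_spLevi_mul_spSiegel g hg.1
  have hu := inv_mem (spLevi_mem_spBorelU (A := A) (hA ▸ hg.2))
  rw [← map_inv] at hu
  have h2 := hu.2 j i h
  rw [blkA_spLevi] at h2
  rw [blkD_mul, blkC_spLevi, Matrix.zero_mul, zero_add, blkD_spSiegel, Matrix.mul_one, blkD_spLevi,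
    Matrix.transpose_apply, h2]
  simp [eq_comm]

/-- Radical of the minimal parabolic for the short simple root `(k, k')`. -/
def spShortR (k k' : Fin m) (h : k'.1 = k.1 + 1) : Subgroup (Cfsg.spGL m F) :=
  subgroupOfSubmonoidFinite
    { carrier := {g | g ∈ spBorelU m F ∧ blkA g k k' = 0}
      one_mem' := ⟨one_mem _, by
        rw [blk_one.1]; exact Matrix.one_apply_ne (fun e => by simp [e] at h)⟩
      mul_mem' := fun {g g'} hg hg' => by
        refine ⟨mul_mem hg.1 hg'.1, ?_⟩
        rw [blkA_mul, hg'.1.1, Matrix.mul_zero, add_zero, Matrix.mul_apply]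
        refine Finset.sum_eq_zero fun i _ => ?_
        by_cases h1 : i = k
        · subst h1; rw [hg'.2, mul_zero]
        · by_cases h2 : i = k'
          · subst h2; rw [hg.2, zero_mul]
          · rcases lt_or_ge i k with h3 | h3
            · rw [hg.1.2 k i h3.le, if_neg (Ne.symm h1), zero_mul]
            · have h4 : k' ≤ i := by
                have : k.1 ≠ i.1 := fun e => h1 (Fin.ext e.symm)
                rw [Fin.le_def] at h3 ⊢; omega
              rw [hg'.1.2 i k' h4, if_neg h2, mul_zero] }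

theorem mem_spShortR {k k' : Fin m} {h : k'.1 = k.1 + 1} {g : Cfsg.spGL m F} :
    g ∈ spShortR k k' h ↔ g ∈ spBorelU m F ∧ blkA g k k' = 0 := Iff.rfl

/-- Radical of the minimal parabolic for the long simple root. -/
def spLongR (l : Fin m) (h : l.1 + 1 = m) : Subgroup (Cfsg.spGL m F) :=
  subgroupOfSubmonoidFinite
    { carrier := {g | g ∈ spBorelU m F ∧ blkB g l l = 0}
      one_mem' := ⟨one_mem _, by simp [blk_one.2.1]⟩
      mul_mem' := fun {g g'} hg hg' => by
        refine ⟨mul_mem hg.1 hg'.1, ?_⟩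
        have hle : ∀ i : Fin m, i ≤ l := fun i => by rw [Fin.le_def]; omega
        rw [blkB_mul, Matrix.add_apply, Matrix.mul_apply, Matrix.mul_apply]
        simp [hg.1.2 l _ (hle _), spBorelU_blkD hg'.1 (hle _), hg.2, hg'.2, ite_mul] }

theorem mem_spLongR {l : Fin m} {h : l.1 + 1 = m} {g : Cfsg.spGL m F} :
    g ∈ spLongR l h ↔ g ∈ spBorelU m F ∧ blkB g l l = 0 := Iff.rfl

theorem mem_normalizer_of_conj_mem {G : Type*} [Group G] [Finite G] {R : Subgroup G} {x : G}
    (h : ∀ r ∈ R, x * r * x⁻¹ ∈ R) : x ∈ Subgroup.normalizer (R : Set G) := by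
  refine Subgroup.mem_normalizer_iff.2 fun r => ⟨h r, fun hr => ?_⟩
  let Φ : R → R := fun r => ⟨x * r.1 * x⁻¹, h r.1 r.2⟩
  have hi : Function.Injective Φ := fun a b e => Subtype.ext (by
    have := congrArg Subtype.val e
    simpa [Φ] using this)
  obtain ⟨⟨r', hr'⟩, e⟩ := Finite.injective_iff_surjective.1 hi ⟨_, hr⟩
  have : r' = r := by simpa [Φ] using congrArg Subtype.val e
  exact this ▸ hr'

theorem spLevi_glElem_normalizes_shortR {k k' : Fin m} (h : k'.1 = k.1 + 1) {a b : Fin m}
    (hab : a ≠ b) (hk : (a = k ∧ b = k') ∨ (a = k' ∧ b = k)) (t : F) :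
    spLevi (glElem hab t) ∈ Subgroup.normalizer ((spShortR k k' h : Subgroup (Cfsg.spGL m F)) : Set (Cfsg.spGL m F)) := by
  refine mem_normalizer_of_conj_mem fun g hg => ?_
  obtain ⟨⟨hC, hA⟩, hkk⟩ := hg
  have hv : ((glElem hab t)⁻¹).1 = Matrix.transvection a b (-t) := by
    rw [glElem, ← map_inv, SpecialLinearGroup.transvection_inv]; rfl
  have hC' : blkC (spLevi (glElem hab t) * g * (spLevi (glElem hab t))⁻¹) = 0 := by
    have hi : blkC (spLevi (glElem hab t))⁻¹ = 0 := by rw [← map_inv]; exact blkC_spLevi _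
    simp [blkC_mul, hi, hC]
  have hA' : ∀ i j, blkA (spLevi (glElem hab t) * g * (spLevi (glElem hab t))⁻¹) i j =
      blkA g i j + (if i = a then t * blkA g b j else 0) -
        (if j = b then t * (blkA g i a + (if i = a then t * blkA g b a else 0)) else 0) := by
    intro i j
    rw [← map_inv]
    simp only [blkA_mul, blkA_spLevi, blkB_spLevi, blkC_spLevi, Matrix.zero_mul, Matrix.mul_zero,
      add_zero, hv]
    change (Matrix.transvection a b t * blkA g * Matrix.transvection a b (-t)) i j = _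
    by_cases hi : i = a <;> by_cases hj : j = b
    · subst hi hj
      simp only [Matrix.mul_transvection_apply_same, Matrix.transvection_mul_apply_same, if_true]
      ring
    · subst hi
      simp only [Matrix.mul_transvection_apply_of_ne _ _ _ _ hj,
        Matrix.transvection_mul_apply_same, if_true, if_neg hj]
      ring
    · subst hj
      simp only [Matrix.mul_transvection_apply_same,
        Matrix.transvection_mul_apply_of_ne _ _ _ _ hi, if_true, if_neg hi]
      ring
    · simp only [Matrix.mul_transvection_apply_of_ne _ _ _ _ hj,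
        Matrix.transvection_mul_apply_of_ne _ _ _ _ hi, if_neg hi, if_neg hj]
      ring
  refine mem_spShortR.2 ⟨mem_spBorelU.2 ⟨hC', fun i j hij => ?_⟩, ?_⟩
  · rw [hA']
    grind [IsUpperUni]
  · rw [hA']
    grind [IsUpperUni]

theorem spLow_normalizes_longR {l : Fin m} (h : l.1 + 1 = m) (c : F) :
    spLow l c ∈ Subgroup.normalizer ((spLongR l h : Subgroup (Cfsg.spGL m F)) : Set (Cfsg.spGL m F)) := by
  refine mem_normalizer_of_conj_mem fun g hg => ?_
  obtain ⟨hgU, hB⟩ := hg
  obtain ⟨hC, hA⟩ := hgU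
  have hle : ∀ i : Fin m, i ≤ l := fun i => by rw [Fin.le_def]; omega
  rw [spLow_inv]
  refine mem_spLongR.2 ⟨mem_spBorelU.2 ⟨?_, fun i j hij => ?_⟩, ?_⟩
  · ext i j
    simp only [blkC_mul, blkA_mul, blkD_mul, blkA_spLow, blkB_spLow, blkC_spLow, blkD_spLow, hC]
    by_cases hi : i = l <;> by_cases hj : j = l
    · subst hi hj
      simp [Matrix.add_mul, hA j j le_rfl, spBorelU_blkD ⟨hC, hA⟩ (le_refl j), hB,
        Matrix.single_neg, Matrix.mul_single_apply_same, Matrix.single_mul_apply_same]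
    · subst hi
      simp [Matrix.add_mul, hA i j (hle j), Ne.symm hj,
        Matrix.single_neg, Matrix.single_mul_apply_same, hj]
    · subst hj
      simp [Matrix.add_mul, spBorelU_blkD ⟨hC, hA⟩ (hle i), hi, hB,
        Matrix.single_neg, Matrix.mul_single_apply_same]
    · simp [Matrix.add_mul, hi, hj, hB, Matrix.single_neg]
  · simp only [blkA_mul, blkB_mul, blkA_spLow, blkB_spLow, blkC_spLow, Matrix.one_mul,
      Matrix.zero_mul, Matrix.mul_one, add_zero]
    by_cases hj : j = l
    · subst hj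
      have hi : i = j := le_antisymm (hle i) hij
      subst hi
      simp [Matrix.mul_single_apply_same, hB, hA i i le_rfl]
    · simp [hj, hA i j hij]
  · simp [blkA_mul, blkB_mul, hB]

theorem centralizer_shortR {k k' : Fin m} (h : k'.1 = k.1 + 1) {g : Cfsg.spGL m F}
    (hg : ∀ r ∈ spShortR (F := F) k k' h, g * r * g⁻¹ = r) :
    ∃ z ∈ ({1, spNegOne m F} : Set (Cfsg.spGL m F)), z * g ∈ spShortR k k' h := by
  have hne : k ≠ k' := fun e => by simp [e] at h
  have hs : ∀ B (hB : Matrix.IsSymm B), spSiegel B hB ∈ spShortR (F := F) k k' h := fun B hB =>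
    ⟨spSiegel_mem_spBorelU hB, by rw [blkA_spSiegel]; exact Matrix.one_apply_ne hne⟩
  obtain ⟨z, hz, hfix⟩ := exists_sign_fix (F := F) (g := g) Set.univ
    (fun i _ => by rw [spTv_single_inl]; exact hg _ (hs _ _))
    (fun i _ j _ _ => by rw [spTv_add_inl]; exact hg _ (hs _ _))
  have hA : blkA (z * g) = 1 := by
    ext i j
    have := congrFun ((spGL_mulVec_inl (z * g) j).symm.trans (hfix j trivial)) (.inl i)
    simpa [Pi.single_apply, Matrix.one_apply] using this
  have hC : blkC (z * g) = 0 := by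
    ext i j
    have := congrFun ((spGL_mulVec_inl (z * g) j).symm.trans (hfix j trivial)) (.inr i)
    simpa [Pi.single_apply] using this
  obtain ⟨B, hB, e⟩ := exists_eq_spSiegel_of_blk (z * g) hA hC
  exact ⟨z, hz, e ▸ hs B hB⟩

theorem centralizer_longR (hm : 2 ≤ m) {l : Fin m} (h : l.1 + 1 = m) {g : Cfsg.spGL m F}
    (hg : ∀ r ∈ spLongR (F := F) l h, g * r * g⁻¹ = r) :
    ∃ z ∈ ({1, spNegOne m F} : Set (Cfsg.spGL m F)), z * g ∈ spLongR l h := by
  have hle : ∀ i : Fin m, i ≤ l := fun i => by rw [Fin.le_def]; omega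
  have hs : ∀ B (hB : Matrix.IsSymm B), B l l = 0 → spSiegel B hB ∈ spLongR (F := F) l h :=
    fun B hB h0 => ⟨spSiegel_mem_spBorelU hB, by rw [blkB_spSiegel]; exact h0⟩
  obtain ⟨z, hz, hfix⟩ := exists_sign_fix (F := F) (g := g) {i : Fin m | i ≠ l}
    (fun i hi => by
      rw [spTv_single_inl]; exact hg _ (hs _ _ (by simp [Matrix.single_apply, Set.mem_setOf.1 hi])))
    (fun i hi j hj _ => by
      rw [spTv_add_inl]
      exact hg _ (hs _ _ (by
        simp [Matrix.vecMulVec_apply, Ne.symm (Set.mem_setOf.1 hi), Ne.symm (Set.mem_setOf.1 hj)])))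
  have hzc : z ∈ Subgroup.center (Cfsg.spGL m F) := by
    rcases hz with rfl | rfl
    · exact one_mem _
    · exact spNegOne_mem_center
  set g' := z * g with hg'
  have hcomm : ∀ r ∈ spLongR l h, g' * r = r * g' := by
    intro r hr
    have := hg r hr
    rw [mul_inv_eq_iff_eq_mul] at this
    rw [hg', mul_assoc, this, ← mul_assoc, (Subgroup.mem_center_iff.1 hzc r).symm, mul_assoc]
  have hA0 : ∀ i j : Fin m, j ≠ l → blkA g' i j = if i = j then 1 else 0 := fun i j hj => by
    have := congrFun ((spGL_mulVec_inl g' j).symm.trans (hfix j hj)) (.inl i)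
    simpa [Pi.single_apply] using this
  have hC0 : ∀ i j : Fin m, j ≠ l → blkC g' i j = 0 := fun i j hj => by
    have := congrFun ((spGL_mulVec_inl g' j).symm.trans (hfix j hj)) (.inr i)
    simpa [Pi.single_apply] using this
  obtain ⟨i₁, hi₁⟩ : ∃ i : Fin m, i ≠ l := by
    haveI : Nontrivial (Fin m) := Fin.nontrivial_iff_two_le.2 hm
    exact exists_ne l
  have hCl : ∀ i : Fin m, blkC g' i l = 0 := by
    intro i
    by_cases hi : i = l
    · subst hi
      have hX := hcomm _ (hs (symPair i₁ i 1) (isSymm_symPair _ _ _) (by simp [symPair, hi₁]))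
      have hb := congrFun (congrFun (congrArg blkA hX) i₁) i
      simp [blkA_mul, symPair, Matrix.add_mul, hi₁] at hb
      exact hb
    · have hX := hcomm _ (hs (symPair i l 1) (isSymm_symPair _ _ _) (by simp [symPair, hi]))
      have hb := congrFun (congrFun (congrArg blkA hX) l) l
      simp [blkA_mul, symPair, Matrix.add_mul, Ne.symm hi] at hb
      exact hb
  have hC : blkC g' = 0 := by
    ext i j
    by_cases hj : j = l
    · subst hj; exact hCl i
    · exact hC0 i j hj
  have hY : spLevi (glElem hi₁ (1 : F)) ∈ spLongR l h := by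
    refine ⟨spLevi_mem_spBorelU fun i j hij => ?_, by simp⟩
    change Matrix.transvection i₁ l (1 : F) i j = _
    have : ¬ (i₁ = i ∧ l = j) := fun e => hi₁ (le_antisymm (hle i₁) (e.1.symm ▸ e.2.symm ▸ hij))
    simp [Matrix.transvection, Matrix.single_apply, this, Matrix.one_apply]
  have hAll : blkA g' l l = 1 := by
    have hb := congrFun (congrFun (congrArg blkA (hcomm _ hY)) i₁) l
    simp [blkA_mul] at hb
    change (blkA g' * Matrix.transvection i₁ l (1 : F)) i₁ l =
      (Matrix.transvection i₁ l (1 : F) * blkA g') i₁ l at hb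
    simp [hA0 i₁ i₁ hi₁] at hb
    linear_combination -hb
  have hU : g' ∈ spBorelU m F := by
    refine ⟨hC, fun i j hij => ?_⟩
    by_cases hj : j = l
    · subst hj
      have : i = j := le_antisymm (hle i) hij
      subst this
      simp [hAll]
    · exact hA0 i j hj
  refine ⟨z, hz, mem_spLongR.2 ⟨hU, ?_⟩⟩
  have hb := congrFun (congrFun (congrArg blkB (hcomm _ hY)) i₁) l
  have hinv : ((glElem hi₁ (1 : F))⁻¹).1ᵀ = Matrix.transvection l i₁ (-1 : F) := by
    rw [glElem, ← map_inv, SpecialLinearGroup.transvection_inv]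
    simp [SpecialLinearGroup.transvection_coe, Matrix.transvection, Matrix.transpose_single]
  rw [blkB_mul g', blkB_mul (spLevi _) g', blkD_spLevi, hinv] at hb
  simp [hC] at hb
  change (blkB g' * Matrix.transvection l i₁ (-1 : F)) i₁ l =
    (Matrix.transvection i₁ l (1 : F) * blkB g') i₁ l at hb
  simp [Matrix.mul_transvection_apply_of_ne _ _ _ _ (Ne.symm hi₁)] at hb
  exact hb

theorem torus_mem_closure {H : Subgroup (Cfsg.spGL m F)}
    (hshort : ∀ (k k' : Fin m), k'.1 = k.1 + 1 → ∀ a : Fˣ,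
      spLevi (glDiag (shortCoroot k k' a)) ∈ H)
    (hlong : ∀ l : Fin m, l.1 + 1 = m → ∀ a : Fˣ, spLevi (glDiag (Pi.mulSingle l a)) ∈ H)
    (d : Fin m → Fˣ) : spLevi (glDiag d) ∈ H := by
  let K : Subgroup (Fin m → Fˣ) := H.comap (spLevi.comp glDiag)
  have hsingle : ∀ (n : ℕ) (k : Fin m), k.1 + n + 1 = m → ∀ a : Fˣ, Pi.mulSingle k a ∈ K := by
    intro n
    induction n with
    | zero => intro k hk a; exact hlong k (by omega) a
    | succ n ih =>
      intro k hk a
      set k' : Fin m := ⟨k.1 + 1, by omega⟩ with hk'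
      have h1 : shortCoroot k k' a ∈ K := hshort k k' rfl a
      have h2 := mul_mem h1 (ih k' (by change k.1 + 1 + n + 1 = m; omega) a)
      rwa [shortCoroot, mul_assoc, ← Pi.mulSingle_mul, inv_mul_cancel, Pi.mulSingle_one,
        mul_one] at h2
  have hd : ∏ i, Pi.mulSingle i (d i) ∈ K :=
    prod_mem fun i _ => hsingle (m - i.1 - 1) i (by omega) _
  rwa [Finset.univ_prod_mulSingle] at hd

end Cfsg.Agent.Linear
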