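import Cfsg.Agent.EqLemmas
import Cfsg.Agent.Lib.PrimeOrderElt.Subfield

/-!
# Conjugating involutions (modulo scalars) into subfield subgroups

`mem_of_model`, `mem_of_square` (odd characteristic, square scalar) and `mem_of_char_two`.
-/

set_option autoImplicit false
open Matrix

namespace Cfsg.Agent.Linear

open Cfsg.Agent.PrimeOrderElt

variable {F : Type*} [Field F] {n : ℕ}

/-- A matrix with scalar-multiple-of-rational image in some basis, whose centraliser has every
determinant, is conjugate in `SL` into the subfield group. -/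
theorem mem_of_model (F₀ : Subfield F) (x : Matrix.SpecialLinearGroup (Fin n) F) (Q : GL (Fin n) F)
    (M₀ : Matrix (Fin n) (Fin n) F₀) (c : F) (hc : c ≠ 0)
    (hQ : (x : Matrix (Fin n) (Fin n) F) * Q = (Q : Matrix (Fin n) (Fin n) F) * (c • M₀.map F₀.subtype))
    (hdet : ∀ d : F, d ≠ 0 → ∃ C : Matrix (Fin n) (Fin n) F, C.det = d ∧
      C * (x : Matrix (Fin n) (Fin n) F) = (x : Matrix (Fin n) (Fin n) F) * C) :
    ∃ P : Matrix.SpecialLinearGroup (Fin n) F, P⁻¹ * x * P ∈ (Cfsg.Geo.subfieldSubgroup F₀ 1).comap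
      (Matrix.SpecialLinearGroup.toGL : Matrix.SpecialLinearGroup (Fin n) F →* GL (Fin n) F) := by
  obtain ⟨C, hCd, hC⟩ := hdet _ (inv_ne_zero Q.det_ne_zero)
  let P : Matrix.SpecialLinearGroup (Fin n) F :=
    ⟨C * Q, by rw [Matrix.det_mul, hCd, inv_mul_cancel₀ Q.det_ne_zero]⟩
  have hPv : (P : Matrix (Fin n) (Fin n) F) = C * Q := rfl
  have hM : M₀.det ≠ 0 := by
    intro h
    have h1 := congrArg Matrix.det hQ
    rw [Matrix.det_mul, x.2, one_mul, Matrix.det_mul, Matrix.det_smul,
      show (M₀.map F₀.subtype).det = F₀.subtype M₀.det from (RingHom.map_det F₀.subtype M₀).symm, h,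
      map_zero, mul_zero, mul_zero] at h1
    exact Q.det_ne_zero h1
  refine ⟨P, ?_⟩
  rw [Subgroup.mem_comap, mem_subfieldSubgroup_one]
  refine ⟨GeneralLinearGroup.mkOfDetNeZero M₀ hM, Units.mk0 c hc, ?_⟩
  show ((P⁻¹ * x * P : Matrix.SpecialLinearGroup (Fin n) F) : Matrix (Fin n) (Fin n) F) = c • M₀.map F₀.subtype
  have h1 : ((P⁻¹ : Matrix.SpecialLinearGroup (Fin n) F) : Matrix (Fin n) (Fin n) F) * (P : Matrix (Fin n) (Fin n) F) = 1 := by
    rw [← Matrix.SpecialLinearGroup.coe_mul, inv_mul_cancel, Matrix.SpecialLinearGroup.coe_one]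
  rw [Matrix.SpecialLinearGroup.coe_mul, Matrix.SpecialLinearGroup.coe_mul, mul_assoc, hPv,
    ← mul_assoc (x : Matrix (Fin n) (Fin n) F), ← hC, mul_assoc C, hQ, ← mul_assoc C, ← hPv,
    ← mul_assoc, h1, one_mul]

/-- Diagonalisable case: `x² = c²`, odd characteristic. -/
theorem mem_of_square (F₀ : Subfield F) (x : Matrix.SpecialLinearGroup (Fin n) F) (c : F) (hc : c ≠ 0)
    (hn : 0 < n) (h2 : (2 : F) ≠ 0)
    (hx : (x : Matrix (Fin n) (Fin n) F) * x = (c * c) • (1 : Matrix (Fin n) (Fin n) F)) :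
    ∃ P : Matrix.SpecialLinearGroup (Fin n) F, P⁻¹ * x * P ∈ (Cfsg.Geo.subfieldSubgroup F₀ 1).comap
      (Matrix.SpecialLinearGroup.toGL : Matrix.SpecialLinearGroup (Fin n) F →* GL (Fin n) F) := by
  classical
  set A : Matrix (Fin n) (Fin n) F := (x : Matrix (Fin n) (Fin n) F) with hA
  let Ep := Module.End.eigenspace (Matrix.toLin' A) c
  let Em := Module.End.eigenspace (Matrix.toLin' A) (-c)
  have hp : ∀ v, v ∈ Ep ↔ A *ᵥ v = c • v := fun v => by simp [Ep]
  have hm : ∀ v, v ∈ Em ↔ A *ᵥ v = (-c) • v := fun v => by simp [Em]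
  have hAA : ∀ v, A *ᵥ (A *ᵥ v) = (c * c) • v := fun v => by
    rw [Matrix.mulVec_mulVec, hx, Matrix.smul_mulVec, Matrix.one_mulVec]
  have hcompl : IsCompl Ep Em := by
    refine ⟨?_, ?_⟩
    · rw [disjoint_iff_inf_le]
      rintro v ⟨h1, h3⟩
      have hv : (2 * c) • v = 0 := by
        have := ((hp v).1 h1).symm.trans ((hm v).1 h3)
        rw [neg_smul, eq_neg_iff_add_eq_zero, ← add_smul] at this
        rwa [two_mul]
      exact (smul_eq_zero.1 hv).resolve_left (mul_ne_zero h2 hc)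
    · rw [codisjoint_iff_le_sup]
      intro v _
      rw [Submodule.mem_sup]
      refine ⟨(2 : F)⁻¹ • (v + c⁻¹ • (A *ᵥ v)), (hp _).2 ?_, (2 : F)⁻¹ • (v - c⁻¹ • (A *ᵥ v)), (hm _).2 ?_, ?_⟩
      · rw [Matrix.mulVec_smul, Matrix.mulVec_add, Matrix.mulVec_smul, hAA]
        match_scalars <;> field_simp
      · rw [Matrix.mulVec_smul, Matrix.mulVec_sub, Matrix.mulVec_smul, hAA]
        match_scalars <;> field_simp
      · match_scalars <;> field_simp <;> ring
  have hsum := Submodule.finrank_add_eq_of_isCompl hcompl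
  rw [Module.finrank_fin_fun] at hsum
  let B := ((Module.finBasis F Ep).prod (Module.finBasis F Em)).map (Submodule.prodEquivOfIsCompl _ _ hcompl)
  let ε := finSumFinEquiv.trans (finCongr hsum)
  let sgn : Fin n → F₀ := fun k => Sum.elim (fun _ => 1) (fun _ => -1) (ε.symm k)
  let Qm : Matrix (Fin n) (Fin n) F := Matrix.of fun r k => B (ε.symm k) r
  have hQ : Qm.det ≠ 0 := by
    have hu : LinearIndependent F Qm.col := B.linearIndependent.comp _ ε.symm.injective
    exact ((Matrix.isUnit_iff_isUnit_det Qm).mp (Matrix.linearIndependent_cols_iff_isUnit.mp hu)).ne_zero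
  have hM : c • (Matrix.diagonal sgn).map F₀.subtype = Matrix.diagonal (fun k => c * (sgn k : F)) := by
    rw [Matrix.diagonal_map (map_zero _), ← Matrix.diagonal_smul]; rfl
  have hAQ : A * Qm = Qm * (c • (Matrix.diagonal sgn).map F₀.subtype) := by
    rw [hM]
    ext r k
    obtain ⟨s, rfl⟩ := ε.surjective k
    rw [Matrix.mul_diagonal]
    have h1 : (A * Qm) r (ε s) = (A *ᵥ B s) r := by simp [Matrix.mul_apply, Matrix.mulVec, dotProduct, Qm]
    rw [h1]
    rcases s with i | i
    · have hmem : B (Sum.inl i) ∈ Ep := by simp [B]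
      rw [(hp _).1 hmem]
      simp [Qm, sgn, mul_comm]
    · have hmem : B (Sum.inr i) ∈ Em := by simp [B]
      rw [(hm _).1 hmem]
      simp [Qm, sgn, mul_comm]
  refine mem_of_model F₀ x (GeneralLinearGroup.mkOfDetNeZero Qm hQ) (Matrix.diagonal sgn) c hc hAQ ?_
  intro d hd
  set Qu := GeneralLinearGroup.mkOfDetNeZero Qm hQ with hQu
  set D : Matrix (Fin n) (Fin n) F := Matrix.diagonal (Function.update 1 ⟨0, hn⟩ d) with hD
  refine ⟨Qm * D * ((Qu⁻¹ : GL (Fin n) F) : Matrix (Fin n) (Fin n) F), ?_, ?_⟩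
  · rw [Matrix.det_mul, Matrix.det_mul, mul_right_comm, ← Matrix.det_mul,
      show Qm * ((Qu⁻¹ : GL (Fin n) F) : Matrix (Fin n) (Fin n) F) = 1 from Qu.mul_inv, Matrix.det_one,
      one_mul, hD, Matrix.det_diagonal, Finset.prod_update_of_mem (Finset.mem_univ _)]
    simp
  · have hAQ' : A = Qm * Matrix.diagonal (fun k => c * (sgn k : F)) * ((Qu⁻¹ : GL (Fin n) F) : Matrix (Fin n) (Fin n) F) := by
      rw [← hM, ← hAQ, mul_assoc, show Qm * ((Qu⁻¹ : GL (Fin n) F) : Matrix (Fin n) (Fin n) F) = 1 from Qu.mul_inv, mul_one]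
    have hcan : ((Qu⁻¹ : GL (Fin n) F) : Matrix (Fin n) (Fin n) F) * Qm = 1 := Qu.inv_mul
    show _ * A = A * _
    rw [hAQ']
    simp only [mul_assoc]
    rw [← mul_assoc _ Qm, hcan, one_mul, ← mul_assoc _ Qm, hcan, one_mul, ← mul_assoc D, ← mul_assoc (Matrix.diagonal _),
      hD, Matrix.diagonal_mul_diagonal, Matrix.diagonal_mul_diagonal]
    congr 2
    exact congrArg Matrix.diagonal (funext fun k => mul_comm _ _)

/-- Characteristic two: `x² = c²`. -/
theorem mem_of_char_two [Fintype F] (F₀ : Subfield F) (x : Matrix.SpecialLinearGroup (Fin n) F) (c : F)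
    (hc : c ≠ 0) (h2 : (2 : F) = 0) (hx : (x : Matrix (Fin n) (Fin n) F) * x = (c * c) • (1 : Matrix (Fin n) (Fin n) F))
    (hns : ∀ z : F, (x : Matrix (Fin n) (Fin n) F) ≠ z • 1) :
    ∃ P : Matrix.SpecialLinearGroup (Fin n) F, P⁻¹ * x * P ∈ (Cfsg.Geo.subfieldSubgroup F₀ 1).comap
      (Matrix.SpecialLinearGroup.toGL : Matrix.SpecialLinearGroup (Fin n) F →* GL (Fin n) F) := by
  classical
  have hr : ringChar F = 2 := by
    have : CharP F 2 := CharTwo.of_one_ne_zero_of_two_eq_zero one_ne_zero h2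
    exact ringChar.eq F 2
  set A : Matrix (Fin n) (Fin n) F := (x : Matrix (Fin n) (Fin n) F) with hA
  set g : Module.End F (Fin n → F) := Matrix.toLin' (A - c • 1) with hg
  have hN2 : (A - c • 1) * (A - c • 1) = 0 := by
    simp only [mul_sub, sub_mul, Matrix.mul_smul, Matrix.smul_mul, one_mul, mul_one, hx]
    match_scalars <;> first | linear_combination (c * c) * h2 | linear_combination (-c) * h2
  have hgg : ∀ v, g (g v) = 0 := fun v => by
    simp only [hg, Matrix.toLin'_apply, Matrix.mulVec_mulVec, hN2, Matrix.zero_mulVec]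
  have hAg : ∀ v, A *ᵥ v = c • v + g v := fun v => by
    simp [hg, Matrix.sub_mulVec, Matrix.smul_mulVec]
  obtain ⟨X, hX⟩ := Submodule.exists_isCompl (LinearMap.ker g)
  obtain ⟨Z, hZ⟩ := Submodule.exists_isCompl (LinearMap.range g)
  set Y : Submodule F (Fin n → F) := Z ⊓ LinearMap.ker g with hYdef
  have hrk : LinearMap.range g ≤ LinearMap.ker g := by rintro _ ⟨w, rfl⟩; exact hgg w
  have hYsup : LinearMap.range g ⊔ Y = LinearMap.ker g := by
    rw [hYdef, ← sup_inf_assoc_of_le Z hrk, hZ.sup_eq_top, top_inf_eq]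
  have hYinf : LinearMap.range g ⊓ Y = ⊥ := by
    rw [hYdef, ← inf_assoc, hZ.inf_eq_bot, bot_inf_eq]
  let bX := Module.finBasis F X
  let bY := Module.finBasis F Y
  let fam : (Fin (Module.finrank F X) ⊕ Fin (Module.finrank F X)) ⊕ Fin (Module.finrank F Y) → Fin n → F :=
    Sum.elim (Sum.elim (fun i => g (bX i)) (fun i => (bX i : Fin n → F))) (fun i => (bY i : Fin n → F))
  have hXz : ∀ d : Fin (Module.finrank F X) → F, g (∑ i, d i • (bX i : Fin n → F)) = 0 → ∀ i, d i = 0 := by
    intro d hd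
    have hmem : ∑ i, d i • (bX i : Fin n → F) ∈ LinearMap.ker g ⊓ X :=
      ⟨hd, X.sum_mem fun i _ => X.smul_mem _ (bX i).2⟩
    rw [hX.inf_eq_bot, Submodule.mem_bot] at hmem
    refine Fintype.linearIndependent_iff.mp bX.linearIndependent d (Subtype.ext ?_)
    simpa using hmem
  have hind : LinearIndependent F fam := by
    rw [Fintype.linearIndependent_iff]
    intro a ha
    simp only [Fintype.sum_sum_type, fam, Sum.elim_inl, Sum.elim_inr] at ha
    have hker : ∀ i, g (bY i : Fin n → F) = 0 := fun i => (bY i).2.2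
    have h1 := congrArg g ha
    simp only [map_add, map_sum, map_smul, hgg, hker, smul_zero, Finset.sum_const_zero, zero_add, add_zero, map_zero] at h1
    have hr1 : ∀ i, a (Sum.inl (Sum.inr i)) = 0 := hXz _ (by simpa [map_sum, map_smul] using h1)
    simp only [hr1, zero_smul, Finset.sum_const_zero, add_zero] at ha
    set y : Fin n → F := ∑ i, a (Sum.inr i) • (bY i : Fin n → F) with hy
    have hy2 : y = 0 := by
      have hyY : y ∈ Y := Y.sum_mem fun i _ => Y.smul_mem _ (bY i).2
      have hyR : y ∈ LinearMap.range g := by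
        refine ⟨-∑ i, a (Sum.inl (Sum.inl i)) • (bX i : Fin n → F), ?_⟩
        rw [map_neg, map_sum, neg_eq_iff_add_eq_zero, ← ha, hy]
        simp [map_smul]
      have h3 : y ∈ LinearMap.range g ⊓ Y := ⟨hyR, hyY⟩
      rwa [hYinf, Submodule.mem_bot] at h3
    have hr3 : ∀ i, a (Sum.inr i) = 0 := by
      refine Fintype.linearIndependent_iff.mp bY.linearIndependent _ (Subtype.ext ?_)
      simpa [hy] using hy2
    rw [hy2, add_zero] at ha
    have hr0 : ∀ i, a (Sum.inl (Sum.inl i)) = 0 := hXz _ (by simpa [map_sum, map_smul] using ha)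
    rintro ((i | i) | i)
    exacts [hr0 i, hr1 i, hr3 i]
  have hcard : Fintype.card ((Fin (Module.finrank F X) ⊕ Fin (Module.finrank F X)) ⊕ Fin (Module.finrank F Y)) = n := by
    simp only [Fintype.card_sum, Fintype.card_fin]
    have h1 := Submodule.finrank_add_eq_of_isCompl hX
    have h4 := LinearMap.finrank_range_add_finrank_ker g
    have h5 := Submodule.finrank_sup_add_finrank_inf_eq (LinearMap.range g) Y
    rw [hYsup, hYinf, finrank_bot, add_zero] at h5
    rw [Module.finrank_fin_fun] at h1 h4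
    omega
  let ε := Fintype.equivFinOfCardEq hcard
  let Qm : Matrix (Fin n) (Fin n) F := Matrix.of fun r k => fam (ε.symm k) r
  have hQ : Qm.det ≠ 0 := by
    have hu : LinearIndependent F Qm.col := hind.comp _ ε.symm.injective
    exact ((Matrix.isUnit_iff_isUnit_det Qm).mp (Matrix.linearIndependent_cols_iff_isUnit.mp hu)).ne_zero
  let N : Matrix (Fin n) (Fin n) F₀ := Matrix.of fun r k =>
    Sum.elim (Sum.elim (fun _ => (0 : F₀)) (fun i => if r = ε (Sum.inl (Sum.inl i)) then 1 else 0)) (fun _ => 0) (ε.symm k)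
  set N' : Matrix (Fin n) (Fin n) F := N.map F₀.subtype with hN'
  have hQN : (A - c • 1) * Qm = Qm * N' := by
    ext r k
    obtain ⟨s, rfl⟩ := ε.surjective k
    have h1 : ((A - c • 1) * Qm) r (ε s) = g (fam s) r := by
      rw [hg, Matrix.toLin'_apply]
      simp only [Matrix.mul_apply, Matrix.mulVec, dotProduct, Qm, Matrix.of_apply, Equiv.symm_apply_apply]
    rw [h1]
    rcases s with (i | i) | i
    · simp [fam, hgg, hN', N, Matrix.mul_apply]
    · rw [Matrix.mul_apply, Finset.sum_eq_single (ε (Sum.inl (Sum.inl i)))]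
      · simp [fam, hN', N, Qm]
      · intro j _ hj; simp [hN', N, hj]
      · simp
    · simp [fam, hN', N, Matrix.mul_apply, LinearMap.mem_ker.1 (bY i).2.2]
  have hX0 : 0 < Module.finrank F X := by
    rw [Nat.pos_iff_ne_zero]
    intro h0
    apply hns c
    have hker : LinearMap.ker g = ⊤ := by
      have := hX.sup_eq_top
      rwa [Submodule.finrank_eq_zero.1 h0, sup_bot_eq] at this
    refine sub_eq_zero.1 (Matrix.toLin'.injective ?_)
    rw [map_zero]
    exact LinearMap.ker_eq_top.1 hker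
  set Qu := GeneralLinearGroup.mkOfDetNeZero Qm hQ with hQu
  have hQi : Qm * ((Qu⁻¹ : GL (Fin n) F) : Matrix (Fin n) (Fin n) F) = 1 := Qu.mul_inv
  have hQi' : ((Qu⁻¹ : GL (Fin n) F) : Matrix (Fin n) (Fin n) F) * Qm = 1 := Qu.inv_mul
  have hcen : ∀ d : F, d ≠ 0 → ∃ C : Matrix (Fin n) (Fin n) F, C.det = d ∧ C * A = A * C := by
    intro d hd
    obtain ⟨u, hu⟩ := FiniteField.isSquare_of_char_two hr d
    let i0 : Fin (Module.finrank F X) := ⟨0, hX0⟩
    let w : (Fin (Module.finrank F X) ⊕ Fin (Module.finrank F X)) ⊕ Fin (Module.finrank F Y) → F :=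
      Sum.elim (Sum.elim (fun i => if i = i0 then u else 1) (fun i => if i = i0 then u else 1)) (fun _ => 1)
    set D : Matrix (Fin n) (Fin n) F := Matrix.diagonal (fun k => w (ε.symm k)) with hD
    refine ⟨Qm * D * ((Qu⁻¹ : GL (Fin n) F) : Matrix (Fin n) (Fin n) F), ?_, ?_⟩
    · rw [Matrix.det_mul, Matrix.det_mul, mul_right_comm, ← Matrix.det_mul, hQi, Matrix.det_one, one_mul,
        hD, Matrix.det_diagonal, ← ε.prod_comp, Fintype.prod_sum_type, Fintype.prod_sum_type]
      simp [w, hu]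
    · have hDN : D * N' = N' * D := by
        ext r k
        rw [hD, Matrix.mul_diagonal, Matrix.diagonal_mul]
        obtain ⟨s, rfl⟩ := ε.surjective k
        rcases s with (i | i) | i
        · simp [hN', N]
        · by_cases hr' : r = ε (Sum.inl (Sum.inl i))
          · subst hr'; simp [hN', N, w]
          · simp [hN', N, hr']
        · simp [hN', N]
      have hA' : A = Qm * (c • 1 + N') * ((Qu⁻¹ : GL (Fin n) F) : Matrix (Fin n) (Fin n) F) := by
        rw [mul_add, ← hQN, Matrix.mul_smul, mul_one, sub_mul, Matrix.smul_mul, one_mul, add_sub_cancel,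
          mul_assoc, hQi, mul_one]
      have hcomm : D * (c • 1 + N') = (c • 1 + N') * D := by
        rw [mul_add, add_mul, hDN, Matrix.mul_smul, Matrix.smul_mul, mul_one, one_mul]
      rw [hA']
      calc Qm * D * ((Qu⁻¹ : GL (Fin n) F) : Matrix (Fin n) (Fin n) F) *
            (Qm * (c • 1 + N') * ((Qu⁻¹ : GL (Fin n) F) : Matrix (Fin n) (Fin n) F))
          = Qm * (D * ((((Qu⁻¹ : GL (Fin n) F) : Matrix (Fin n) (Fin n) F) * Qm) * (c • 1 + N'))) *
              ((Qu⁻¹ : GL (Fin n) F) : Matrix (Fin n) (Fin n) F) := by simp only [mul_assoc]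
        _ = Qm * ((c • 1 + N') * ((((Qu⁻¹ : GL (Fin n) F) : Matrix (Fin n) (Fin n) F) * Qm) * D)) *
              ((Qu⁻¹ : GL (Fin n) F) : Matrix (Fin n) (Fin n) F) := by rw [hQi', one_mul, one_mul, hcomm]
        _ = _ := by simp only [mul_assoc]
  refine mem_of_model F₀ x (Qu * GeneralLinearGroup.mkOfDetNeZero
    (Matrix.diagonal fun k => Sum.elim (Sum.elim (fun _ => (c⁻¹ : F)) (fun _ => 1)) (fun _ => 1) (ε.symm k)) ?_)
    (1 + N) c hc ?_ ?_
  · rw [Matrix.det_diagonal, Finset.prod_ne_zero_iff]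
    intro k _
    rcases ε.symm k with (i | i) | i <;> simp [hc]
  · show A * (Qm * _) = Qm * _ * _
    rw [← mul_assoc, show A * Qm = Qm * (c • 1 + N') by
      rw [mul_add, ← hQN, Matrix.mul_smul, mul_one, sub_mul, Matrix.smul_mul, one_mul]; abel,
      mul_assoc, mul_assoc]
    congr 1
    rw [Matrix.map_add _ (map_add _), Matrix.map_one _ (map_zero _) (map_one _), ← hN', smul_add, mul_add, add_mul]
    congr 1
    · show _ = (Matrix.diagonal _) * (c • 1)
      rw [Matrix.smul_mul, one_mul, Matrix.mul_smul, mul_one]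
      rfl
    · show N' * Matrix.diagonal _ = Matrix.diagonal _ * (c • N')
      ext r k
      rw [Matrix.mul_diagonal, Matrix.diagonal_mul]
      obtain ⟨s, rfl⟩ := ε.surjective k
      rcases s with (i | i) | i
      · simp [hN', N]
      · by_cases hr : r = ε (Sum.inl (Sum.inl i))
        · subst hr; simp [hN', N, hc]
        · simp [hN', N, hr]
      · simp [hN', N]
  · exact hcen

end Cfsg.Agent.Linear
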