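import Cfsg.Agent.Lib.Unitary.Simple

/-!
# Eichler elements of `SU_n(q)`

* `eichMat v w c` : `x ↦ x + h(x,w) v - h(x,v) w + c h(x,v) v`; `eich` : the same inside `SU`
* product, conjugation and order of these elements
* `eich_pair` : for orthogonal isotropic `y`, `r` the element `eich y r 0` is a product of three
  transvections
* `rankOne` : `x ↦ x + s h(x,w) v`, of determinant `1 + s h(v,w)`
-/

set_option autoImplicit false

namespace Cfsg.Agent.UFus

open scoped Matrix
open Cfsg.Agent.Unitary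

variable {F : Type*} [Field F] {q n : ℕ}

/-- `x ↦ x + s h(x,w) v`. -/
def rankOne (q : ℕ) (v w : Fin n → F) (s : F) : Matrix (Fin n) (Fin n) F :=
  1 + s • Matrix.vecMulVec v (fun j => w j ^ q)

theorem dot_conj (x w : Fin n → F) : (fun j => w j ^ q) ⬝ᵥ x = Cfsg.hermForm n F q x w := by
  simp [dotProduct, Cfsg.hermForm, mul_comm]

theorem rankOne_mulVec (v w x : Fin n → F) (s : F) :
    rankOne q v w s *ᵥ x = x + (s * Cfsg.hermForm n F q x w) • v := by
  rw [rankOne, Matrix.add_mulVec, Matrix.one_mulVec, Matrix.smul_mulVec,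
    Matrix.vecMulVec_mulVec, dot_conj, op_smul_eq_smul, smul_smul]

theorem rankOne_det (v w : Fin n → F) (s : F) :
    (rankOne q v w s).det = 1 + s * Cfsg.hermForm n F q v w := by
  rw [rankOne, ← Matrix.smul_vecMulVec, Matrix.vecMulVec_eq Unit,
    Matrix.det_one_add_replicateCol_mul_replicateRow, dotProduct_smul, dot_conj, smul_eq_mul]

/-- The Eichler matrix. -/
def eichMat (q : ℕ) (v w : Fin n → F) (c : F) : Matrix (Fin n) (Fin n) F :=
  1 + Matrix.vecMulVec v (fun j => w j ^ q) - Matrix.vecMulVec w (fun j => v j ^ q) +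
    c • Matrix.vecMulVec v (fun j => v j ^ q)

theorem eichMat_mulVec (v w x : Fin n → F) (c : F) :
    eichMat q v w c *ᵥ x = x + (Cfsg.hermForm n F q x w + c * Cfsg.hermForm n F q x v) • v -
      Cfsg.hermForm n F q x v • w := by
  rw [eichMat, Matrix.add_mulVec, Matrix.sub_mulVec, Matrix.add_mulVec, Matrix.one_mulVec,
    Matrix.smul_mulVec, Matrix.vecMulVec_mulVec, Matrix.vecMulVec_mulVec,
    Matrix.vecMulVec_mulVec, dot_conj, dot_conj]
  simp only [op_smul_eq_smul, smul_smul]
  module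

variable [Fintype F]

/-- The conditions under which `eichMat` preserves the form. -/
structure Ok (q : ℕ) (v w : Fin n → F) (c : F) : Prop where
  iso : Cfsg.hermForm n F q v v = 0
  orth : Cfsg.hermForm n F q w v = 0
  trace : c + c ^ q = -Cfsg.hermForm n F q w w

variable (hF : Fintype.card F = q ^ 2)
include hF

theorem eichMat_isUnitary {v w : Fin n → F} {c : F} (h : Ok q v w c) :
    IsUnitary q (eichMat q v w c) := by
  intro x y
  have H := hermForm_isHerm hF n
  have hvw : Cfsg.hermForm n F q v w = 0 := (H.eq_zero_symm hF).1 h.orth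
  rw [eichMat_mulVec, eichMat_mulVec]
  simp only [H.add_left, H.add_right hF, H.sub_left, H.sub_right hF, H.smul_left, H.smul_right,
    h.iso, h.orth, hvw, mul_zero, add_zero, sub_zero, add_pow_q hF, mul_pow]
  rw [H.conj_symm y v, H.conj_symm y w]
  linear_combination (Cfsg.hermForm n F q x v * Cfsg.hermForm n F q y v ^ q) * h.trace

theorem ok_add {v w w' : Fin n → F} {c c' : F} (h : Ok q v w c) (h' : Ok q v w' c') :
    Ok q v (w + w') (c + c' - Cfsg.hermForm n F q w' w) := by
  have H := hermForm_isHerm hF n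
  refine ⟨h.iso, by rw [H.add_left, h.orth, h'.orth, add_zero], ?_⟩
  rw [H.add_left, H.add_right hF, H.add_right hF, sub_pow_q hF, add_pow_q hF, H.conj_symm w' w]
  linear_combination h.trace + h'.trace

theorem eichMat_mul {v w w' : Fin n → F} {c c' : F} (_h : Ok q v w c) (h' : Ok q v w' c') :
    eichMat q v w c * eichMat q v w' c' =
      eichMat q v (w + w') (c + c' - Cfsg.hermForm n F q w' w) := by
  have H := hermForm_isHerm hF n
  refine Matrix.ext_iff_mulVec.2 fun x => ?_
  rw [← Matrix.mulVec_mulVec, eichMat_mulVec, eichMat_mulVec, eichMat_mulVec]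
  simp only [H.add_left, H.add_right hF, H.sub_left, H.smul_left, h'.iso, h'.orth,
    (H.eq_zero_symm hF).1 _h.orth, mul_zero, add_zero, sub_zero]
  module

theorem eichMat_zero (v : Fin n → F) : eichMat q v 0 (0 : F) = 1 := by
  refine Matrix.ext_iff_mulVec.2 fun x => ?_
  rw [eichMat_mulVec, (hermForm_isHerm hF n).zero_right hF, Matrix.one_mulVec]
  simp

theorem eichMat_pow {v w : Fin n → F} {c : F} (h : Ok q v w c) (k : ℕ) :
    ∃ c', Ok q v ((k : F) • w) c' ∧ eichMat q v w c ^ k = eichMat q v ((k : F) • w) c' ∧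
      (w = 0 → c' = (k : F) * c) := by
  induction k with
  | zero =>
    refine ⟨0, ⟨h.iso, ?_, ?_⟩, ?_, fun _ => by simp⟩
    · rw [Nat.cast_zero, zero_smul]; exact (hermForm_isHerm hF n).zero_left v
    · rw [Nat.cast_zero, zero_smul, zero_pow_q hF, (hermForm_isHerm hF n).zero_left]; simp
    · rw [pow_zero, Nat.cast_zero, zero_smul, eichMat_zero hF]
  | succ k ih =>
    obtain ⟨c', hok, e, hc'⟩ := ih
    have hw : ((k + 1 : ℕ) : F) • w = (k : F) • w + w := by
      rw [Nat.cast_succ, add_smul, one_smul]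
    refine ⟨_, hw ▸ ok_add hF hok h, ?_, fun h0 => ?_⟩
    · rw [pow_succ, e, eichMat_mul hF hok h, hw]
    · rw [hc' h0, h0, (hermForm_isHerm hF n).zero_left, sub_zero, Nat.cast_succ]
      ring

theorem exists_pow_char : ∃ p : ℕ, p.Prime ∧ CharP F p :=
  let ⟨p, hp⟩ := CharP.exists F
  ⟨p, CharP.char_is_prime F p, hp⟩

theorem eichMat_pow_sq {v w : Fin n → F} {c : F} (h : Ok q v w c) (p : ℕ) [CharP F p] :
    eichMat q v w c ^ (p * p) = 1 := by
  obtain ⟨c', hok, e, -⟩ := eichMat_pow hF h p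
  rw [CharP.cast_eq_zero, zero_smul] at hok e
  obtain ⟨c'', -, e', hc''⟩ := eichMat_pow hF hok p
  rw [CharP.cast_eq_zero, zero_smul] at e'
  rw [pow_mul, e, e', hc'' rfl, CharP.cast_eq_zero, zero_mul, eichMat_zero hF]

omit hF [Fintype F] in
theorem det_eq_one_of_pow (p : ℕ) [Fact p.Prime] [CharP F p] {M : Matrix (Fin n) (Fin n) F} {k : ℕ}
    (h : M ^ p ^ k = 1) : M.det = 1 := by
  have h1 : M.det ^ p ^ k = 1 := by rw [← Matrix.det_pow, h, Matrix.det_one]
  have h2 : (M.det - 1) ^ p ^ k = 0 := by rw [sub_pow_char_pow, one_pow, h1, sub_self]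
  exact sub_eq_zero.1 (pow_eq_zero_iff (pow_ne_zero _ (Fact.out : p.Prime).ne_zero) |>.1 h2)

theorem eichMat_det {v w : Fin n → F} {c : F} (h : Ok q v w c) :
    (eichMat q v w c).det = 1 := by
  obtain ⟨p, hp⟩ := CharP.exists F
  haveI : Fact p.Prime := ⟨CharP.char_is_prime F p⟩
  exact det_eq_one_of_pow p (k := 2) (by rw [sq]; exact eichMat_pow_sq hF h p)

/-- The Eichler element of `SU`. -/
def eich {v w : Fin n → F} {c : F} (h : Ok q v w c) : Cfsg.SU n F q :=
  suOfUnitary _ (eichMat_isUnitary hF h) (eichMat_det hF h)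

theorem suAct_eich {v w : Fin n → F} {c : F} (h : Ok q v w c) (x : Fin n → F) :
    suAct (eich hF h) x = x + (Cfsg.hermForm n F q x w + c * Cfsg.hermForm n F q x v) • v -
      Cfsg.hermForm n F q x v • w :=
  eichMat_mulVec v w x c

theorem eich_mul {v w w' : Fin n → F} {c c' : F} (h : Ok q v w c) (h' : Ok q v w' c') :
    eich hF h * eich hF h' = eich hF (ok_add hF h h') :=
  Subtype.ext (Subtype.ext (eichMat_mul hF h h'))

theorem eich_congr {v w v' w' : Fin n → F} {c c' : F} (h : Ok q v w c) (h' : Ok q v' w' c')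
    (hv : v = v') (hw : w = w') (hc : c = c') : eich hF h = eich hF h' := by
  subst hv hw hc; rfl

theorem ok_zero {v : Fin n → F} (hv : Cfsg.hermForm n F q v v = 0) : Ok q v 0 (0 : F) := by
  have H := hermForm_isHerm hF n
  exact ⟨hv, H.zero_left v, by rw [zero_pow_q hF, H.zero_left]; simp⟩

theorem ok_neg {v w : Fin n → F} {c : F} (h : Ok q v w c) : Ok q v (-w) (c ^ q) := by
  have H := hermForm_isHerm hF n
  refine ⟨h.iso, by rw [H.neg_left, h.orth, neg_zero], ?_⟩
  rw [pow_q_pow_q hF, H.neg_left, H.neg_right hF, neg_neg, add_comm]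
  exact h.trace

theorem eich_inv {v w : Fin n → F} {c : F} (h : Ok q v w c) :
    (eich hF h)⁻¹ = eich hF (ok_neg hF h) := by
  refine inv_eq_of_mul_eq_one_right (suAct_ext fun x => ?_)
  rw [eich_mul, suAct_eich, suAct_one, (hermForm_isHerm hF n).neg_left, add_neg_cancel,
    (hermForm_isHerm hF n).zero_right hF, smul_zero, sub_zero, zero_add, sub_neg_eq_add,
    show c + c ^ q + Cfsg.hermForm n F q w w = 0 by rw [h.trace]; ring, zero_mul, zero_smul,
    add_zero]

theorem eich_pow_sq {v w : Fin n → F} {c : F} (h : Ok q v w c) (p : ℕ) [CharP F p] :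
    eich hF h ^ (p * p) = 1 := by
  apply Subtype.ext
  apply Subtype.ext
  simpa [eich] using eichMat_pow_sq hF h p

theorem ok_conj {v w : Fin n → F} {c : F} (h : Ok q v w c) (g : Cfsg.SU n F q) :
    Ok q (suAct g v) (suAct g w) c :=
  ⟨by rw [suAct_herm, h.iso], by rw [suAct_herm, h.orth], by rw [suAct_herm, h.trace]⟩

theorem eich_conj {v w : Fin n → F} {c : F} (h : Ok q v w c) (g : Cfsg.SU n F q) :
    g * eich hF h * g⁻¹ = eich hF (ok_conj hF h g) := by
  refine suAct_ext fun x => ?_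
  rw [suAct_mul, suAct_mul, suAct_eich, suAct_eich, suAct_sub, suAct_add, suAct_smul, suAct_smul,
    suAct_suAct_inv]
  have e : ∀ y, Cfsg.hermForm n F q (suAct g⁻¹ x) y = Cfsg.hermForm n F q x (suAct g y) := by
    intro y
    rw [← suAct_herm g (suAct g⁻¹ x) y, suAct_suAct_inv]
  rw [e, e]

theorem ok_smul {v w : Fin n → F} {c : F} (h : Ok q v w c) (l : F) :
    Ok q v (l ^ q • w) (c * l ^ (q + 1)) := by
  have H := hermForm_isHerm hF n
  refine ⟨h.iso, by rw [H.smul_left, h.orth, mul_zero], ?_⟩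
  rw [mul_pow, pow_q_succ_fixed hF, H.smul_left, H.smul_right, pow_q_pow_q hF]
  linear_combination (l ^ (q + 1)) * h.trace

theorem eich_smul_left {v w : Fin n → F} {c l : F} (h : Ok q (l • v) w c)
    (h' : Ok q v (l ^ q • w) (c * l ^ (q + 1))) : eich hF h = eich hF h' := by
  refine suAct_ext fun x => ?_
  simp only [suAct_eich, (hermForm_isHerm hF n).smul_right, pow_q_pow_q hF]
  module

theorem ok_shift {v w : Fin n → F} {c : F} (h : Ok q v w c) (t : F) :
    Ok q v (w + t • v) (c + t - t ^ q) := by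
  have H := hermForm_isHerm hF n
  have hvw : Cfsg.hermForm n F q v w = 0 := (H.eq_zero_symm hF).1 h.orth
  refine ⟨h.iso, by rw [H.add_left, H.smul_left, h.orth, h.iso, mul_zero, add_zero], ?_⟩
  simp only [H.add_left, H.add_right hF, H.smul_left, H.smul_right, h.iso, h.orth, hvw, mul_zero,
    add_zero, sub_pow_q hF, add_pow_q hF, pow_q_pow_q hF]
  linear_combination h.trace

theorem eich_shift {v w : Fin n → F} {c : F} (h : Ok q v w c) (t : F) :
    eich hF h = eich hF (ok_shift hF h t) := by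
  refine suAct_ext fun x => ?_
  simp only [suAct_eich, (hermForm_isHerm hF n).add_right hF, (hermForm_isHerm hF n).smul_right]
  module

/-- For orthogonal isotropic `r`, `y`: an Eichler element from three transvections. -/
theorem eich_pair {y r : Fin n → F} (hy : Cfsg.hermForm n F q y y = 0)
    (hr : Cfsg.hermForm n F q r r = 0) (hyr : Cfsg.hermForm n F q y r = 0) :
    ∃ (δ e : F) (h1 : Ok q (r + δ⁻¹ • y) 0 δ) (h2 : Ok q r 0 (-δ)) (h3 : Ok q y 0 e)
      (h : Ok q y r 0), eich hF h = eich hF h1 * (eich hF h2 * eich hF h3) := by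
  have H := hermForm_isHerm hF n
  obtain ⟨δ, hδ0, hδ⟩ := exists_skew hF
  have hry : Cfsg.hermForm n F q r y = 0 := (H.eq_zero_symm hF).1 hyr
  have hv : Cfsg.hermForm n F q (r + δ⁻¹ • y) (r + δ⁻¹ • y) = 0 := by
    simp [H.add_left, H.add_right hF, H.smul_left, H.smul_right, hr, hy, hry, hyr]
  refine ⟨δ, -δ * δ⁻¹ ^ (q + 1), ⟨hv, H.zero_left _, ?_⟩, ⟨hr, H.zero_left _, ?_⟩,
    ⟨hy, H.zero_left _, ?_⟩, ⟨hy, hry, ?_⟩, suAct_ext fun x => ?_⟩
  · rw [H.zero_left, hδ, add_neg_cancel, neg_zero]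
  · rw [H.zero_left, neg_pow_q hF, hδ]; ring
  · rw [H.zero_left, mul_pow, pow_q_succ_fixed hF, neg_pow_q hF, hδ]; ring
  · rw [hr, zero_pow_q hF]; ring
  have e1 : δ⁻¹ ^ q = -δ⁻¹ := by rw [inv_pow, hδ, inv_neg]
  simp only [suAct_mul, suAct_eich, H.add_left, H.smul_left, H.add_right hF, H.smul_right,
    H.zero_right hF, hr, hy, hry, hyr, mul_zero, add_zero, zero_add, zero_mul, sub_zero, smul_zero]
  rw [pow_succ, e1]
  match_scalars <;> field_simp <;> ring

end Cfsg.Agent.UFus
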